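import Groth.Agent.Lib.WildQuot.Ramified
import Groth.Agent.Lib.RegLoc.Normal

/-!
# Invariants of a `p`-cyclic action on a complete regular local ring
-/

set_option linter.style.haveILetI false
set_option linter.unusedSectionVars false

universe u v w

open IsLocalRing

namespace GrothLib.WildQuot

/-- Algebra maps out of `k[[X]]` agreeing on the variables agree. -/
theorem ps_algHom_ext {k : Type v} [Field k] {n : ℕ} {A : Type u} [CommRing A] [Algebra k A]
    (J : Ideal A) [IsHausdorff J A] (f g : MvPowerSeries (Fin n) k →ₐ[k] A)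
    (hfg : ∀ i, f (MvPowerSeries.X i) = g (MvPowerSeries.X i))
    (hf : ∀ i, f (MvPowerSeries.X i) ∈ J) : f = g := by
  apply AlgHom.ext
  intro z
  refine eq_of_sub_eq_zero (IsHausdorff.haus (inferInstance : IsHausdorff J A) _ fun t => ?_)
  rw [SModEq.sub_mem, sub_zero, smul_eq_mul, Ideal.mul_top]
  let c := MvPolynomial.coeToMvPowerSeries.algHom (σ := Fin n) (R := k) k
  have hc : ∀ q : MvPolynomial (Fin n) k, c q = (q : MvPowerSeries (Fin n) k) := fun q => by
    simp [c]
  have hp : f.comp c = g.comp c := MvPolynomial.algHom_ext fun i => by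
    simp only [AlgHom.comp_apply, hc, MvPolynomial.coe_X, hfg]
  set q := MvPowerSeries.truncTotal t z
  have hq : z - (q : MvPowerSeries (Fin n) k) ∈
      Ideal.span (Set.range (MvPowerSeries.X : Fin n → MvPowerSeries (Fin n) k)) ^ t := by
    refine GrothLib.RegLoc.PS.mem_span_X_pow k ?_
    ext m
    rw [MvPolynomial.coeff_zero]
    rcases lt_or_ge m.degree t with h | h
    · rw [MvPowerSeries.coeff_truncTotal _ h, map_sub, MvPolynomial.coeff_coe,
        MvPowerSeries.coeff_truncTotal _ h, sub_self]
    · exact MvPowerSeries.coeff_truncTotal_eq_zero _ h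
  have hq' : f (q : MvPowerSeries (Fin n) k) = g q := by
    rw [← hc]; exact AlgHom.congr_fun hp q
  have hmap : ∀ h : MvPowerSeries (Fin n) k →ₐ[k] A, (∀ i, h (MvPowerSeries.X i) ∈ J) →
      h (z - (q : MvPowerSeries (Fin n) k)) ∈ J ^ t := fun h hh => by
    have h1 := Ideal.mem_map_of_mem h hq
    rw [Ideal.map_pow] at h1
    refine Ideal.pow_right_mono ?_ t h1
    rw [Ideal.map_span, Ideal.span_le]
    rintro _ ⟨_, ⟨i, rfl⟩, rfl⟩
    exact hh i
  have : f z - g z = f (z - (q : MvPowerSeries (Fin n) k)) - g (z - (q : MvPowerSeries (Fin n) k)) := by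
    rw [map_sub, map_sub, hq']; ring
  rw [this]
  exact sub_mem (hmap f hf) (hmap g fun i => hfg i ▸ hf i)

/-- A coefficient field in the universe of the ring. -/
theorem exists_coeff_field {k : Type v} [Field k] {A : Type u} [CommRing A] [IsLocalRing A]
    [Algebra k A] (hk : Function.Surjective (residue A ∘ algebraMap k A))
    {G : Type w} [Group G] [MulSemiringAction G A]
    (hGk : ∀ (σ : G) (c : k), σ • algebraMap k A c = algebraMap k A c) :
    ∃ f : ResidueField A →+* A, Function.Surjective (residue A ∘ f) ∧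
      ∀ (σ : G) (c : ResidueField A), σ • f c = f c := by
  let e : k ≃+* ResidueField A := RingEquiv.ofBijective ((residue A).comp (algebraMap k A))
    ⟨RingHom.injective _, hk⟩
  refine ⟨(algebraMap k A).comp e.symm.toRingHom, fun c => ⟨c, ?_⟩, fun σ c => hGk σ _⟩
  exact e.apply_symm_apply c

/-- Invariants of a normal domain are normal. -/
theorem isIntegrallyClosed_of_isInvariant (B : Type u) (A : Type v) [CommRing B] [IsDomain B]
    [CommRing A] [IsDomain A] [IsIntegrallyClosed A] [Algebra B A] (G : Type w) [Group G]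
    [MulSemiringAction G A] [SMulCommClass G B A] [Algebra.IsInvariant B A G]
    (hi : Function.Injective (algebraMap B A)) : IsIntegrallyClosed B := by
  rw [isIntegrallyClosed_iff (FractionRing B)]
  intro x hx
  obtain ⟨a, s, hs, rfl⟩ := IsFractionRing.div_surjective B x
  have hinj : Function.Injective ((algebraMap A (FractionRing A)).comp (algebraMap B A)) :=
    (IsFractionRing.injective A (FractionRing A)).comp hi
  let L : FractionRing B →+* FractionRing A := IsFractionRing.lift hinj
  have hL : ∀ b, L (algebraMap B (FractionRing B) b) = algebraMap A (FractionRing A) (algebraMap B A b) :=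
    fun b => IsFractionRing.lift_algebraMap hinj b
  have hy : IsIntegral A (L (algebraMap B (FractionRing B) a / algebraMap B (FractionRing B) s)) := by
    obtain ⟨q, hq, hq0⟩ := hx
    refine ⟨q.map (algebraMap B A), hq.map _, ?_⟩
    rw [Polynomial.eval₂_map, ← show L.comp (algebraMap B (FractionRing B)) =
      (algebraMap A (FractionRing A)).comp (algebraMap B A) from RingHom.ext hL,
      ← Polynomial.hom_eval₂, hq0, map_zero]
  obtain ⟨t, ht⟩ := IsIntegrallyClosed.isIntegral_iff.mp hy
  have hs' := IsFractionRing.to_map_ne_zero_of_mem_nonZeroDivisors (K := FractionRing B) hs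
  have hs0 : algebraMap B A s ≠ 0 := fun h => nonZeroDivisors.ne_zero hs (hi (h.trans (map_zero _).symm))
  have hts : algebraMap B A a = t * algebraMap B A s := by
    apply IsFractionRing.injective A (FractionRing A)
    rw [map_mul, ht, ← hL, ← hL, ← map_mul, div_mul_cancel₀ _ hs']
  obtain ⟨c, hc⟩ := Algebra.IsInvariant.isInvariant (A := B) (G := G) t fun σ => by
    have := smul_algebraMap σ a (A := A)
    rw [hts, smul_mul', smul_algebraMap] at this
    exact mul_right_cancel₀ hs0 this
  refine ⟨c, ?_⟩
  rw [eq_div_iff hs', ← map_mul]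
  exact congrArg _ (hi (by rw [map_mul, hc, ← hts]))

variable {p : ℕ} [Fact p.Prime] {A : Type u} [CommRing A] [IsRegularLocalRing A] [CharP A p]
  [IsAdicComplete (maximalIdeal A) A]
  {k : Type u} [Field k] [Algebra k A] (hk : Function.Surjective (residue A ∘ algebraMap k A))
  {G : Type w} [Group G] [Fintype G] [MulSemiringAction G A] (hcard : Fintype.card G = p)
  (hGk : ∀ (σ : G) (c : k), σ • algebraMap k A c = algebraMap k A c)

include hk hGk in
theorem exists_const (t : A) : ∃ c : A, (∀ σ : G, σ • c = c) ∧ t - c ∈ maximalIdeal A := by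
  obtain ⟨c, hc⟩ := hk (residue A t)
  refine ⟨algebraMap k A c, fun σ => hGk σ c, ?_⟩
  rw [← residue_eq_zero_iff, map_sub, ← hc]
  exact sub_self _

include hk hGk in
theorem diff_mem (σ : G) (t : A) : σ • t - t ∈ maximalIdeal A := by
  obtain ⟨c, hcf, hct⟩ := exists_const hk hGk t
  have : σ • t - t = σ • (t - c) - (t - c) := by rw [smul_sub, hcf]; ring
  rw [this]
  exact sub_mem (smul_mem_maximalIdeal σ hct) hct

include hcard in
theorem card_cast_mem : (Fintype.card G : A) ∈ maximalIdeal A := by
  rw [hcard, CharP.cast_eq_zero]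
  exact zero_mem _

include hk hcard hGk in
theorem exists_ps_hom : ∃ (n d : ℕ) (b : Fin d → A) (φ : MvPowerSeries (Fin n) k →ₐ[k] A),
    ringKrullDim A = n ∧ (∀ z, φ z ∈ FixedPoints.subring A G) ∧
      Function.Bijective (fun r : Fin d → MvPowerSeries (Fin n) k => ∑ i, φ (r i) * b i) := by
  classical
  obtain ⟨n, hn, -⟩ := GrothLib.RegLoc.exists_dim_eq (R := A)
  have hGp : IsPGroup p G := IsPGroup.of_card (n := 1) (by
    rw [Nat.card_eq_fintype_card, hcard, pow_one])
  obtain ⟨u, hu⟩ := Groth.Agent.S15792.result p A G hGp (diff_mem hk hGk) n hn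
  have hu1 : Ideal.span (Set.range u) = maximalIdeal A := by simpa using hu fun _ => 1
  set x : Fin n → A := fun i => ∏ σ : G, σ • u i
  have hxm : ∀ i, x i ∈ maximalIdeal A := fun i => by
    rw [show x i = (1 : G) • u i * ∏ σ ∈ Finset.univ.erase (1 : G), σ • u i from
      (Finset.mul_prod_erase _ (fun σ : G => σ • u i) (Finset.mem_univ _)).symm]
    exact Ideal.mul_mem_right _ _ (smul_mem_maximalIdeal 1 (hu1 ▸ Ideal.subset_span ⟨i, rfl⟩))
  have hfix : ∀ i, x i ∈ FixedPoints.subring A G := fun i σ => by
    simp only [x, Finset.smul_prod', ← mul_smul]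
    exact Fintype.prod_equiv (Equiv.mulLeft σ) _ _ fun τ => rfl
  have hrad : (Ideal.span (Set.range x)).radical = maximalIdeal A := by
    refine le_antisymm ?_ ((Groth.Agent.S15790.result A G n u hu1).mpr fun τ => ?_)
    · exact (Ideal.IsPrime.radical_le_iff inferInstance).2
        (Ideal.span_le.2 (Set.range_subset_iff.2 hxm))
    · rw [hu τ]; exact Ideal.le_radical
  obtain ⟨φ, hφ⟩ := GrothLib.RegLoc.PS.exists_algHom (A := k) (maximalIdeal A) x hxm
  obtain ⟨d, b, -, hb⟩ := exists_basis_over_powerSeries n hn hk x hrad φ hφ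
  refine ⟨n, d, b, φ, hn, fun z σ => ?_, hb⟩
  let σ' : A →ₐ[k] A := { MulSemiringAction.toRingHom G A σ with commutes' := hGk σ }
  have := AlgHom.congr_fun (ps_algHom_ext (maximalIdeal A) (σ'.comp φ) φ
    (fun i => by
      show σ • φ (MvPowerSeries.X i) = φ (MvPowerSeries.X i)
      rw [hφ]; exact hfix i σ)
    (fun i => by
      show σ • φ (MvPowerSeries.X i) ∈ _
      rw [hφ]; exact smul_mem_maximalIdeal σ (hxm i))) z
  exact this

theorem isUnit_fixed {b : FixedPoints.subring A G} (hb : IsUnit (b : A)) : IsUnit b := by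
  obtain ⟨e, he⟩ := hb
  refine IsUnit.of_mul_eq_one ⟨↑e⁻¹, fun σ => ?_⟩ (Subtype.ext (by simp [← he]))
  have h1 : σ • (↑e⁻¹ : A) * σ • (b : A) = 1 := by
    rw [← smul_mul', ← he, Units.inv_mul, smul_one]
  rw [b.2 σ, ← he] at h1
  exact Units.eq_inv_of_mul_eq_one_left ((mul_comm _ _).trans h1)

theorem isLocalRing_fixed : IsLocalRing (FixedPoints.subring A G) := by
  refine IsLocalRing.of_isUnit_or_isUnit_one_sub_self fun b => ?_
  rcases IsLocalRing.isUnit_or_isUnit_one_sub_self (b : A) with h | h
  · exact Or.inl (isUnit_fixed h)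
  · exact Or.inr (isUnit_fixed (by simpa using h))

theorem maximalIdeal_fixed [IsLocalRing (FixedPoints.subring A G)] :
    maximalIdeal (FixedPoints.subring A G) =
      Ideal.comap (FixedPoints.subring A G).subtype (maximalIdeal A) := by
  ext b
  simp only [Ideal.mem_comap, mem_maximalIdeal, mem_nonunits_iff]
  exact not_congr ⟨fun h => h.map (FixedPoints.subring A G).subtype, isUnit_fixed⟩

theorem isIntegrallyClosed_fixed : IsIntegrallyClosed (FixedPoints.subring A G) := by
  haveI := GrothLib.CMFree.isDomain_of_isRegularLocalRing A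
  haveI := GrothLib.RegLoc.isIntegrallyClosed_of_isRegularLocalRing A
  haveI : Algebra.IsInvariant (FixedPoints.subring A G) A G := ⟨fun t ht => ⟨⟨t, ht⟩, rfl⟩⟩
  exact isIntegrallyClosed_of_isInvariant (FixedPoints.subring A G) A G Subtype.val_injective

include hk hcard hGk in
theorem fixed_facts :
    IsNoetherianRing (FixedPoints.subring A G) ∧ Module.Finite (FixedPoints.subring A G) A ∧
      ringKrullDim (FixedPoints.subring A G) = ringKrullDim A ∧
      IsAdicComplete (Ideal.comap (FixedPoints.subring A G).subtype (maximalIdeal A))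
        (FixedPoints.subring A G) := by
  classical
  obtain ⟨n, d, b, φ, hn, hφ, hb⟩ := exists_ps_hom hk hcard hGk
  set B := FixedPoints.subring A G
  haveI : IsLocalRing B := isLocalRing_fixed
  letI : Algebra (MvPowerSeries (Fin n) k) A := φ.toRingHom.toAlgebra
  letI : Algebra (MvPowerSeries (Fin n) k) B := (φ.toRingHom.codRestrict B hφ).toAlgebra
  haveI : IsScalarTower (MvPowerSeries (Fin n) k) B A := IsScalarTower.of_algebraMap_eq' rfl
  haveI : Module.Finite (MvPowerSeries (Fin n) k) A := by
    refine ⟨⟨Finset.univ.image b, eq_top_iff.2 fun z _ => ?_⟩⟩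
    obtain ⟨r, rfl⟩ := hb.2 z
    exact sum_mem fun i _ => Submodule.smul_mem _ (r i) (Submodule.subset_span (by simp))
  haveI : Module.Finite (MvPowerSeries (Fin n) k) B :=
    Module.Finite.of_injective ((Algebra.linearMap B A).restrictScalars (MvPowerSeries (Fin n) k))
      Subtype.val_injective
  have hnoeth : IsNoetherianRing B := IsNoetherianRing.of_finite (MvPowerSeries (Fin n) k) B
  haveI : Module.Finite B A := Module.Finite.of_restrictScalars_finite (MvPowerSeries (Fin n) k) B A
  haveI : Algebra.IsIntegral B A := Algebra.IsIntegral.of_finite B A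
  refine ⟨hnoeth, inferInstance,
    (GrothLib.Dim.ringKrullDim_eq_of_isIntegral (R := B) (S := A) Subtype.val_injective).symm, ?_⟩
  rw [← maximalIdeal_fixed]
  exact GrothLib.AdicExtra.isAdicComplete_localRing (R := MvPowerSeries (Fin n) k)

include hk hcard hGk in
theorem not_flat (hdim : 2 ≤ ringKrullDim A)
    (hram : ∀ P : Ideal A, P.IsPrime → P ≠ maximalIdeal A → P.inertia G = ⊥) :
    ¬ Module.Flat (FixedPoints.subring A G) A := by
  intro hflat
  haveI := GrothLib.CMFree.isDomain_of_isRegularLocalRing A
  obtain ⟨-, hfin, -, -⟩ := fixed_facts hk hcard hGk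
  haveI := hfin
  haveI : IsLocalRing (FixedPoints.subring A G) := isLocalRing_fixed
  haveI : Module.Free (FixedPoints.subring A G) A := Module.free_of_flat_of_isLocalRing
  let b := Module.finBasis (FixedPoints.subring A G) A
  refine not_bijective_basis hdim (hcard ▸ (Fact.out : p.Prime).one_lt) (card_cast_mem hcard)
    (diff_mem hk hGk) hram b ?_
  have : (fun c : Fin (Module.finrank (FixedPoints.subring A G) A) → FixedPoints.subring A G =>
      ∑ i, (c i : A) * b i) = b.equivFun.symm := funext fun c => by
    simp [Module.Basis.equivFun_symm_apply, Subring.smul_def]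
  rw [this]
  exact b.equivFun.symm.bijective

include hk hcard hGk in
theorem not_regular (hdim : 2 ≤ ringKrullDim A)
    (hram : ∀ P : Ideal A, P.IsPrime → P ≠ maximalIdeal A → P.inertia G = ⊥) :
    ¬ IsRegularLocalRing (FixedPoints.subring A G) := by
  intro hreg
  haveI := GrothLib.CMFree.isDomain_of_isRegularLocalRing A
  obtain ⟨-, hfin, hdimB, hcompl⟩ := fixed_facts hk hcard hGk
  haveI := hfin
  set B := FixedPoints.subring A G
  haveI := hreg
  rw [← maximalIdeal_fixed] at hcompl
  haveI := hcompl
  haveI : Algebra.IsIntegral B A := Algebra.IsIntegral.of_finite B A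
  letI : Algebra k B := ((algebraMap k A).codRestrict B fun c σ => hGk σ c).toAlgebra
  have hkB : Function.Surjective ((residue B).comp (algebraMap k B)) := by
    intro z
    obtain ⟨z, rfl⟩ := residue_surjective z
    obtain ⟨c, hc⟩ := hk (residue A (z : A))
    refine ⟨c, ?_⟩
    rw [RingHom.comp_apply, ← sub_eq_zero, ← map_sub, residue_eq_zero_iff, maximalIdeal_fixed,
      Ideal.mem_comap, map_sub, ← residue_eq_zero_iff, map_sub, sub_eq_zero]
    exact hc
  set d := (maximalIdeal B).spanFinrank
  obtain ⟨y, hy⟩ := GrothLib.RegLoc.exists_generators_fin (maximalIdeal B)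
  have hym : ∀ i, y i ∈ maximalIdeal B := fun i => by
    rw [← hy]; exact Ideal.subset_span ⟨i, rfl⟩
  obtain ⟨ψ, hψ⟩ := GrothLib.RegLoc.PS.exists_algHom (A := k) (maximalIdeal B) y hym
  have hsp : Ideal.span (Set.range fun i => ψ (MvPowerSeries.X i)) = maximalIdeal B := by
    simp only [hψ]; exact hy
  have hbij : Function.Bijective ψ :=
    ⟨GrothLib.RegLoc.PS.injective ψ hsp rfl, GrothLib.RegLoc.PS.surjective hkB ψ hsp⟩
  let ι : B →ₐ[k] A := { B.subtype with commutes' := fun _ => rfl }
  have hd : ringKrullDim A = d := by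
    rw [← hdimB]; exact (IsRegularLocalRing.spanFinrank_maximalIdeal (R := B)).symm
  have hrad : (Ideal.span (Set.range fun i => (y i : A))).radical = maximalIdeal A := by
    refine le_antisymm ((Ideal.IsPrime.radical_le_iff inferInstance).2 (Ideal.span_le.2 ?_)) ?_
    · rintro _ ⟨i, rfl⟩
      have := hym i
      rw [maximalIdeal_fixed] at this
      exact this
    · rw [Ideal.radical_eq_sInf]
      refine le_sInf fun P ⟨hP, hPp⟩ => ?_
      haveI := hPp
      have h1 : maximalIdeal B ≤ P.comap B.subtype := by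
        rw [← hy, Ideal.span_le]
        rintro _ ⟨i, rfl⟩
        show (y i : A) ∈ P
        exact hP (Ideal.subset_span ⟨i, rfl⟩)
      haveI : (P.comap (algebraMap B A)).IsMaximal := by
        rw [show P.comap (algebraMap B A) = maximalIdeal B from
          ((maximalIdeal.isMaximal B).eq_of_le (Ideal.IsPrime.ne_top inferInstance) h1).symm]
        infer_instance
      exact (eq_maximalIdeal (Ideal.isMaximal_of_isIntegral_of_isMaximal_comap P ‹_›)).ge
  obtain ⟨r, b, -, hb⟩ := exists_basis_over_powerSeries d hd hk _ hrad (ι.comp ψ)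
    (fun i => by show (ψ (MvPowerSeries.X i) : A) = _; rw [hψ])
  refine not_bijective_basis hdim (hcard ▸ (Fact.out : p.Prime).one_lt) (card_cast_mem hcard)
    (diff_mem hk hGk) hram b ?_
  have hcomp : Function.Bijective ((fun r : Fin r → B => ∑ i, (r i : A) * b i) ∘
      fun (c : Fin r → MvPowerSeries (Fin d) k) i => ψ (c i)) := hb
  exact (Function.Bijective.of_comp_iff _ (Function.Bijective.piMap fun _ => hbij)).mp hcomp

end GrothLib.WildQuot
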