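import Groth.Agent.Lib.WildQuot.MonicSplit
import Groth.Agent.Lib.RegLoc.PowerSeries
import Groth.Agent.Lib.CMFree.Regular
import Groth.Agent.Lib.AdicExtra.FiniteAlg
import Groth.Agent.Lib.Dim.Ring
import Mathlib.RingTheory.LocalRing.Length
import Mathlib.Algebra.CharP.Algebra
import Mathlib.FieldTheory.Finite.Basic

/-!
Artin–Schreier families `R[u]/(uᵢ^p - aᵢ^(p-1) uᵢ - xᵢ)` over `R = k[[x]]`.
-/

set_option autoImplicit false
set_option linter.style.haveILetI false
set_option linter.unusedSectionVars false
set_option backward.isDefEq.respectTransparency false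

open MvPolynomial IsLocalRing

namespace GrothLib.WildQuot

universe u

variable (p : ℕ) [Fact p.Prime] {k : Type u} [Field k] [CharP k p] {n : ℕ}

/-- The defining ideal. -/
noncomputable abbrev asIdeal (a : Fin n → MvPowerSeries (Fin n) k) :
    Ideal (MvPolynomial (Fin n) (MvPowerSeries (Fin n) k)) :=
  Ideal.span (Set.range fun i : Fin n => X i ^ p - C (a i ^ (p - 1)) * X i - C (MvPowerSeries.X i))

/-- The ring. -/
def ASRing (a : Fin n → MvPowerSeries (Fin n) k) : Type u :=
  MvPolynomial (Fin n) (MvPowerSeries (Fin n) k) ⧸ asIdeal p a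

noncomputable instance (a : Fin n → MvPowerSeries (Fin n) k) : CommRing (ASRing p a) :=
  inferInstanceAs (CommRing (MvPolynomial (Fin n) (MvPowerSeries (Fin n) k) ⧸ asIdeal p a))

noncomputable instance (a : Fin n → MvPowerSeries (Fin n) k) : Algebra (MvPowerSeries (Fin n) k) (ASRing p a) :=
  inferInstanceAs (Algebra (MvPowerSeries (Fin n) k) (MvPolynomial (Fin n) (MvPowerSeries (Fin n) k) ⧸ asIdeal p a))

/-- The projection. -/
noncomputable def mk (a : Fin n → MvPowerSeries (Fin n) k) :
    MvPolynomial (Fin n) (MvPowerSeries (Fin n) k) →ₐ[MvPowerSeries (Fin n) k] ASRing p a :=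
  Ideal.Quotient.mkₐ (MvPowerSeries (Fin n) k) (asIdeal p a)

/-- Maps out of the ring. -/
noncomputable def lift (a : Fin n → MvPowerSeries (Fin n) k) {B : Type*} [CommRing B]
    [Algebra (MvPowerSeries (Fin n) k) B] (f : MvPolynomial (Fin n) (MvPowerSeries (Fin n) k) →ₐ[MvPowerSeries (Fin n) k] B)
    (hf : ∀ z ∈ asIdeal p a, f z = 0) : ASRing p a →ₐ[MvPowerSeries (Fin n) k] B :=
  Ideal.Quotient.liftₐ (asIdeal p a) f hf

/-- The generators. -/
noncomputable def gens (a : Fin n → MvPowerSeries (Fin n) k) (i : Fin n) : ASRing p a :=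
  mk p a (X i)

theorem mk_surjective (a : Fin n → MvPowerSeries (Fin n) k) : Function.Surjective (mk p a) :=
  Ideal.Quotient.mk_surjective

theorem mk_eq_zero (a : Fin n → MvPowerSeries (Fin n) k) {z} : mk p a z = 0 ↔ z ∈ asIdeal p a :=
  Ideal.Quotient.eq_zero_iff_mem

theorem mk_C (a : Fin n → MvPowerSeries (Fin n) k) (r : MvPowerSeries (Fin n) k) :
    mk p a (C r) = algebraMap _ _ r := (mk p a).commutes r

variable (a : Fin n → MvPowerSeries (Fin n) k)

theorem gens_rel (i : Fin n) : gens p a i ^ p =
    algebraMap (MvPowerSeries (Fin n) k) (ASRing p a) (a i ^ (p - 1)) * gens p a i +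
      algebraMap (MvPowerSeries (Fin n) k) (ASRing p a) (MvPowerSeries.X i) := by
  have h := (mk_eq_zero p a).2 (Ideal.subset_span (Set.mem_range_self
    (f := fun i : Fin n => X i ^ p - C (a i ^ (p - 1)) * X i - C (MvPowerSeries.X i)) i))
  rw [map_sub, map_sub, map_mul, map_pow, mk_C, mk_C, sub_sub, sub_eq_zero] at h
  exact h

theorem adjoin_gens : Algebra.adjoin (MvPowerSeries (Fin n) k) (Set.range (gens p a)) = ⊤ := by
  rw [eq_top_iff]
  intro z _
  obtain ⟨z, rfl⟩ := mk_surjective p a z
  induction z using MvPolynomial.induction_on with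
  | C r => rw [mk_C]; exact Subalgebra.algebraMap_mem _ r
  | add u v hu hv => rw [map_add]; exact add_mem (hu trivial) (hv trivial)
  | mul_X u i hu => rw [map_mul]; exact mul_mem (hu trivial) (Algebra.subset_adjoin ⟨i, rfl⟩)

theorem algHom_ext_gens {B : Type*} [CommRing B] [Algebra (MvPowerSeries (Fin n) k) B]
    {f g : ASRing p a →ₐ[MvPowerSeries (Fin n) k] B} (h : ∀ i, f (gens p a i) = g (gens p a i)) : f = g :=
  AlgHom.ext fun z => by
    obtain ⟨z, rfl⟩ := mk_surjective p a z
    exact AlgHom.congr_fun (MvPolynomial.algHom_ext (f := f.comp (mk p a)) (g := g.comp (mk p a)) h) z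

omit [CharP k p] in
theorem free_finrank :
    Module.Free (MvPowerSeries (Fin n) k) (ASRing p a) ∧
      Module.finrank (MvPowerSeries (Fin n) k) (ASRing p a) = p ^ n ∧ Nontrivial (ASRing p a) := by
  let f : Fin n → Polynomial (MvPowerSeries (Fin n) k) := fun i =>
    Polynomial.X ^ p - (Polynomial.C (a i ^ (p - 1)) * Polynomial.X + Polynomial.C (MvPowerSeries.X i))
  have hp : 1 < p := (Fact.out : p.Prime).one_lt
  have hdeg : ∀ i, (Polynomial.C (a i ^ (p - 1)) * Polynomial.X + Polynomial.C (MvPowerSeries.X i)).degree <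
      (p : WithBot ℕ) := fun i =>
    (Polynomial.degree_linear_le).trans_lt (by exact_mod_cast hp)
  have hm : ∀ i, (f i).Monic := fun i => Polynomial.monic_X_pow_sub (hdeg i)
  have hnd : ∀ i, (f i).natDegree = p := fun i => by
    rw [Polynomial.natDegree_sub_eq_left_of_natDegree_lt, Polynomial.natDegree_X_pow]
    rw [Polynomial.natDegree_X_pow]
    exact Polynomial.natDegree_linear_le.trans_lt hp
  have hI : sepIdeal f = asIdeal p a := by
    refine congrArg (fun s => Ideal.span (Set.range s)) (funext fun i => ?_)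
    simp only [f, map_sub, map_add, map_pow, map_mul, Polynomial.aeval_X, Polynomial.aeval_C,
      MvPolynomial.algebraMap_eq, sub_sub]
  obtain ⟨h1, h2⟩ := free_sep n f hm fun i => by rw [hnd]; omega
  obtain ⟨h3, h4⟩ := h2 inferInstance
  let e := (Ideal.quotientEquivAlgOfEq (MvPowerSeries (Fin n) k) hI)
  refine ⟨(Module.Free.of_equiv e.toLinearEquiv : Module.Free _ (MvPolynomial (Fin n) (MvPowerSeries (Fin n) k) ⧸ asIdeal p a)), ?_,
    (e.symm.toEquiv.nontrivial : Nontrivial (MvPolynomial (Fin n) (MvPowerSeries (Fin n) k) ⧸ asIdeal p a))⟩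
  show Module.finrank (MvPowerSeries (Fin n) k) (MvPolynomial (Fin n) (MvPowerSeries (Fin n) k) ⧸ asIdeal p a) = _
  rw [← e.toLinearEquiv.finrank_eq, h3]
  simp [hnd]

theorem finite_asRing : Module.Finite (MvPowerSeries (Fin n) k) (ASRing p a) := by
  haveI := (free_finrank p a).1
  exact Module.finite_of_finrank_pos (by rw [(free_finrank p a).2.1]; exact pow_pos (Fact.out : p.Prime).pos n)

theorem algebraMap_injective : Function.Injective (algebraMap (MvPowerSeries (Fin n) k) (ASRing p a)) := by
  haveI := (free_finrank p a).1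
  haveI := (free_finrank p a).2.2
  exact FaithfulSMul.algebraMap_injective _ _

theorem charP_asRing : CharP (ASRing p a) p := by
  haveI : CharP (MvPowerSeries (Fin n) k) p :=
    charP_of_injective_ringHom (f := (MvPowerSeries.C : k →+* MvPowerSeries (Fin n) k)) MvPowerSeries.C_injective p
  exact charP_of_injective_ringHom (algebraMap_injective p a) p

variable (ham : ∀ i, MvPowerSeries.constantCoeff (a i) = 0)

include ham in
theorem map_maximal_le : (maximalIdeal (MvPowerSeries (Fin n) k)).map (algebraMap _ (ASRing p a)) ≤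
    Ideal.span (Set.range (gens p a)) := by
  rw [← GrothLib.RegLoc.PS.span_X k, Ideal.map_span, Ideal.span_le]
  rintro _ ⟨_, ⟨i, rfl⟩, rfl⟩
  have h := gens_rel p a i
  rw [SetLike.mem_coe, show algebraMap _ (ASRing p a) (MvPowerSeries.X i : MvPowerSeries (Fin n) k) =
    gens p a i ^ p - algebraMap _ _ (a i ^ (p - 1)) * gens p a i by rw [h]; ring]
  have hm : gens p a i ∈ Ideal.span (Set.range (gens p a)) := Ideal.subset_span ⟨i, rfl⟩
  exact sub_mem (Ideal.pow_mem_of_mem _ hm p (Fact.out : p.Prime).pos) (Ideal.mul_mem_left _ _ hm)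

include ham in
theorem eq_span_gens {M : Ideal (ASRing p a)} (hM : M.IsMaximal) : M = Ideal.span (Set.range (gens p a)) := by
  haveI := finite_asRing p a
  haveI := hM
  let R := MvPowerSeries (Fin n) k
  have hc : M.comap (algebraMap R (ASRing p a)) = maximalIdeal R :=
    eq_maximalIdeal (Ideal.isMaximal_comap_of_isIntegral_of_isMaximal (R := R) (S := ASRing p a) M)
  have hgens : ∀ i, gens p a i ∈ M := fun i => by
    refine hM.isPrime.mem_of_pow_mem p ?_
    rw [gens_rel]
    refine add_mem (Ideal.mul_mem_right _ _ ?_) ?_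
    · rw [← Ideal.mem_comap, hc]
      exact Ideal.pow_mem_of_mem _ ((GrothLib.RegLoc.PS.mem_max k).2 (ham i)) _
        (Nat.sub_pos_of_lt (Fact.out : p.Prime).one_lt)
    · rw [← Ideal.mem_comap, hc]
      exact GrothLib.RegLoc.PS.X_mem k i
  refine le_antisymm (fun z hz => ?_) (Ideal.span_le.2 (Set.range_subset_iff.2 hgens))
  have hred : ∀ z : ASRing p a, ∃ r : R, z - algebraMap R _ r ∈ Ideal.span (Set.range (gens p a)) := fun z => by
    have hz : z ∈ Algebra.adjoin R (Set.range (gens p a)) := adjoin_gens p a ▸ trivial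
    induction hz using Algebra.adjoin_induction with
    | mem x hx => exact ⟨0, by simpa using Ideal.subset_span hx⟩
    | algebraMap r => exact ⟨r, by simp⟩
    | add x y _ _ hx hy =>
      obtain ⟨r, hr⟩ := hx
      obtain ⟨s, hs⟩ := hy
      exact ⟨r + s, by rw [map_add, add_sub_add_comm]; exact add_mem hr hs⟩
    | mul x y _ _ hx hy =>
      obtain ⟨r, hr⟩ := hx
      obtain ⟨s, hs⟩ := hy
      refine ⟨r * s, ?_⟩
      rw [map_mul, show x * y - algebraMap R _ r * algebraMap R _ s =
        x * (y - algebraMap R _ s) + (x - algebraMap R _ r) * algebraMap R _ s by ring]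
      exact add_mem (Ideal.mul_mem_left _ _ hs) (Ideal.mul_mem_right _ _ hr)
  obtain ⟨r, hr⟩ := hred z
  have hrm : r ∈ maximalIdeal R := by
    rw [← hc, Ideal.mem_comap, show algebraMap R _ r = z - (z - algebraMap R _ r) by ring]
    exact sub_mem hz (Ideal.span_le.2 (Set.range_subset_iff.2 hgens) hr)
  rw [← sub_add_cancel z (algebraMap R _ r)]
  exact add_mem hr (map_maximal_le p a ham (Ideal.mem_map_of_mem _ hrm))

include ham in
theorem isLocalRing_asRing : IsLocalRing (ASRing p a) := by
  haveI := (free_finrank p a).2.2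
  obtain ⟨M, hM⟩ := Ideal.exists_maximal (ASRing p a)
  refine IsLocalRing.of_unique_max_ideal ⟨M, hM, fun N hN => ?_⟩
  exact (eq_span_gens p a ham (M := N) hN).trans (eq_span_gens p a ham hM).symm

include ham in
theorem structure_asRing : IsRegularLocalRing (ASRing p a) ∧ IsDomain (ASRing p a) ∧
    ringKrullDim (ASRing p a) = n ∧ (Ideal.span (Set.range (gens p a))).IsMaximal ∧
    IsAdicComplete (Ideal.span (Set.range (gens p a))) (ASRing p a) := by
  haveI := finite_asRing p a
  haveI := isLocalRing_asRing p a ham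
  haveI : IsNoetherianRing (ASRing p a) := IsNoetherianRing.of_finite (MvPowerSeries (Fin n) k) _
  have hmax : maximalIdeal (ASRing p a) = Ideal.span (Set.range (gens p a)) :=
    eq_span_gens p a ham (maximalIdeal.isMaximal _)
  have hdR : ringKrullDim (MvPowerSeries (Fin n) k) = n := by
    refine le_antisymm ?_ (GrothLib.RegLoc.PS.natCast_le_ringKrullDim k n)
    refine (ringKrullDim_le_spanFinrank_maximalIdeal _).trans (Nat.cast_le.2 ?_)
    rw [← GrothLib.RegLoc.PS.span_X k]
    refine (Submodule.spanFinrank_span_le_ncard_of_finite (Set.finite_range _)).trans ?_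
    rw [← Nat.card_coe_set_eq]
    exact (Nat.card_le_card_of_surjective _ Set.rangeFactorization_surjective).trans_eq (Nat.card_fin n)
  have hd : ringKrullDim (ASRing p a) = n := by
    haveI : Algebra.IsIntegral (MvPowerSeries (Fin n) k) (ASRing p a) := Algebra.IsIntegral.of_finite _ _
    exact (GrothLib.Dim.ringKrullDim_eq_of_isIntegral (R := MvPowerSeries (Fin n) k) (S := ASRing p a)
      (algebraMap_injective p a)).trans hdR
  haveI hreg : IsRegularLocalRing (ASRing p a) := by
    refine IsRegularLocalRing.of_spanFinrank_maximalIdeal_le _ ?_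
    rw [hd, hmax]
    refine Nat.cast_le.2 ((Submodule.spanFinrank_span_le_ncard_of_finite (Set.finite_range _)).trans ?_)
    rw [← Nat.card_coe_set_eq]
    exact (Nat.card_le_card_of_surjective _ Set.rangeFactorization_surjective).trans_eq (Nat.card_fin n)
  refine ⟨hreg, GrothLib.CMFree.isDomain_of_isRegularLocalRing _, hd, hmax ▸ maximalIdeal.isMaximal _, ?_⟩
  rw [← hmax]
  exact GrothLib.AdicExtra.isAdicComplete_localRing (R := MvPowerSeries (Fin n) k)

/-- The translation automorphisms. -/
theorem exists_translate (j : Fin n → ZMod p) :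
    ∃ σ : ASRing p a ≃ₐ[MvPowerSeries (Fin n) k] ASRing p a, ∀ i, σ (gens p a i) = gens p a i +
      algebraMap (MvPowerSeries (Fin n) k) _ ((ZMod.castHom (dvd_refl p) k (j i) : k) • a i) := by
  classical
  haveI := charP_asRing p a
  haveI : CharP (MvPowerSeries (Fin n) k) p :=
    charP_of_injective_ringHom (f := (MvPowerSeries.C : k →+* MvPowerSeries (Fin n) k)) MvPowerSeries.C_injective p
  have hp : p.Prime := Fact.out
  haveI : ExpChar (ASRing p a) p := ExpChar.prime hp
  have hjp : ∀ i, ((ZMod.castHom (dvd_refl p) k (j i) : k) • a i) ^ p =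
      a i ^ (p - 1) * ((ZMod.castHom (dvd_refl p) k (j i) : k) • a i) := fun i => by
    rw [smul_pow, ← map_pow, ZMod.pow_card, Algebra.smul_def, Algebra.smul_def, mul_left_comm, ← pow_succ,
      Nat.sub_add_cancel hp.one_le]
  let mkj : (Fin n → ZMod p) → (ASRing p a →ₐ[MvPowerSeries (Fin n) k] ASRing p a) := fun j =>
    if hj : ∀ i, ((ZMod.castHom (dvd_refl p) k (j i) : k) • a i) ^ p =
        a i ^ (p - 1) * ((ZMod.castHom (dvd_refl p) k (j i) : k) • a i) then
      lift p a (MvPolynomial.aeval fun i => gens p a i +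
        algebraMap (MvPowerSeries (Fin n) k) _ ((ZMod.castHom (dvd_refl p) k (j i) : k) • a i)) (by
        intro z hz
        induction hz using Submodule.span_induction with
        | mem z hz =>
          obtain ⟨i, rfl⟩ := hz
          simp only [map_sub, map_mul, map_pow, MvPolynomial.aeval_X, MvPolynomial.aeval_C]
          rw [(add_pow_expChar (R := ASRing p a) (p := p) (gens p a i)
            (algebraMap (MvPowerSeries (Fin n) k) _ ((ZMod.castHom (dvd_refl p) k (j i) : k) • a i))), gens_rel, ← map_pow (algebraMap (MvPowerSeries (Fin n) k) (ASRing p a)) (_ • a i), hj i,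
            map_mul, map_pow]
          ring
        | zero => exact map_zero _
        | add x y _ _ hx hy => rw [map_add, hx, hy, add_zero]
        | smul c x _ hx => rw [smul_eq_mul, map_mul, hx, mul_zero])
    else AlgHom.id _ _
  have hjp' : ∀ (j : Fin n → ZMod p) (i), ((ZMod.castHom (dvd_refl p) k (j i) : k) • a i) ^ p =
      a i ^ (p - 1) * ((ZMod.castHom (dvd_refl p) k (j i) : k) • a i) := fun j i => by
    rw [smul_pow, ← map_pow, ZMod.pow_card, Algebra.smul_def, Algebra.smul_def, mul_left_comm, ← pow_succ,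
      Nat.sub_add_cancel hp.one_le]
  have happ : ∀ (j : Fin n → ZMod p) (i), mkj j (gens p a i) = gens p a i +
      algebraMap (MvPowerSeries (Fin n) k) _ ((ZMod.castHom (dvd_refl p) k (j i) : k) • a i) := fun j i => by
    simp only [mkj, dif_pos (hjp' j)]
    show MvPolynomial.aeval _ (X i) = _
    rw [MvPolynomial.aeval_X]
  have hinv : ∀ j : Fin n → ZMod p, (mkj j).comp (mkj (-j)) = AlgHom.id (MvPowerSeries (Fin n) k) (ASRing p a) :=
    fun j => algHom_ext_gens p a fun i => by
    show mkj j (mkj (-j) (gens p a i)) = gens p a i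
    rw [happ (-j) i, map_add (mkj j), AlgHom.commutes, happ j i, add_assoc, ← map_add, ← add_smul,
      ← map_add, Pi.neg_apply, add_neg_cancel, map_zero, zero_smul, map_zero, add_zero]
  refine ⟨AlgEquiv.ofAlgHom (mkj j) (mkj (-j)) (hinv j) ?_, happ j⟩
  have := hinv (-j)
  rwa [neg_neg] at this

variable [IsDomain (ASRing p a)]

omit [IsDomain (ASRing p a)] in
theorem cast_smul_eq (j : ZMod p) (b : MvPowerSeries (Fin n) k) :
    (ZMod.castHom (dvd_refl p) k j : k) • b = (j.val : MvPowerSeries (Fin n) k) * b := by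
  rw [ZMod.castHom_apply, ← ZMod.natCast_val, Algebra.smul_def, map_natCast]

theorem eq_smul_of_pow (i : Fin n) (hai : a i ≠ 0) {t : ASRing p a}
    (ht : t ^ p = algebraMap (MvPowerSeries (Fin n) k) _ (a i ^ (p - 1)) * t) :
    ∃ j : ZMod p, t = algebraMap (MvPowerSeries (Fin n) k) _ ((ZMod.castHom (dvd_refl p) k j : k) • a i) := by
  classical
  have hp : p.Prime := Fact.out
  let c := algebraMap (MvPowerSeries (Fin n) k) (ASRing p a) (a i ^ (p - 1))
  let r : ZMod p → ASRing p a := fun j =>
    algebraMap (MvPowerSeries (Fin n) k) _ ((ZMod.castHom (dvd_refl p) k j : k) • a i)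
  have hr : Function.Injective r := fun j l h => by
    exact (ZMod.castHom (dvd_refl p) k).injective (smul_left_injective k hai (algebraMap_injective p a h))
  have hroot : ∀ j, r j ^ p = c * r j := fun j => by
    simp only [r, c, ← map_pow, ← map_mul]
    rw [smul_pow, ← map_pow, ZMod.pow_card, Algebra.smul_def, Algebra.smul_def, mul_left_comm, ← pow_succ,
      Nat.sub_add_cancel hp.one_le]
  by_contra! hne
  let P : Polynomial (ASRing p a) := Polynomial.X ^ p - Polynomial.C c * Polynomial.X
  have hdeg : P.natDegree = p := by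
    rw [Polynomial.natDegree_sub_eq_left_of_natDegree_lt, Polynomial.natDegree_X_pow]
    rw [Polynomial.natDegree_X_pow]
    exact (Polynomial.natDegree_C_mul_le _ _).trans_lt (by rw [Polynomial.natDegree_X]; exact hp.one_lt)
  let S : Finset (ASRing p a) := insert t (Finset.univ.image r)
  have hcard : P.natDegree < S.card := by
    rw [hdeg, Finset.card_insert_of_notMem (by simpa using fun j h => hne j h.symm),
      Finset.card_image_of_injective _ hr, Finset.card_univ, ZMod.card]
    exact Nat.lt_succ_self p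
  have hP0 := Polynomial.eq_zero_of_natDegree_lt_card_of_eval_eq_zero' P S (fun x hx => by
    show Polynomial.eval x (Polynomial.X ^ p - Polynomial.C c * Polynomial.X) = 0
    rw [Polynomial.eval_sub (R := ASRing p a), Polynomial.eval_pow, Polynomial.eval_X, Polynomial.eval_mul,
      Polynomial.eval_C, Polynomial.eval_X]
    rcases Finset.mem_insert.1 hx with rfl | hx
    · rw [sub_eq_zero]; exact ht
    · obtain ⟨j, -, rfl⟩ := Finset.mem_image.1 hx
      rw [sub_eq_zero]; exact hroot j) hcard
  rw [hP0, Polynomial.natDegree_zero] at hdeg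
  exact hp.ne_zero hdeg.symm

/-- An element fixed by all translations along `i` does not involve `uᵢ`. -/
theorem mem_adjoin_of_fixed (i : Fin n) (hai : a i ≠ 0) (s : Finset (Fin n)) (his : i ∉ s) (b : ASRing p a)
    (hb : b ∈ Algebra.adjoin (MvPowerSeries (Fin n) k) (gens p a '' (insert i (s : Set (Fin n)))))
    (hfix : ∀ σ : ASRing p a ≃ₐ[MvPowerSeries (Fin n) k] ASRing p a,
      (∀ l, l ≠ i → σ (gens p a l) = gens p a l) → σ b = b) :
    b ∈ Algebra.adjoin (MvPowerSeries (Fin n) k) (gens p a '' (s : Set (Fin n))) := by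
  classical
  have hp : p.Prime := Fact.out
  let R := MvPowerSeries (Fin n) k
  let S' := Algebra.adjoin R (gens p a '' (s : Set (Fin n)))
  obtain ⟨P, hP⟩ : ∃ P : Polynomial S', (Polynomial.aeval (R := S') (gens p a i)) P = b := by
    have hle : Algebra.adjoin R (gens p a '' (insert i (s : Set (Fin n)))) ≤
        (Polynomial.aeval (R := S') (gens p a i)).range.restrictScalars R := by
      refine Algebra.adjoin_le ?_
      rintro _ ⟨l, hl, rfl⟩
      rcases hl with rfl | hl
      · exact ⟨Polynomial.X, Polynomial.aeval_X _⟩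
      · exact ⟨Polynomial.C ⟨gens p a l, Algebra.subset_adjoin ⟨l, hl, rfl⟩⟩, Polynomial.aeval_C _ _⟩
    exact hle hb
  let g : Polynomial S' := Polynomial.X ^ p -
    (Polynomial.C (algebraMap R S' (a i ^ (p - 1))) * Polynomial.X + Polynomial.C (algebraMap R S' (MvPowerSeries.X i)))
  have hg : g.Monic := Polynomial.monic_X_pow_sub (Polynomial.degree_linear_le.trans_lt (by exact_mod_cast hp.one_lt))
  have hgu : Polynomial.aeval (gens p a i) g = 0 := by
    simp only [g, Polynomial.aeval_def, Polynomial.eval₂_sub, Polynomial.eval₂_X_pow, Polynomial.eval₂_add,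
      Polynomial.eval₂_mul, Polynomial.eval₂_pow, Polynomial.eval₂_X, Polynomial.eval₂_C, gens_rel, map_pow,
      ← IsScalarTower.algebraMap_apply]
    exact sub_self _
  let P' := P %ₘ g
  have hP' : Polynomial.aeval (gens p a i) P' = b := by
    rw [Polynomial.aeval_modByMonic_eq_self_of_root hgu, hP]
  have hgdeg : g.natDegree = p := by
    rw [Polynomial.natDegree_sub_eq_left_of_natDegree_lt, Polynomial.natDegree_X_pow]
    rw [Polynomial.natDegree_X_pow]
    exact Polynomial.natDegree_linear_le.trans_lt hp.one_lt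
  have hdeg : P'.natDegree < p := by
    refine (Polynomial.natDegree_modByMonic_lt P hg fun h1 => ?_).trans_eq hgdeg
    rw [h1, Polynomial.natDegree_one] at hgdeg
    exact hp.ne_zero hgdeg.symm
  let Q : Polynomial (ASRing p a) := P'.map (algebraMap S' (ASRing p a)) - Polynomial.C b
  let r : ZMod p → ASRing p a := fun j => gens p a i +
    algebraMap R _ ((ZMod.castHom (dvd_refl p) k j : k) • a i)
  have hr : Function.Injective r := fun j l h =>
    (ZMod.castHom (dvd_refl p) k).injective (smul_left_injective k hai (algebraMap_injective p a (add_left_cancel h)))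
  have hQ : Q = 0 := by
    refine Polynomial.eq_zero_of_natDegree_lt_card_of_eval_eq_zero Q hr (fun j => ?_) ?_
    · obtain ⟨σ, hσ⟩ := exists_translate p a (Pi.single i j)
      have hl : ∀ l, l ≠ i → σ (gens p a l) = gens p a l := fun l hl => by
        rw [hσ, Pi.single_eq_of_ne hl, map_zero, zero_smul, map_zero, add_zero]
      have hS' : ∀ z : S', σ (z : ASRing p a) = (z : ASRing p a) := fun z => by
        obtain ⟨z, hz⟩ := z
        show σ z = z
        induction hz using Algebra.adjoin_induction with
        | mem x hx =>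
          obtain ⟨l, hl', rfl⟩ := hx
          exact hl l fun h => his (h ▸ hl')
        | algebraMap c => exact σ.commutes c
        | add x y _ _ hx hy => rw [map_add, hx, hy]
        | mul x y _ _ hx hy => rw [map_mul, hx, hy]
      have h1 := hfix σ hl
      rw [← hP', Polynomial.aeval_def] at h1
      replace h1 := (Polynomial.hom_eval₂ P' (algebraMap S' (ASRing p a)) σ.toAlgHom.toRingHom (gens p a i)).symm.trans h1
      simp only [Q, Polynomial.eval_sub, Polynomial.eval_C, Polynomial.eval_map, sub_eq_zero]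
      rw [← hP', Polynomial.aeval_def, ← h1]
      congr 1
      · exact RingHom.ext fun z => (hS' z).symm
      · show r j = σ (gens p a i)
        rw [hσ, Pi.single_eq_same]
    · refine lt_of_le_of_lt (Polynomial.natDegree_sub_le _ _) (max_lt ?_ ?_)
      · rw [ZMod.card]; exact Polynomial.natDegree_map_le.trans_lt hdeg
      · rw [Polynomial.natDegree_C, ZMod.card]; exact hp.pos
  have h0 := congrArg (fun q => Polynomial.coeff q 0) hQ
  simp only [Q, Polynomial.coeff_sub, Polynomial.coeff_map, Polynomial.coeff_C_zero, Polynomial.coeff_zero,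
    sub_eq_zero] at h0
  rw [← h0]
  exact (P'.coeff 0).2

end GrothLib.WildQuot
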