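import Groth.Agent.Lib.WildQuot.ASFamily

/-!
The automorphism group and the fixed-point ideal of the Artin–Schreier family.
-/

set_option autoImplicit false
set_option linter.style.haveILetI false
set_option linter.unusedSectionVars false

open MvPolynomial IsLocalRing TensorProduct

namespace GrothLib.WildQuot

universe u

variable {p : ℕ} [Fact p.Prime] {k : Type u} [Field k] [CharP k p] {n : ℕ}
  (a : Fin n → MvPowerSeries (Fin n) k) (ham : ∀ i, MvPowerSeries.constantCoeff (a i) = 0)

local notation "R" => MvPowerSeries (Fin n) k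

include ham in
theorem aut_facts (ha0 : ∀ i, a i ≠ 0) :
    Nat.card (ASRing p a ≃ₐ[R] ASRing p a) = p ^ n ∧
      (∀ σ τ : ASRing p a ≃ₐ[R] ASRing p a, σ * τ = τ * σ) ∧
      (∀ σ : ASRing p a ≃ₐ[R] ASRing p a, σ ^ p = 1) ∧
      (∀ b : ASRing p a, (∀ σ : ASRing p a ≃ₐ[R] ASRing p a, σ b = b) ↔ b ∈ Set.range (algebraMap R (ASRing p a))) := by
  classical
  haveI := (structure_asRing p a ham).2.1
  haveI := charP_asRing p a
  have hp : p.Prime := Fact.out
  haveI : ExpChar (ASRing p a) p := ExpChar.prime hp
  choose T hT using exists_translate p a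
  have hext : ∀ σ τ : ASRing p a ≃ₐ[R] ASRing p a, (∀ i, σ (gens p a i) = τ (gens p a i)) → σ = τ :=
    fun σ τ h => AlgEquiv.coe_toAlgHom_injective (algHom_ext_gens p a (f := σ.toAlgHom) (g := τ.toAlgHom) h)
  have hadd : ∀ j l, T j * T l = T (j + l) := fun j l => hext _ _ fun i => by
    rw [AlgEquiv.mul_apply, hT, map_add, AlgEquiv.commutes, hT, hT, Pi.add_apply, map_add, add_smul, map_add,
      add_assoc]
  have hinj : Function.Injective T := fun j l h => funext fun i => by
    have h1 := DFunLike.congr_fun h (gens p a i)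
    rw [hT, hT] at h1
    exact (ZMod.castHom (dvd_refl p) k).injective
      (smul_left_injective k (ha0 i) (algebraMap_injective p a (add_left_cancel h1)))
  have hsurj : Function.Surjective T := fun σ => by
    have hex : ∀ i, ∃ j : ZMod p, σ (gens p a i) - gens p a i =
        algebraMap R _ ((ZMod.castHom (dvd_refl p) k j : k) • a i) := fun i => by
      refine eq_smul_of_pow p a i (ha0 i) ?_
      rw [sub_pow_expChar, ← map_pow, gens_rel, map_add, map_mul, AlgEquiv.commutes, AlgEquiv.commutes]
      ring
    choose j hj using hex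
    refine ⟨j, hext _ _ fun i => ?_⟩
    rw [hT, ← hj i]
    ring
  have h0 : T 0 = 1 := hext _ _ fun i => by
    rw [hT, Pi.zero_apply, map_zero, zero_smul, map_zero, add_zero, AlgEquiv.one_apply]
  refine ⟨?_, fun σ τ => ?_, fun σ => ?_, fun b => ⟨fun hb => ?_, ?_⟩⟩
  · rw [← Nat.card_eq_of_bijective T ⟨hinj, hsurj⟩, Nat.card_fun, Nat.card_fin, Nat.card_zmod]
  · obtain ⟨j, rfl⟩ := hsurj σ
    obtain ⟨l, rfl⟩ := hsurj τ
    rw [hadd, hadd, add_comm]
  · obtain ⟨j, rfl⟩ := hsurj σ
    have hpow : ∀ m : ℕ, T j ^ m = T (m • j) := fun m => by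
      induction m with
      | zero => rw [pow_zero, zero_nsmul, h0]
      | succ m ih => rw [pow_succ, ih, hadd, succ_nsmul]
    rw [hpow, show p • j = 0 from funext fun i => by simp, h0]
  · suffices H : ∀ s : Finset (Fin n), b ∈ Algebra.adjoin R (gens p a '' (s : Set (Fin n))) →
        b ∈ Set.range (algebraMap R (ASRing p a)) by
      refine H Finset.univ ?_
      rw [Finset.coe_univ, Set.image_univ, adjoin_gens]
      trivial
    intro s
    induction s using Finset.induction_on with
    | empty =>
      intro h
      rw [Finset.coe_empty, Set.image_empty, Algebra.adjoin_empty] at h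
      exact Algebra.mem_bot.1 h
    | insert i s his ih =>
      intro h
      rw [Finset.coe_insert] at h
      exact ih (mem_adjoin_of_fixed p a i (ha0 i) s his b h fun σ _ => hb σ)
  · rintro ⟨r, rfl⟩ σ
    exact σ.commutes r

include ham in
theorem fixedIdeal_facts (σ : ASRing p a ≃ₐ[R] ASRing p a) (hσ : ∀ i, σ (gens p a i) = gens p a i + algebraMap R _ (a i)) :
    Ideal.span (Set.range fun t : ASRing p a => σ t - t) ≤ Ideal.span (Set.range (gens p a)) ^ p ∧
      Module.length (ASRing p a) (ASRing p a ⧸ Ideal.span (Set.range fun t : ASRing p a => σ t - t)) =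
        (p ^ n : ℕ∞) * Module.length R (R ⧸ Ideal.span (Set.range a)) := by
  classical
  have hp : p.Prime := Fact.out
  haveI := finite_asRing p a
  haveI := isLocalRing_asRing p a ham
  haveI : IsNoetherianRing (ASRing p a) := IsNoetherianRing.of_finite R _
  obtain ⟨-, -, -, hmaxI, -⟩ := structure_asRing p a ham
  have hmax : maximalIdeal (ASRing p a) = Ideal.span (Set.range (gens p a)) := (eq_maximalIdeal hmaxI).symm
  let J := Ideal.span (Set.range fun t : ASRing p a => σ t - t)
  have hJ : J = (Ideal.span (Set.range a)).map (algebraMap R (ASRing p a)) := by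
    refine le_antisymm (Ideal.span_le.2 ?_) ?_
    · rintro _ ⟨t, rfl⟩
      have ht : t ∈ Algebra.adjoin R (Set.range (gens p a)) := adjoin_gens p a ▸ trivial
      induction ht using Algebra.adjoin_induction with
      | mem x hx =>
        obtain ⟨i, rfl⟩ := hx
        simp only [hσ, add_sub_cancel_left]
        exact Ideal.mem_map_of_mem _ (Ideal.subset_span ⟨i, rfl⟩)
      | algebraMap r =>
        simp only [AlgEquiv.commutes, sub_self]
        exact zero_mem _
      | add x y _ _ hx hy =>
        simp only [map_add, add_sub_add_comm]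
        exact add_mem hx hy
      | mul x y _ _ hx hy =>
        simp only [map_mul, show σ x * σ y - x * y = σ x * (σ y - y) + (σ x - x) * y by ring]
        exact add_mem (Ideal.mul_mem_left _ _ hy) (Ideal.mul_mem_right _ _ hx)
    · rw [Ideal.map_span, Ideal.span_le]
      rintro _ ⟨_, ⟨i, rfl⟩, rfl⟩
      exact Ideal.subset_span ⟨gens p a i, by simp [hσ]⟩
  let M := (maximalIdeal R).map (algebraMap R (ASRing p a))
  have ha : ∀ i, a i ∈ maximalIdeal R := fun i => (GrothLib.RegLoc.PS.mem_max k).2 (ham i)
  have hM : M ≤ Ideal.span (Set.range (gens p a)) ^ p := by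
    refine Submodule.le_of_le_smul_of_le_jacobson_bot (IsNoetherian.noetherian _)
      (maximalIdeal_le_jacobson (⊥ : Ideal (ASRing p a))) ?_
    rw [smul_eq_mul]
    calc M = Ideal.span (Set.range fun i => algebraMap R (ASRing p a) (MvPowerSeries.X i)) := by
          show (maximalIdeal R).map _ = _
          rw [← GrothLib.RegLoc.PS.span_X k, Ideal.map_span, ← Set.range_comp]
          rfl
      _ ≤ Ideal.span (Set.range (gens p a)) ^ p ⊔ maximalIdeal (ASRing p a) * M := by
          refine Ideal.span_le.2 ?_
          rintro _ ⟨i, rfl⟩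
          show algebraMap R (ASRing p a) (MvPowerSeries.X i) ∈ _
          rw [show algebraMap R (ASRing p a) (MvPowerSeries.X i) =
            gens p a i ^ p - gens p a i * algebraMap R _ (a i ^ (p - 1)) by rw [gens_rel]; ring]
          refine sub_mem (Submodule.mem_sup_left (Ideal.pow_mem_pow (Ideal.subset_span (Set.mem_range_self i)) p))
            (Submodule.mem_sup_right (Ideal.mul_mem_mul ?_ (Ideal.mem_map_of_mem _
              (Ideal.pow_mem_of_mem _ (ha i) _ (Nat.sub_pos_of_lt hp.one_lt)))))
          rw [hmax]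
          exact Ideal.subset_span ⟨i, rfl⟩
  refine ⟨?_, ?_⟩
  · rw [show Ideal.span (Set.range fun t : ASRing p a => σ t - t) = J from rfl, hJ]
    exact (Ideal.map_mono (Ideal.span_le.2 (Set.range_subset_iff.2 ha))).trans hM
  · rw [show Ideal.span (Set.range fun t : ASRing p a => σ t - t) = J from rfl, hJ]
    let I := Ideal.span (Set.range a)
    haveI : IsLocalHom (algebraMap R (ASRing p a)) :=
      ((local_hom_TFAE (algebraMap R (ASRing p a))).out 2 0 rfl rfl).1
        ((hM.trans (Ideal.pow_le_self hp.ne_zero)).trans hmax.ge)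
    -- residue fields agree
    have hres : Function.Surjective (algebraMap (ResidueField R) (ResidueField (ASRing p a))) := fun z => by
      obtain ⟨y, rfl⟩ := residue_surjective z
      have hy : y ∈ Algebra.adjoin R (Set.range (gens p a)) := adjoin_gens p a ▸ trivial
      induction hy using Algebra.adjoin_induction with
      | mem x hx =>
        obtain ⟨i, rfl⟩ := hx
        exact ⟨0, by rw [map_zero, eq_comm, residue_eq_zero_iff, hmax]; exact Ideal.subset_span ⟨i, rfl⟩⟩
      | algebraMap r => exact ⟨residue R r, rfl⟩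
      | add x y _ _ hx hy =>
        obtain ⟨u, hu⟩ := hx
        obtain ⟨v, hv⟩ := hy
        exact ⟨u + v, by rw [map_add, hu, hv, map_add]⟩
      | mul x y _ _ hx hy =>
        obtain ⟨u, hu⟩ := hx
        obtain ⟨v, hv⟩ := hy
        exact ⟨u * v, by rw [map_mul, hu, hv, map_mul]⟩
    have hone : Module.length (ResidueField R) (ResidueField (ASRing p a)) = 1 := by
      let e : ResidueField R ≃ₗ[ResidueField R] ResidueField (ASRing p a) :=
        LinearEquiv.ofBijective (Algebra.linearMap _ _)
          ⟨(algebraMap (ResidueField R) (ResidueField (ASRing p a))).injective, hres⟩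
      rw [← e.length_eq]
      exact Module.length_eq_one _ _
    have hrest := IsLocalRing.length_restrictScalars R (ASRing p a) (ASRing p a ⧸ I.map (algebraMap R (ASRing p a)))
    rw [hone, mul_one] at hrest
    rw [← hrest]
    haveI := (free_finrank p a).1
    let b := Module.Free.chooseBasis R (ASRing p a)
    let e1 : ((R ⧸ I) ⊗[R] ASRing p a) ≃ₗ[R] ASRing p a ⧸ I.map (algebraMap R (ASRing p a)) :=
      (TensorProduct.quotTensorEquivQuotSMul (ASRing p a) I).trans
        ((Submodule.quotEquivOfEq _ _ (Ideal.smul_top_eq_map I)).trans (Submodule.Quotient.restrictScalarsEquiv R _))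
    let e2 : ((R ⧸ I) ⊗[R] ASRing p a) ≃ₗ[R] (Module.Free.ChooseBasisIndex R (ASRing p a) → R ⧸ I) :=
      (TensorProduct.congr (LinearEquiv.refl R (R ⧸ I)) b.equivFun).trans (TensorProduct.piScalarRight R R (R ⧸ I) _)
    rw [← e1.length_eq, e2.length_eq, Module.length_pi, ENat.card_eq_coe_fintype_card,
      ← Module.finrank_eq_card_chooseBasisIndex, (free_finrank p a).2.1, Nat.cast_pow]

end GrothLib.WildQuot
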