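import Groth.Agent.Lib.CMFree.Params
import Mathlib.RingTheory.Length
import Mathlib.RingTheory.Nakayama
import Mathlib.RingTheory.Ideal.KrullsHeightTheorem
import Mathlib.GroupTheory.PGroup
import Mathlib.RingTheory.Ideal.Cotangent
import Mathlib.Algebra.Algebra.ZMod
import Mathlib.FieldTheory.Finiteness
import Mathlib.Algebra.Field.ZMod
import Mathlib.LinearAlgebra.Dimension.Constructions

/-!
Admissible and weakly admissible systems of parameters for finite group actions on local rings.
-/

set_option autoImplicit false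
set_option linter.style.haveILetI false

open IsLocalRing

namespace GrothLib.WildQuot

universe u v

section Length

variable {A : Type u} [CommRing A]

theorem length_quot_mul_le (J : Ideal A) (a b : A) :
    Module.length A (A ⧸ (J ⊔ Ideal.span {a * b})) ≤
      Module.length A (A ⧸ (J ⊔ Ideal.span {a})) + Module.length A (A ⧸ (J ⊔ Ideal.span {b})) := by
  have hle : J ⊔ Ideal.span {a * b} ≤ J ⊔ Ideal.span {a} :=
    sup_le_sup_left (Ideal.span_singleton_le_span_singleton.2 (dvd_mul_right a b)) J
  let g : (A ⧸ (J ⊔ Ideal.span {a * b})) →ₗ[A] A ⧸ (J ⊔ Ideal.span {a}) := Submodule.factor hle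
  let h : (A ⧸ (J ⊔ Ideal.span {b})) →ₗ[A] A ⧸ (J ⊔ Ideal.span {a * b}) :=
    Submodule.mapQ _ _ (LinearMap.mulLeft A a) fun x hx => by
      obtain ⟨j, hj, c, hc, rfl⟩ := Submodule.mem_sup.1 hx
      obtain ⟨d, rfl⟩ := Ideal.mem_span_singleton'.1 hc
      rw [Submodule.mem_comap, LinearMap.mulLeft_apply, mul_add]
      exact add_mem (Submodule.mem_sup_left (J.mul_mem_left a hj))
        (Submodule.mem_sup_right (Ideal.mem_span_singleton'.2 ⟨d, by ring⟩))
  rw [Module.length_eq_add_of_exact (LinearMap.ker g).subtype g (Submodule.subtype_injective _)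
    (Submodule.factor_surjective hle) g.exact_subtype_ker_map, add_comm]
  refine add_le_add le_rfl ?_
  refine Module.length_le_of_surjective (h.codRestrict (LinearMap.ker g) fun x => ?_) fun y => ?_
  · obtain ⟨x, rfl⟩ := Submodule.mkQ_surjective _ x
    rw [LinearMap.mem_ker]
    exact (Submodule.Quotient.mk_eq_zero _).2
      (Submodule.mem_sup_right (Ideal.mem_span_singleton'.2 ⟨x, mul_comm x a⟩))
  · obtain ⟨y, hy⟩ := y
    obtain ⟨y, rfl⟩ := Submodule.mkQ_surjective _ y
    rw [LinearMap.mem_ker] at hy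
    obtain ⟨j, hj, c, hc, hy'⟩ := Submodule.mem_sup.1 ((Submodule.Quotient.mk_eq_zero _).1 hy)
    obtain ⟨d, rfl⟩ := Ideal.mem_span_singleton'.1 hc
    replace hy' : j + d * a = y := hy'
    refine ⟨Submodule.Quotient.mk d, Subtype.ext ?_⟩
    show Submodule.Quotient.mk (a * d) = Submodule.Quotient.mk y
    rw [Submodule.Quotient.eq, ← hy', show a * d - (j + d * a) = -j by ring]
    exact neg_mem (Submodule.mem_sup_left hj)

theorem length_quot_mul_eq (J : Ideal A) (a b : A) (ha : ∀ x, a * x ∈ J → x ∈ J) :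
    Module.length A (A ⧸ (J ⊔ Ideal.span {a * b})) =
      Module.length A (A ⧸ (J ⊔ Ideal.span {b})) + Module.length A (A ⧸ (J ⊔ Ideal.span {a})) := by
  have hle : J ⊔ Ideal.span {a * b} ≤ J ⊔ Ideal.span {a} :=
    sup_le_sup_left (Ideal.span_singleton_le_span_singleton.2 (dvd_mul_right a b)) J
  let g : (A ⧸ (J ⊔ Ideal.span {a * b})) →ₗ[A] A ⧸ (J ⊔ Ideal.span {a}) := Submodule.factor hle
  let h : (A ⧸ (J ⊔ Ideal.span {b})) →ₗ[A] A ⧸ (J ⊔ Ideal.span {a * b}) :=
    Submodule.mapQ _ _ (LinearMap.mulLeft A a) fun x hx => by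
      obtain ⟨j, hj, c, hc, rfl⟩ := Submodule.mem_sup.1 hx
      obtain ⟨d, rfl⟩ := Ideal.mem_span_singleton'.1 hc
      rw [Submodule.mem_comap, LinearMap.mulLeft_apply, mul_add]
      exact add_mem (Submodule.mem_sup_left (J.mul_mem_left a hj))
        (Submodule.mem_sup_right (Ideal.mem_span_singleton'.2 ⟨d, by ring⟩))
  refine Module.length_eq_add_of_exact h g ?_ (Submodule.factor_surjective hle) ?_
  · rw [injective_iff_map_eq_zero]
    intro x hx
    obtain ⟨x, rfl⟩ := Submodule.mkQ_surjective _ x
    obtain ⟨j, hj, c, hc, he⟩ := Submodule.mem_sup.1 ((Submodule.Quotient.mk_eq_zero _).1 hx)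
    obtain ⟨d, rfl⟩ := Ideal.mem_span_singleton'.1 hc
    rw [LinearMap.mulLeft_apply] at he
    have h1 : x - d * b ∈ J := ha _ (by
      rw [mul_sub, ← he, show j + d * (a * b) - a * (d * b) = j by ring]; exact hj)
    refine (Submodule.Quotient.mk_eq_zero _).2 ?_
    rw [← sub_add_cancel x (d * b)]
    exact Submodule.add_mem_sup h1 (Ideal.mem_span_singleton'.2 ⟨d, rfl⟩)
  · intro y
    obtain ⟨y, rfl⟩ := Submodule.mkQ_surjective _ y
    constructor
    · intro hy
      obtain ⟨j, hj, c, hc, hy'⟩ := Submodule.mem_sup.1 ((Submodule.Quotient.mk_eq_zero _).1 hy)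
      obtain ⟨d, rfl⟩ := Ideal.mem_span_singleton'.1 hc
      replace hy' : j + d * a = y := hy'
      refine ⟨Submodule.Quotient.mk d, ?_⟩
      show Submodule.Quotient.mk (a * d) = Submodule.Quotient.mk y
      rw [Submodule.Quotient.eq, ← hy', show a * d - (j + d * a) = -j by ring]
      exact neg_mem (Submodule.mem_sup_left hj)
    · rintro ⟨x, hx⟩
      obtain ⟨x, rfl⟩ := Submodule.mkQ_surjective _ x
      rw [← hx]
      exact (Submodule.Quotient.mk_eq_zero _).2
        (Submodule.mem_sup_right (Ideal.mem_span_singleton'.2 ⟨x, mul_comm x a⟩))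

theorem span_range_update {n : ℕ} (v : Fin n → A) (i : Fin n) (x : A) :
    Ideal.span (Set.range (Function.update v i x)) = Ideal.span (v '' {j | j ≠ i}) ⊔ Ideal.span {x} := by
  classical
  rw [← Ideal.span_union]
  congr 1
  ext y
  constructor
  · rintro ⟨j, rfl⟩
    rcases eq_or_ne j i with rfl | h
    · exact Or.inr (by simp)
    · exact Or.inl ⟨j, h, by simp [h]⟩
  · rintro (⟨j, hj, rfl⟩ | rfl)
    · exact ⟨j, Function.update_of_ne hj _ _⟩
    · exact ⟨i, by simp⟩

theorem length_update {n : ℕ} (v : Fin n → A) (i : Fin n) (x : A) :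
    Module.length A (A ⧸ Ideal.span (Set.range (Function.update v i x))) =
      Module.length A (A ⧸ (Ideal.span (v '' {j | j ≠ i}) ⊔ Ideal.span {x})) := by
  rw [span_range_update]

theorem length_update_prod_le {n : ℕ} (v : Fin n → A) (i : Fin n) {ι : Type v} (s : Finset ι) (w : ι → A) :
    Module.length A (A ⧸ Ideal.span (Set.range (Function.update v i (∏ σ ∈ s, w σ)))) ≤
      ∑ σ ∈ s, Module.length A (A ⧸ Ideal.span (Set.range (Function.update v i (w σ)))) := by
  classical
  simp only [length_update]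
  induction s using Finset.induction_on with
  | empty =>
    rw [Finset.prod_empty, Finset.sum_empty, Ideal.span_singleton_one, sup_top_eq]
    haveI : Subsingleton (A ⧸ (⊤ : Ideal A)) := Ideal.Quotient.subsingleton_iff.2 rfl
    rw [Module.length_eq_zero_iff.2 inferInstance]
  | insert a s ha ih =>
    rw [Finset.prod_insert ha, Finset.sum_insert ha]
    exact (length_quot_mul_le _ _ _).trans (add_le_add le_rfl ih)

/-- Expanding the norms: an upper bound. -/
theorem length_prod_le {n : ℕ} {G : Type v} [Fintype G] (f : Fin n → G → A)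
    (h1 : ∀ τ : Fin n → G, Module.length A (A ⧸ Ideal.span (Set.range fun i => f i (τ i))) ≤ 1) :
    Module.length A (A ⧸ Ideal.span (Set.range fun i => ∏ σ, f i σ)) ≤ (Fintype.card G ^ n : ℕ) := by
  classical
  rcases isEmpty_or_nonempty G with hG | hG
  · rcases n with - | m
    · have := h1 Fin.elim0
      rw [show (fun i : Fin 0 => ∏ σ, f i σ) = fun i => f i i.elim0 from funext fun i => i.elim0]
      simpa using this
    · haveI : Subsingleton (A ⧸ Ideal.span (Set.range fun i : Fin (m + 1) => ∏ σ, f i σ)) :=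
        Ideal.Quotient.subsingleton_iff.2 ((Ideal.eq_top_iff_one _).2
          (Ideal.subset_span ⟨0, by simp⟩))
      rw [Module.length_eq_zero_iff.2 inferInstance]
      exact bot_le
  suffices H : ∀ (s : Finset (Fin n)) (τ : Fin n → G),
      Module.length A (A ⧸ Ideal.span (Set.range fun i => if i ∈ s then f i (τ i) else ∏ σ, f i σ)) ≤
        (Fintype.card G ^ sᶜ.card : ℕ) by
    have h := H ∅ fun _ => hG.some
    simp only [Finset.notMem_empty, ↓reduceIte, Finset.compl_empty, Finset.card_univ, Fintype.card_fin] at h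
    exact h
  intro s
  induction hk : sᶜ.card generalizing s with
  | zero =>
    intro τ
    rw [Finset.card_eq_zero, Finset.compl_eq_empty_iff] at hk
    subst hk
    rw [show (fun i => if i ∈ Finset.univ then f i (τ i) else ∏ σ, f i σ) = fun i => f i (τ i) from
      funext fun i => if_pos (Finset.mem_univ i), pow_zero, Nat.cast_one]
    exact h1 τ
  | succ k ih =>
    intro τ
    obtain ⟨i, hi⟩ := Finset.card_pos.1 (by omega : 0 < sᶜ.card)
    have his : i ∉ s := Finset.mem_compl.1 hi
    let v : Fin n → A := fun i => if i ∈ s then f i (τ i) else ∏ σ, f i σ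
    have hv : v = Function.update v i (∏ σ, f i σ) := by
      rw [show (∏ σ, f i σ) = v i from (if_neg his).symm, Function.update_eq_self]
    have hσ : ∀ σ, Function.update v i (f i σ) =
        fun j => if j ∈ insert i s then f j (Function.update τ i σ j) else ∏ σ', f j σ' := fun σ => by
      funext j
      rcases eq_or_ne j i with rfl | h
      · simp
      · simp [h, v]
    change Module.length A (A ⧸ Ideal.span (Set.range v)) ≤ _
    rw [hv]
    refine (length_update_prod_le v i Finset.univ (f i)).trans ?_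
    refine (Finset.sum_le_sum fun σ _ => ?_).trans (le_of_eq ?_) (b := ∑ _σ : G, ((Fintype.card G ^ k : ℕ) : ℕ∞))
    · rw [hσ σ]
      refine ih (insert i s) ?_ _
      rw [Finset.compl_insert, Finset.card_erase_of_mem hi, hk]; rfl
    · rw [Finset.sum_const, Finset.card_univ, nsmul_eq_mul, ← Nat.cast_mul, pow_succ']

end Length

section Regular

variable {A : Type u} [CommRing A] [IsRegularLocalRing A]

/-- Each member of a system of parameters is regular modulo the others. -/
theorem mem_of_mul_mem_of_radical {n : ℕ} (hn : ringKrullDim A = n) (v : Fin n → A)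
    (hv : ∀ i, v i ∈ maximalIdeal A) (hrad : maximalIdeal A ≤ (Ideal.span (Set.range v)).radical) (i : Fin n)
    (x : A) (hx : v i * x ∈ Ideal.span (v '' {j | j ≠ i})) : x ∈ Ideal.span (v '' {j | j ≠ i}) := by
  classical
  let l := ((Finset.univ.erase i).toList).map v
  have hl : Ideal.ofList l = Ideal.span (v '' {j | j ≠ i}) := by
    rw [Ideal.ofList]
    congr 1
    ext y
    simp [l, eq_comm]
  have hspan : Ideal.ofList (l ++ [v i]) = Ideal.span (Set.range v) := by
    rw [Ideal.ofList_append, hl, Ideal.ofList_singleton]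
    conv_rhs => rw [← Function.update_eq_self i v, span_range_update]
  have hne : Ideal.span (Set.range v) ≠ ⊤ := fun h =>
    (maximalIdeal.isMaximal A).ne_top (top_le_iff.1 (h ▸ Ideal.span_le.2 (Set.range_subset_iff.2 hv)))
  have hdim : ringKrullDim (A ⧸ Ideal.span (Set.range v)) = 0 := by
    haveI : Nontrivial (A ⧸ Ideal.span (Set.range v)) := Ideal.Quotient.nontrivial_iff.2 hne
    refine le_antisymm (Ring.krullDimLE_iff.1 (Ring.krullDimLE_zero_iff.2 fun P hP => ?_))
      ringKrullDim_nonneg_of_nontrivial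
    have h1 : (P.comap (Ideal.Quotient.mk _)).IsMaximal := by
      haveI : (P.comap (Ideal.Quotient.mk (Ideal.span (Set.range v)))).IsPrime := Ideal.comap_isPrime _ _
      have h2 : maximalIdeal A ≤ P.comap (Ideal.Quotient.mk _) :=
        hrad.trans ((Ideal.IsPrime.radical_le_iff ‹_›).2 fun a ha => by
          rw [Ideal.mem_comap, Ideal.Quotient.eq_zero_iff_mem.2 ha]; exact zero_mem _)
      exact (maximalIdeal.isMaximal A).eq_of_le (Ideal.IsPrime.ne_top ‹_›) h2 ▸ maximalIdeal.isMaximal A
    have h3 := Ideal.map_comap_of_surjective _ Ideal.Quotient.mk_surjective P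
    rw [← h3]
    exact Ideal.IsMaximal.map_of_surjective_of_ker_le Ideal.Quotient.mk_surjective (by
      rw [Ideal.mk_ker]
      intro a ha
      rw [Ideal.mem_comap, Ideal.Quotient.eq_zero_iff_mem.2 ha]
      exact zero_mem _)
  have hlen : (l ++ [v i]).length = n := by
    have := i.pos
    simp [l]; omega
  have hreg := (GrothLib.CMFree.isRegular_of_ringKrullDim_quotient A (l ++ [v i]) (hspan ▸ hne)
    (by rw [hspan, hdim, hlen, hn, zero_add])).toIsWeaklyRegular
  rw [RingTheory.Sequence.isWeaklyRegular_append_iff] at hreg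
  have h := ((RingTheory.Sequence.isWeaklyRegular_cons_iff _ _ _).1 hreg.2).1
  have h0 : (Ideal.ofList l • ⊤ : Submodule A A) = Ideal.span (v '' {j | j ≠ i}) := by
    rw [smul_eq_mul, Ideal.mul_top, hl]
  rw [isSMulRegular_iff_right_eq_zero_of_smul] at h
  have h2 := h (Submodule.Quotient.mk x) (by
    rw [← Submodule.Quotient.mk_smul, Submodule.Quotient.mk_eq_zero, h0]; exact hx)
  rwa [Submodule.Quotient.mk_eq_zero, h0] at h2

theorem length_update_prod_ge {n : ℕ} (hn : ringKrullDim A = n) (v : Fin n → A) (i : Fin n)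
    (hv : ∀ j, j ≠ i → v j ∈ maximalIdeal A) {ι : Type v} (s : Finset ι) (w : ι → A)
    (hw : ∀ σ ∈ s, w σ ∈ maximalIdeal A)
    (hrad : ∀ σ ∈ s, maximalIdeal A ≤ (Ideal.span (Set.range (Function.update v i (w σ)))).radical) :
    ∑ σ ∈ s, Module.length A (A ⧸ Ideal.span (Set.range (Function.update v i (w σ)))) ≤
      Module.length A (A ⧸ Ideal.span (Set.range (Function.update v i (∏ σ ∈ s, w σ)))) := by
  classical
  simp only [length_update]
  induction s using Finset.induction_on with
  | empty => simp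
  | insert a s ha ih =>
    rw [Finset.prod_insert ha, Finset.sum_insert ha, length_quot_mul_eq, add_comm]
    · exact add_le_add (ih (fun σ hσ => hw σ (Finset.mem_insert_of_mem hσ))
        fun σ hσ => hrad σ (Finset.mem_insert_of_mem hσ)) le_rfl
    · intro x hx
      have himg : Function.update v i (w a) '' {j | j ≠ i} = v '' {j | j ≠ i} :=
        Set.image_congr fun j hj => Function.update_of_ne hj _ _
      have := mem_of_mul_mem_of_radical hn (Function.update v i (w a)) (fun j => by
        rcases eq_or_ne j i with rfl | h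
        · simpa using hw a (Finset.mem_insert_self a s)
        · simpa [h] using hv j h) (hrad a (Finset.mem_insert_self a s)) i x
      rw [himg, Function.update_self] at this
      exact this hx

/-- Expanding the norms: a lower bound. -/
theorem le_length_prod {n : ℕ} (hn : ringKrullDim A = n) {G : Type v} [Fintype G] [Nonempty G] (f : Fin n → G → A)
    (hf : ∀ i σ, f i σ ∈ maximalIdeal A)
    (hrad : ∀ τ : Fin n → G, maximalIdeal A ≤ (Ideal.span (Set.range fun i => f i (τ i))).radical) :
    ((Fintype.card G ^ n : ℕ) : ℕ∞) ≤ Module.length A (A ⧸ Ideal.span (Set.range fun i => ∏ σ, f i σ)) := by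
  classical
  suffices H : ∀ (s : Finset (Fin n)) (τ : Fin n → G), ((Fintype.card G ^ sᶜ.card : ℕ) : ℕ∞) ≤
      Module.length A (A ⧸ Ideal.span (Set.range fun i => if i ∈ s then f i (τ i) else ∏ σ, f i σ)) by
    have h := H ∅ fun _ => Classical.arbitrary G
    simp only [Finset.notMem_empty, ↓reduceIte, Finset.compl_empty, Finset.card_univ, Fintype.card_fin] at h
    exact h
  intro s
  induction hk : sᶜ.card generalizing s with
  | zero =>
    intro τ
    rw [Finset.card_eq_zero, Finset.compl_eq_empty_iff] at hk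
    subst hk
    rw [show (fun i => if i ∈ Finset.univ then f i (τ i) else ∏ σ, f i σ) = fun i => f i (τ i) from
      funext fun i => if_pos (Finset.mem_univ i), pow_zero, Nat.cast_one]
    haveI : Nontrivial (A ⧸ Ideal.span (Set.range fun i => f i (τ i))) :=
      Ideal.Quotient.nontrivial_iff.2 fun h => (maximalIdeal.isMaximal A).ne_top
        (top_le_iff.1 (h ▸ Ideal.span_le.2 (Set.range_subset_iff.2 fun i => hf i (τ i))))
    exact Order.one_le_iff_pos.2 Module.length_pos
  | succ k ih =>
    intro τ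
    obtain ⟨i, hi⟩ := Finset.card_pos.1 (by omega : 0 < sᶜ.card)
    have his : i ∉ s := Finset.mem_compl.1 hi
    let v : Fin n → A := fun i => if i ∈ s then f i (τ i) else ∏ σ, f i σ
    have hv : v = Function.update v i (∏ σ, f i σ) := by
      rw [show (∏ σ, f i σ) = v i from (if_neg his).symm, Function.update_eq_self]
    have hσ : ∀ σ, Function.update v i (f i σ) =
        fun j => if j ∈ insert i s then f j (Function.update τ i σ j) else ∏ σ', f j σ' := fun σ => by
      funext j
      rcases eq_or_ne j i with rfl | h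
      · simp
      · simp [h, v]
    have hprod : ∀ j, ∏ σ, f j σ ∈ maximalIdeal A := fun j =>
      Ideal.mem_of_dvd _ (Finset.dvd_prod_of_mem _ (Finset.mem_univ (τ j))) (hf j (τ j))
    change _ ≤ Module.length A (A ⧸ Ideal.span (Set.range v))
    rw [hv]
    refine le_trans ?_ (length_update_prod_ge hn v i ?_ Finset.univ (f i) (fun σ _ => hf i σ) ?_)
    · refine le_trans (le_of_eq ?_) (Finset.sum_le_sum fun σ _ => (?_ : ((Fintype.card G ^ k : ℕ) : ℕ∞) ≤ _))
      · rw [Finset.sum_const, Finset.card_univ, nsmul_eq_mul, ← Nat.cast_mul, pow_succ']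
      · rw [hσ σ]
        refine ih (insert i s) ?_ _
        rw [Finset.compl_insert, Finset.card_erase_of_mem hi, hk]; rfl
    · intro j _
      by_cases h : j ∈ s
      · simpa [v, h] using hf j (τ j)
      · simpa [v, h] using hprod j
    · intro σ _
      rw [hσ σ]
      -- any prime containing the mixed family contains a full family
      rw [Ideal.radical_eq_sInf]
      refine le_sInf fun P hP => ?_
      haveI := hP.2
      have hex : ∀ j, ∃ c, f j c ∈ P := fun j => by
        have h1 : (if j ∈ insert i s then f j (Function.update τ i σ j) else ∏ σ', f j σ') ∈ P :=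
          hP.1 (Ideal.subset_span ⟨j, rfl⟩)
        by_cases h : j ∈ insert i s
        · rw [if_pos h] at h1; exact ⟨_, h1⟩
        · rw [if_neg h, Ideal.IsPrime.prod_mem_iff] at h1
          obtain ⟨c, -, hc⟩ := h1
          exact ⟨c, hc⟩
      choose c hc using hex
      refine (hrad c).trans ((Ideal.IsPrime.radical_le_iff ‹_›).2 (Ideal.span_le.2 ?_))
      rintro _ ⟨j, rfl⟩
      exact hc j

end Regular

section Triangular

variable {A : Type u} [CommRing A] [IsLocalRing A] [IsNoetherianRing A] {G : Type v} [Group G]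
  [MulSemiringAction G A]

theorem smul_mem_maximalIdeal (σ : G) {a : A} (ha : a ∈ maximalIdeal A) : σ • a ∈ maximalIdeal A := by
  rw [mem_maximalIdeal, mem_nonunits_iff] at ha ⊢
  intro h
  exact ha (by simpa using h.map (MulSemiringAction.toRingHom G A σ⁻¹))

theorem smul_mem_sq (σ : G) {a : A} (ha : a ∈ maximalIdeal A ^ 2) : σ • a ∈ maximalIdeal A ^ 2 := by
  have h := Ideal.mem_map_of_mem (MulSemiringAction.toRingHom G A σ) ha
  rw [Ideal.map_pow] at h
  exact Ideal.pow_right_mono (Ideal.map_le_iff_le_comap.2 fun x hx => Ideal.mem_comap.2 (smul_mem_maximalIdeal σ hx)) 2 h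

theorem le_of_le_sup_sq {J : Ideal A} (h : maximalIdeal A ≤ J ⊔ maximalIdeal A ^ 2) : maximalIdeal A ≤ J :=
  Submodule.le_of_le_smul_of_le_jacobson_bot (IsNoetherian.noetherian _) (maximalIdeal_le_jacobson _)
    (by rwa [smul_eq_mul, ← pow_two])

omit [Group G] [MulSemiringAction G A] in
theorem not_mem_sup_sq_of_minimal {n : ℕ} (u : Fin n → A) (hu : Ideal.span (Set.range u) = maximalIdeal A)
    (hn : ringKrullDim A = n) (i : Fin n) : u i ∉ Ideal.span (u '' {j | j ≠ i}) ⊔ maximalIdeal A ^ 2 := by
  classical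
  intro h
  have h1 : maximalIdeal A ≤ Ideal.span (u '' {j | j ≠ i}) := le_of_le_sup_sq (by
    conv_lhs => rw [← hu]
    refine Ideal.span_le.2 ?_
    rintro _ ⟨j, rfl⟩
    rcases eq_or_ne j i with rfl | hj
    · exact h
    · exact Submodule.mem_sup_left (Ideal.subset_span ⟨j, hj, rfl⟩))
  have h2 : maximalIdeal A = Ideal.span (((Finset.univ.erase i).image u : Finset A) : Set A) := by
    refine le_antisymm (h1.trans (Ideal.span_mono ?_)) ?_
    · rintro _ ⟨j, hj, rfl⟩; simp only [Finset.coe_image]; exact ⟨j, by simpa using hj, rfl⟩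
    · rw [← hu]; refine Ideal.span_mono ?_; simp
  have h3 := Ideal.height_le_card_of_mem_minimalPrimes_span_finset (p := maximalIdeal A)
    (s := (Finset.univ.erase i).image u)
    (by rw [← h2, Ideal.minimalPrimes_eq_subsingleton_self]; exact Set.mem_singleton _)
  rw [← IsLocalRing.maximalIdeal_height_eq_ringKrullDim] at hn
  have h4 : (maximalIdeal A).height = (n : ℕ∞) := by exact_mod_cast hn
  have h5 : ((Finset.univ.erase i).image u).card < n := by
    refine Finset.card_image_le.trans_lt ?_
    rw [Finset.card_erase_of_mem (Finset.mem_univ i), Finset.card_univ, Fintype.card_fin]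
    have := i.pos; omega
  rw [h4] at h3
  exact absurd h3 (not_le.2 (by exact_mod_cast h5))

/-- A triangular action gives an admissible system. -/
theorem admissible_of_triangular [Finite G] {n : ℕ} (hn : ringKrullDim A = n) (u : Fin n → A)
    (hu : Ideal.span (Set.range u) = maximalIdeal A)
    (htri : ∀ (σ : G) (i : Fin n), σ • u i ∈ Ideal.span (u '' {j | j ≤ i}) ⊔ maximalIdeal A ^ 2)
    (τ : Fin n → G) : Ideal.span (Set.range fun i => τ i • u i) = maximalIdeal A := by
  classical
  have hum : ∀ i, u i ∈ maximalIdeal A := fun i => hu ▸ Ideal.subset_span ⟨i, rfl⟩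
  refine le_antisymm (Ideal.span_le.2 (Set.range_subset_iff.2 fun i => smul_mem_maximalIdeal _ (hum i))) ?_
  refine le_of_le_sup_sq ?_
  conv_lhs => rw [← hu]
  refine Ideal.span_le.2 (Set.range_subset_iff.2 fun i => ?_)
  induction i using WellFoundedLT.induction with
  | _ i ih =>
  let F : Ideal A := Ideal.span (u '' {j | j < i}) ⊔ maximalIdeal A ^ 2
  have hsplit : Ideal.span (u '' {j | j ≤ i}) = Ideal.span (u '' {j | j < i}) ⊔ Ideal.span {u i} := by
    rw [← Ideal.span_union]
    congr 1
    ext y
    constructor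
    · rintro ⟨j, hj, rfl⟩
      replace hj : j ≤ i := hj
      rcases (le_iff_lt_or_eq.1 hj) with h | rfl
      · exact Or.inl ⟨j, h, rfl⟩
      · exact Or.inr rfl
    · rintro (⟨j, hj, rfl⟩ | rfl)
      · exact ⟨j, (le_of_lt (hj : j < i) : j ≤ i), rfl⟩
      · exact ⟨i, (le_refl i : i ≤ i), rfl⟩
  obtain ⟨y, hy, m, hm, hym⟩ := Submodule.mem_sup.1 (htri (τ i) i)
  rw [hsplit] at hy
  obtain ⟨l, hl, c', hc', rfl⟩ := Submodule.mem_sup.1 hy
  obtain ⟨c, rfl⟩ := Ideal.mem_span_singleton'.1 hc'
  have hFi : F ≤ Ideal.span (u '' {j | j ≠ i}) ⊔ maximalIdeal A ^ 2 :=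
    sup_le_sup_right (Ideal.span_mono (Set.image_mono fun j (hj : j < i) => hj.ne)) _
  have hstab : ∀ (σ : G) (z : A), z ∈ F → σ • z ∈ F := by
    intro σ z hz
    have h1 : F ≤ F.comap (MulSemiringAction.toRingHom G A σ) := sup_le (Ideal.span_le.2 (by
      rintro _ ⟨j, hj, rfl⟩
      have hle : Ideal.span (u '' {k | k ≤ j}) ⊔ maximalIdeal A ^ 2 ≤ F :=
        sup_le_sup_right (Ideal.span_mono (Set.image_mono fun k (hk : k ≤ j) => hk.trans_lt hj)) _
      exact hle (htri σ j)))
      fun x hx => Submodule.mem_sup_right (smul_mem_sq σ hx)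
    exact h1 hz
  have hc : IsUnit c := by
    by_contra hc
    refine not_mem_sup_sq_of_minimal u hu hn i (hFi ?_)
    have h1 : τ i • u i ∈ F := by
      rw [← hym]
      refine add_mem (add_mem (Submodule.mem_sup_left hl) (Submodule.mem_sup_right ?_)) (Submodule.mem_sup_right hm)
      rw [pow_two]
      exact Ideal.mul_mem_mul hc (hum i)
    have h2 := hstab (τ i)⁻¹ _ h1
    rwa [inv_smul_smul] at h2
  obtain ⟨e, he⟩ := hc
  have h3 : u i = (↑e⁻¹ : A) * (τ i • u i - l - m) := by
    rw [← hym, ← he, show l + ↑e * u i + m - l - m = ↑e * u i by ring, ← mul_assoc, Units.inv_mul, one_mul]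
  rw [SetLike.mem_coe, h3]
  refine Ideal.mul_mem_left _ _ (sub_mem (sub_mem (Submodule.mem_sup_left (Ideal.subset_span ⟨i, rfl⟩)) ?_)
    (Submodule.mem_sup_right hm))
  refine (Ideal.span_le.2 ?_ : Ideal.span (u '' {j | j < i}) ≤ _) hl
  rintro _ ⟨j, hj, rfl⟩
  exact ih j hj

theorem exists_fixed_step {p : ℕ} [Fact p.Prime] [CharP A p] [Finite G] (hG : IsPGroup p G) {I : Ideal A}
    (hI : ∀ (σ : G) (a : A), a ∈ I → σ • a ∈ I) (hIm : I ≠ maximalIdeal A) (hle : I ≤ maximalIdeal A) :
    ∃ x ∈ maximalIdeal A, x ∉ I ∧ ∀ σ : G, σ • x - x ∈ I := by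
  classical
  obtain ⟨w, hwm, hwI⟩ := SetLike.exists_of_lt (lt_of_le_of_ne hle hIm)
  letI : Algebra (ZMod p) A := ZMod.algebra A p
  let W : Submodule (ZMod p) (A ⧸ I) := Submodule.span (ZMod p) (Set.range fun σ : G => Ideal.Quotient.mk I (σ • w))
  haveI : Module.Finite (ZMod p) W := Module.Finite.span_of_finite (ZMod p) (Set.finite_range _)
  haveI : Finite W := Module.finite_of_finite (ZMod p)
  let act : G → (A ⧸ I) →+* A ⧸ I := fun σ =>
    Ideal.quotientMap I (MulSemiringAction.toRingHom G A σ) fun a ha => hI σ a ha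
  have hactW : ∀ (σ : G) (z : A ⧸ I), z ∈ W → act σ z ∈ W := fun σ z hz => by
    induction hz using Submodule.span_induction with
    | mem z hz =>
      obtain ⟨ρ, rfl⟩ := hz
      exact Submodule.subset_span ⟨σ * ρ, congrArg (Ideal.Quotient.mk I) (mul_smul σ ρ w)⟩
    | zero => rw [map_zero]; exact zero_mem _
    | add a b _ _ ha hb => rw [map_add]; exact add_mem ha hb
    | smul c a _ ha => rw [ZMod.map_smul]; exact Submodule.smul_mem _ c ha
  have hWm : ∀ z ∈ W, z ∈ (maximalIdeal A).map (Ideal.Quotient.mk I) := fun z hz => by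
    induction hz using Submodule.span_induction with
    | mem z hz =>
      obtain ⟨ρ, rfl⟩ := hz
      exact Ideal.mem_map_of_mem _ (smul_mem_maximalIdeal ρ hwm)
    | zero => exact zero_mem _
    | add a b _ _ ha hb => exact add_mem ha hb
    | smul c a _ ha => rw [Algebra.smul_def]; exact Ideal.mul_mem_left _ _ ha
  letI : MulAction G W :=
    { smul := fun σ z => ⟨act σ z.1, hactW σ z.1 z.2⟩
      one_smul := fun z => Subtype.ext (by
        obtain ⟨a, ha⟩ := Ideal.Quotient.mk_surjective z.1
        show act 1 z.1 = z.1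
        rw [← ha]
        exact congrArg (Ideal.Quotient.mk I) (one_smul G a))
      mul_smul := fun σ ρ z => Subtype.ext (by
        obtain ⟨a, ha⟩ := Ideal.Quotient.mk_surjective z.1
        show act (σ * ρ) z.1 = act σ (act ρ z.1)
        rw [← ha]
        exact congrArg (Ideal.Quotient.mk I) (mul_smul σ ρ a)) }
  have hne : (⟨Ideal.Quotient.mk I w, Submodule.subset_span ⟨1, by simp⟩⟩ : W) ≠ 0 := fun h =>
    hwI (Ideal.Quotient.eq_zero_iff_mem.1 (congrArg Subtype.val h))
  have hdvd : p ∣ Nat.card W := by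
    haveI : Nontrivial W := ⟨⟨_, 0, hne⟩⟩
    rw [Module.natCard_eq_pow_finrank (K := ZMod p) (V := W), Nat.card_zmod]
    exact dvd_pow_self p Module.finrank_pos.ne'
  obtain ⟨b, hb, hb0⟩ := hG.exists_fixed_point_of_prime_dvd_card_of_fixed_point W hdvd (a := (0 : W))
    fun σ => Subtype.ext (map_zero (act σ))
  obtain ⟨x, hx, hxb⟩ := (Ideal.mem_map_iff_of_surjective _ Ideal.Quotient.mk_surjective).1 (hWm b.1 b.2)
  refine ⟨x, hx, fun h => hb0 (Subtype.ext ?_), fun σ => ?_⟩
  · show (0 : A ⧸ I) = b.1
    rw [← hxb, Ideal.Quotient.eq_zero_iff_mem.2 h]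
  · rw [← Ideal.Quotient.eq]
    calc Ideal.Quotient.mk I (σ • x) = act σ (Ideal.Quotient.mk I x) := rfl
      _ = Ideal.Quotient.mk I x := by
        rw [hxb]; exact congrArg Subtype.val (hb σ)

/-- A `p`-group acting in characteristic `p` is triangular for suitable generators. -/
theorem exists_triangular {p : ℕ} [Fact p.Prime] [CharP A p] [Finite G] (hG : IsPGroup p G) {n : ℕ}
    (hn : ringKrullDim A = n) (hreg : (maximalIdeal A).spanFinrank = n) :
    ∃ u : Fin n → A, Ideal.span (Set.range u) = maximalIdeal A ∧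
      ∀ (σ : G) (i : Fin n), σ • u i ∈ Ideal.span (u '' {j | j ≤ i}) ⊔ maximalIdeal A ^ 2 := by
  classical
  let P : ∀ {k : ℕ}, (Fin k → A) → Fin k → Prop := fun {k} u i =>
    u i ∈ maximalIdeal A ∧ u i ∉ Ideal.span (u '' {j | j < i}) ⊔ maximalIdeal A ^ 2 ∧
      ∀ σ : G, σ • u i - u i ∈ Ideal.span (u '' {j | j < i}) ⊔ maximalIdeal A ^ 2
  have main : ∀ k : ℕ, (∃ u : Fin k → A, ∀ i, P u i) ∨
      ∃ j ≤ k, ∃ u : Fin j → A, (∀ i, P u i) ∧ maximalIdeal A ≤ Ideal.span (Set.range u) ⊔ maximalIdeal A ^ 2 := by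
    intro k
    induction k with
    | zero => exact Or.inl ⟨Fin.elim0, fun i => i.elim0⟩
    | succ k ih =>
      rcases ih with ⟨u, hu⟩ | ⟨j, hj, h⟩
      · let I := Ideal.span (Set.range u) ⊔ maximalIdeal A ^ 2
        by_cases hI : maximalIdeal A ≤ I
        · exact Or.inr ⟨k, k.le_succ, u, hu, hI⟩
        have hle : I ≤ maximalIdeal A :=
          sup_le (Ideal.span_le.2 (Set.range_subset_iff.2 fun i => (hu i).1)) (Ideal.pow_le_self two_ne_zero)
        have hlow : ∀ i, Ideal.span (u '' {j | j < i}) ⊔ maximalIdeal A ^ 2 ≤ I := fun i =>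
          sup_le_sup_right (Ideal.span_mono (Set.image_subset_range _ _)) _
        have hstab : ∀ (σ : G) (a : A), a ∈ I → σ • a ∈ I := fun σ a ha => by
          have h1 : I ≤ I.comap (MulSemiringAction.toRingHom G A σ) := sup_le (Ideal.span_le.2 (by
            rintro _ ⟨i, rfl⟩
            show σ • u i ∈ I
            rw [← sub_add_cancel (σ • u i) (u i)]
            exact add_mem (hlow i ((hu i).2.2 σ)) (Submodule.mem_sup_left (Ideal.subset_span ⟨i, rfl⟩))))
            fun x hx => Submodule.mem_sup_right (smul_mem_sq σ hx)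
          exact h1 ha
        obtain ⟨x, hx, hxI, hxσ⟩ := exists_fixed_step hG hstab (fun h => hI h.ge) hle
        refine Or.inl ⟨Fin.snoc u x, fun i => ?_⟩
        have himg : ∀ i : Fin k, Fin.snoc u x '' {j | j < i.castSucc} = u '' {j | j < i} := fun i => by
          ext y
          constructor
          · rintro ⟨j, hj, rfl⟩
            obtain ⟨j, rfl⟩ := Fin.eq_castSucc_of_ne_last
              (lt_of_lt_of_le hj (Fin.le_last _)).ne
            exact ⟨j, Fin.castSucc_lt_castSucc_iff.1 hj, by rw [Fin.snoc_castSucc]⟩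
          · rintro ⟨j, hj, rfl⟩
            exact ⟨j.castSucc, Fin.castSucc_lt_castSucc_iff.2 hj, by rw [Fin.snoc_castSucc]⟩
        induction i using Fin.lastCases with
        | last =>
          have himgl : Fin.snoc u x '' {j | j < Fin.last k} = Set.range u := by
            ext y
            constructor
            · rintro ⟨j, hj, rfl⟩
              obtain ⟨j, rfl⟩ := Fin.eq_castSucc_of_ne_last (hj : j < Fin.last k).ne
              exact ⟨j, by rw [Fin.snoc_castSucc]⟩
            · rintro ⟨j, rfl⟩
              exact ⟨j.castSucc, Fin.castSucc_lt_last j, by rw [Fin.snoc_castSucc]⟩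
          simp only [P, Fin.snoc_last, himgl]
          exact ⟨hx, hxI, hxσ⟩
        | cast i =>
          simp only [P, Fin.snoc_castSucc, himg]
          exact hu i
      · exact Or.inr ⟨j, hj.trans k.le_succ, h⟩
  have hcard : ∀ {k : ℕ} (u : Fin k → A), (∀ i, P u i) → k ≤ n := by
    intro k u hu
    let c : Fin k → CotangentSpace A := fun i => (maximalIdeal A).toCotangent ⟨u i, (hu i).1⟩
    have hli : LinearIndependent (ResidueField A) c := by
      rw [Fintype.linearIndependent_iff]
      intro g hg i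
      by_contra hi
      obtain ⟨i0, hi0, hmax⟩ := (Finset.univ.filter fun i => g i ≠ 0).exists_max_image id ⟨i, by simp [hi]⟩
      rw [Finset.mem_filter] at hi0
      choose a ha using fun i => residue_surjective (g i)
      have hsum : ∑ i, a i * u i ∈ maximalIdeal A ^ 2 := by
        have h1 : (maximalIdeal A).toCotangent (∑ i, a i • (⟨u i, (hu i).1⟩ : maximalIdeal A)) = 0 := by
          rw [map_sum, ← hg]
          refine Finset.sum_congr rfl fun i _ => ?_
          rw [map_smul, ← ha i]
          exact (algebraMap_smul (ResidueField A) (a i) _).symm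
        rw [Ideal.toCotangent_eq_zero] at h1
        simpa [AddSubmonoidClass.coe_finsetSum] using h1
      have hunit : IsUnit (a i0) := by
        by_contra h
        exact hi0.2 (by rw [← ha i0, residue_eq_zero_iff]; exact h)
      obtain ⟨e, he⟩ := hunit
      refine (hu i0).2.1 ?_
      have h2 : u i0 = (↑e⁻¹ : A) * (∑ i, a i * u i - ∑ i ∈ Finset.univ.erase i0, a i * u i) := by
        rw [← Finset.add_sum_erase _ _ (Finset.mem_univ i0), ← he]
        simp
      rw [h2]
      refine Ideal.mul_mem_left _ _ (sub_mem (Submodule.mem_sup_right hsum) (Submodule.sum_mem _ fun j hj => ?_))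
      by_cases hgj : g j = 0
      · rw [← ha j, residue_eq_zero_iff] at hgj
        refine Submodule.mem_sup_right ?_
        rw [pow_two]
        exact Ideal.mul_mem_mul hgj (hu j).1
      · exact Submodule.mem_sup_left (Ideal.mul_mem_left _ _ (Ideal.subset_span
          ⟨j, lt_of_le_of_ne (hmax j (by simp [hgj])) (Finset.ne_of_mem_erase hj), rfl⟩))
    have h := hli.fintype_card_le_finrank
    rwa [← spanFinrank_maximalIdeal_eq_finrank_cotangentSpace, hreg, Fintype.card_fin] at h
  rcases main (n + 1) with ⟨u, hu⟩ | ⟨j, -, u, hu, hfull⟩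
  · exact absurd (hcard u hu) (by omega)
  have hspan : Ideal.span (Set.range u) = maximalIdeal A :=
    le_antisymm (Ideal.span_le.2 (Set.range_subset_iff.2 fun i => (hu i).1)) (le_of_le_sup_sq hfull)
  have hj : j = n := by
    refine le_antisymm (hcard u hu) ?_
    rw [← hreg, ← hspan]
    refine (Submodule.spanFinrank_span_le_ncard_of_finite (Set.finite_range u)).trans ?_
    rw [← Nat.card_coe_set_eq]
    exact (Nat.card_le_card_of_surjective _ Set.rangeFactorization_surjective).trans_eq (Nat.card_fin j)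
  subst hj
  refine ⟨u, hspan, fun σ i => ?_⟩
  rw [← sub_add_cancel (σ • u i) (u i)]
  have hle : Ideal.span (u '' {k | k < i}) ⊔ maximalIdeal A ^ 2 ≤ Ideal.span (u '' {k | k ≤ i}) ⊔ maximalIdeal A ^ 2 :=
    sup_le_sup_right (Ideal.span_mono (Set.image_mono fun k (hk : k < i) => (le_of_lt hk : k ≤ i))) _
  exact add_mem (hle ((hu i).2.2 σ))
    (Submodule.mem_sup_left (Ideal.subset_span ⟨i, le_refl i, rfl⟩))

end Triangular

end GrothLib.WildQuot
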