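import Groth.Agent.Lib.HB26.MCM
import Groth.Agent.Lib.Serre.Ring
import Groth.Agent.Lib.Faltings.LowerBound
import Groth.Agent.Lib.RegUFD.Basic
import Groth.Agent.Lib.Purity.Inertia

/-!
# Tensor factors of a regular local ring finite over a regular local ring
-/

set_option linter.style.haveILetI false
set_option linter.unusedSectionVars false

universe u v w

open IsLocalRing TensorProduct

namespace GrothLib.WildQuot.Coprod

theorem free_of_regular_finite (R A : Type u) [CommRing R] [IsRegularLocalRing R] [CommRing A]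
    [IsRegularLocalRing A] [Algebra R A] [Module.Finite R A] [FaithfulSMul R A] :
    Module.Free R A := by
  haveI := GrothLib.CMFree.isDomain_of_isRegularLocalRing R
  haveI := GrothLib.CMFree.isDomain_of_isRegularLocalRing A
  haveI := GrothLib.RegUFD.ufd_of_isRegularLocalRing R
  haveI : IsRegularRing A := GrothLib.Serre.isRegularRing_of_isRegularLocalRing A
  obtain ⟨d, hd, -⟩ := GrothLib.RegLoc.exists_dim_eq (R := R)
  refine GrothLib.HB26.free_of_depth_ge_dim R A d hd ?_
  rw [← GrothLib.Depth.idealDepth_map_eq (B := A) (maximalIdeal R) A]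
  set I := (maximalIdeal R).map (algebraMap R A)
  by_contra hlt
  rw [not_le] at hlt
  obtain ⟨n, hn⟩ := ENat.ne_top_iff_exists.1 (ne_top_of_lt hlt)
  obtain ⟨P, hP, hdep⟩ := GrothLib.Depth.exists_depth_localization_le (M := A) I n hn.symm
  haveI := IsRegularRing.isRegularLocalRing_localization P.asIdeal
  obtain ⟨e, he, hht⟩ := GrothLib.Faltings.exists_ringKrullDim_atPrime P.asIdeal
  rw [GrothLib.Depth.depth_localization_self] at hdep
  obtain ⟨rs, hreg, hmem, hlen⟩ :=
    GrothLib.CMFree.exists_weaklyRegular_of_isRegularLocalRing (Localization.AtPrime P.asIdeal)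
  have h1 : ((rs.length : ℕ) : ℕ∞) ≤ LocCoh.depth (Localization.AtPrime P.asIdeal) (Localization.AtPrime P.asIdeal) :=
    (GrothLib.Depth.le_idealDepth_iff_exists _ (GrothLib.Depth.smul_top_ne_top
      (maximalIdeal.isMaximal _).ne_top) _).2 ⟨rs, rfl, hmem, hreg⟩
  have hlen' : rs.length = e := by rw [he] at hlen; exact_mod_cast hlen
  rw [hlen'] at h1
  haveI : P.asIdeal.LiesOver (maximalIdeal R) :=
    ⟨(maximalIdeal.isMaximal R).eq_of_le Ideal.IsPrime.ne_top' (Ideal.map_le_iff_le_comap.mp hP)⟩
  have h2 := Ideal.height_eq_height_add_of_liesOver_of_hasGoingDown (maximalIdeal R) P.asIdeal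
  have h3 := IsLocalRing.maximalIdeal_height_eq_ringKrullDim (R := R)
  rw [hd] at h3
  have h4 : (d : ℕ∞) ≤ P.asIdeal.height := by
    rw [h2]
    exact le_trans (WithBot.coe_inj.mp h3).ge le_self_add
  rw [← hn] at hlt
  exact absurd ((h4.trans hht.le).trans (h1.trans hdep)) (not_le.2 hlt)

/-- The same across universes. -/
theorem free_of_regular_finite' (R : Type u) (A : Type v) [CommRing R] [IsRegularLocalRing R] [CommRing A]
    [IsRegularLocalRing A] [Algebra R A] [Module.Finite R A] (hinj : Function.Injective (algebraMap R A)) :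
    Module.Free R A := by
  let R' := (Algebra.ofId R A).range
  let eR : R ≃ₐ[R] R' := AlgEquiv.ofInjective (Algebra.ofId R A) hinj
  haveI : IsRegularLocalRing R' := IsRegularLocalRing.of_ringEquiv eR.toRingEquiv
  haveI : Module.Finite R' A := Module.Finite.of_restrictScalars_finite R R' A
  haveI : FaithfulSMul R' A := (faithfulSMul_iff_algebraMap_injective _ _).mpr Subtype.val_injective
  haveI := free_of_regular_finite R' A
  haveI : Module.Free R R' := Module.Free.of_equiv eR.toLinearEquiv
  exact Module.Free.trans (R := R) (S := R') (M := A)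

theorem tprod_eq_prod_single {R : Type u} [CommRing R] {ι : Type} [Fintype ι] [DecidableEq ι] {B : ι → Type v}
    [∀ i, CommRing (B i)] [∀ i, Algebra R (B i)] (z : ∀ i, B i) :
    PiTensorProduct.tprod R z = ∏ j, PiTensorProduct.singleAlgHom (R := R) j (z j) := by
  conv_lhs => rw [← Finset.univ_prod_mulSingle z]
  rw [PiTensorProduct.tprod_prod]
  rfl

theorem free_and_regular {R : Type u} [CommRing R] [IsLocalRing R] [IsNoetherianRing R] {A : Type v} [CommRing A]
    [IsRegularLocalRing A] [Algebra R A] [Module.Finite R A] [Module.Free R A] {n : ℕ}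
    (B : Fin n → Subalgebra R A)
    (hcoprod : ∀ (C : Type (max u v)) [CommRing C] [Algebra R C] (φ : ∀ i : Fin n, B i →ₐ[R] C),
      ∃! ψ : A →ₐ[R] C, ∀ i (x : B i), ψ x = φ i x) :
    ∀ i, Module.Free R (B i) ∧ IsRegularLocalRing (B i) := by
  classical
  let C := ⨂[R] j : Fin n, B j
  obtain ⟨ψ, hψ, -⟩ := hcoprod C fun i => PiTensorProduct.singleAlgHom (R := R) (A := fun j => ↥(B j)) i
  haveI : ∀ i, Module.Finite R (B i) := fun i =>
    Module.Finite.of_injective (B i).val.toLinearMap Subtype.val_injective
  -- a functional with `1 ↦ 1`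
  obtain ⟨s, hs⟩ : ∃ s : A →ₗ[R] R, s 1 = 1 := by
    let b := Module.Free.chooseBasis R A
    have htop : Ideal.span (Set.range fun l => b.repr 1 l) = ⊤ := by
      by_contra hne
      have h1 : (1 : A) ∈ (maximalIdeal R).map (algebraMap R A) := by
        rw [← b.sum_repr 1]
        refine Ideal.sum_mem _ fun l _ => ?_
        rw [Algebra.smul_def]
        exact Ideal.mul_mem_right _ _ (Ideal.mem_map_of_mem _
          (IsLocalRing.le_maximalIdeal hne (Ideal.subset_span ⟨l, rfl⟩)))
      refine absurd ((Ideal.eq_top_iff_one _).mpr h1) fun htop => ?_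
      have h2 := Submodule.eq_bot_of_le_smul_of_le_jacobson_bot (maximalIdeal R) (⊤ : Submodule R A)
        (Module.finite_def.mp inferInstance) (by
          rw [Ideal.smul_top_eq_map, htop]; exact fun z _ => trivial) (maximalIdeal_le_jacobson _)
      exact one_ne_zero (α := A) ((Submodule.eq_bot_iff _).mp h2 1 trivial)
    obtain ⟨c, hc⟩ := (Ideal.mem_span_range_iff_exists_fun).mp ((Ideal.eq_top_iff_one _).mp htop)
    exact ⟨∑ l, c l • b.coord l, by simpa using hc⟩
  -- each factor is a retract
  have hfree : ∀ i, Module.Free R (B i) := by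
    intro i
    let t : ∀ j, B j →ₗ[R] B i := Function.update (β := fun j => B j →ₗ[R] B i)
      (fun j => (Algebra.linearMap R (B i)).comp (s.comp (B j).val.toLinearMap)) i LinearMap.id
    let r : C →ₗ[R] B i := PiTensorProduct.lift ((MultilinearMap.mkPiAlgebra R (Fin n) (B i)).compLinearMap t)
    have hr : ∀ x : B i, r (ψ x) = x := by
      intro x
      rw [hψ i x]
      refine (PiTensorProduct.lift.tprod (φ := (MultilinearMap.mkPiAlgebra R (Fin n) (B i)).compLinearMap t)
        (Pi.mulSingle (M := fun j => ↥(B j)) i x)).trans ?_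
      rw [MultilinearMap.compLinearMap_apply, MultilinearMap.mkPiAlgebra_apply, Finset.prod_eq_single i (fun j _ hji => ?_) (fun h => absurd (Finset.mem_univ i) h)]
      · simp [t]
      · simp [t, Function.update_of_ne hji, Pi.mulSingle_eq_of_ne hji, hs]
    haveI : Module.Projective R (B i) := Module.Projective.of_split (B i).val.toLinearMap
      (r.comp ψ.toLinearMap) (LinearMap.ext hr)
    exact Module.free_of_flat_of_isLocalRing
  haveI := hfree
  -- `A` is the tensor product
  let μ : C →ₐ[R] A := PiTensorProduct.liftAlgHom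
    ((MultilinearMap.mkPiAlgebra R (Fin n) A).compLinearMap fun j => (B j).val.toLinearMap)
    (by simp) (fun x y => by simp [Finset.prod_mul_distrib])
  have hμ : ∀ j (x : B j), μ (PiTensorProduct.singleAlgHom j x) = x := fun j x => by
    refine (PiTensorProduct.lift.tprod (φ := (MultilinearMap.mkPiAlgebra R (Fin n) A).compLinearMap
      fun j => (B j).val.toLinearMap) (Pi.mulSingle (M := fun j => ↥(B j)) j x)).trans ?_
    rw [MultilinearMap.compLinearMap_apply, MultilinearMap.mkPiAlgebra_apply,
      Finset.prod_eq_single j (fun k _ hk => by simp [Pi.mulSingle_eq_of_ne hk])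
        (fun h => absurd (Finset.mem_univ j) h)]
    simp
  have hμψ : ∀ a, μ (ψ a) = a := by
    let up : A →ₐ[R] ULift.{u} A := (ULift.algEquiv (R := R)).symm.toAlgHom
    obtain ⟨ψ', -, huniq⟩ := hcoprod (ULift.{u} A) fun j => up.comp (B j).val
    have h1 : up = ψ' := huniq up fun j x => rfl
    have h2 : up.comp (μ.comp ψ) = ψ' := huniq _ fun j x => by
      show up (μ (ψ x)) = up x
      rw [hψ, hμ]
    intro a
    have := AlgHom.congr_fun (h2.trans h1.symm) a
    exact (ULift.algEquiv (R := R) (A := A)).symm.injective this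
  have hψμ : ∀ c, ψ (μ c) = c := fun c => by
    have : ψ.comp μ = AlgHom.id R C := PiTensorProduct.algHom_ext fun j => AlgHom.ext fun x => by
      show ψ (μ (PiTensorProduct.singleAlgHom j x)) = _
      rw [hμ, hψ]
      rfl
    exact AlgHom.congr_fun this c
  let eC : C ≃ₗ[R] A := (AlgEquiv.ofAlgHom μ ψ (AlgHom.ext hμψ) (AlgHom.ext hψμ)).toLinearEquiv
  let b := fun j => Module.Free.chooseBasis R (B j)
  let bA := (Basis.piTensorProduct b).map eC
  have hbA : ∀ e, bA e = ∏ j, ((b j (e j) : B j) : A) := fun e => by
    show μ (Basis.piTensorProduct b e) = _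
    rw [Basis.piTensorProduct_apply, tprod_eq_prod_single, map_prod]
    simp only [hμ]
  intro i
  refine ⟨hfree i, ?_⟩
  -- `A` is free over each factor
  let E := ∀ j : {j // j ≠ i}, Module.Free.ChooseBasisIndex R (B j.1)
  let v' : E → A := fun e => ∏ j : {j // j ≠ i}, ((b j.1 (e j) : B j.1) : A)
  let sp := Equiv.piSplitAt i (fun j => Module.Free.ChooseBasisIndex R (B j))
  have hw : ∀ l e, bA (sp.symm (l, e)) = ((b i l : B i) : A) * v' e := fun l e => by
    rw [hbA, ← Finset.mul_prod_erase _ _ (Finset.mem_univ i)]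
    congr 1
    · simp [sp]
    · show _ = ∏ j : {j // j ≠ i}, _
      rw [Finset.prod_subtype (p := fun j => j ≠ i) (Finset.univ.erase i) (fun j => by simp)
        (fun j => ((b j (sp.symm (l, e) j) : B j) : A))]
      refine Finset.prod_congr rfl fun j _ => ?_
      simp [sp, j.2]
  haveI : Module.Free (B i) A := by
    refine Module.Free.of_basis (Module.Basis.mk (v := v') (R := B i) ?_ ?_)
    · rw [Fintype.linearIndependent_iff]
      intro c hc e
      have h0 : ∑ q : _ × E, (b i).repr (c q.2) q.1 • bA (sp.symm q) = 0 := by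
        rw [Fintype.sum_prod_type, Finset.sum_comm, ← hc]
        refine Finset.sum_congr rfl fun e' _ => ?_
        simp only [hw, ← smul_mul_assoc, ← Finset.sum_mul]
        show _ = ((c e' : B i) : A) * v' e'
        congr 1
        have h5 := congrArg (B i).val ((b i).sum_repr (c e'))
        simp only [map_sum, map_smul] at h5
        exact h5
      have h1 := Fintype.linearIndependent_iff.mp (bA.linearIndependent.comp _ sp.symm.injective) _ h0
      refine (b i).ext_elem fun l => ?_
      simpa using h1 (l, e)
    · intro a _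
      rw [← bA.sum_repr a]
      refine Submodule.sum_mem _ fun q _ => ?_
      obtain ⟨⟨l, e⟩, rfl⟩ := sp.symm.surjective q
      rw [hw, show bA.repr a (sp.symm (l, e)) • (((b i l : B i) : A) * v' e) =
        (bA.repr a (sp.symm (l, e)) • b i l) • v' e from (smul_mul_assoc _ _ _).symm]
      exact Submodule.smul_mem _ _ (Submodule.subset_span ⟨e, rfl⟩)
  haveI : FaithfulSMul (B i) A := (faithfulSMul_iff_algebraMap_injective _ _).mpr Subtype.val_injective
  haveI : Algebra.IsIntegral (B i) A := Algebra.IsIntegral.tower_top R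
  haveI : IsLocalHom (algebraMap (B i) A) := inferInstance
  haveI : IsLocalRing (B i) := RingHom.domain_isLocalRing (algebraMap (B i) A)
  haveI : IsNoetherianRing (B i) := IsNoetherianRing.of_finite R (B i)
  exact GrothLib.Serre.isRegularLocalRing_of_flat (B i) A

end GrothLib.WildQuot.Coprod
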