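import Groth.Agent.Lib.Purity.Inertia
import Groth.Agent.S12935

/-!
# Generation by the invariant rings of complementary inertia subgroups
-/

set_option linter.style.haveILetI false
set_option linter.unusedSectionVars false

universe u v w

open TensorProduct
open scoped Pointwise

namespace GrothLib.WildQuot.Generation

variable {R : Type u} [CommRing R] {A : Type v} [CommRing A] [Algebra R A]
  {H : Type w} [Group H] [Finite H] [MulSemiringAction H A] [SMulCommClass H R A]

/-- Separating systems inside a stable subalgebra. -/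
theorem exists_separating [Module.Finite R A] [IsNoetherianRing R] (B : Subalgebra R A)
    (G0 : Subgroup H) (hB : ∀ g ∈ G0, ∀ b ∈ B, g • b ∈ B) (p : Ideal R) [p.IsPrime]
    (hfree : ∀ g ∈ G0, g ≠ 1 → ∀ P : Ideal A, P.IsPrime → P.under R = p →
      ∃ b ∈ B, g • b - b ∉ P) :
    ∃ (f : R) (m : ℕ) (x y : Fin m → A), f ∉ p ∧ (∀ i, x i ∈ B) ∧ (∀ i, y i ∈ B) ∧
      ∑ i, x i * y i = algebraMap R A f ∧ ∀ g ∈ G0, g ≠ 1 → ∑ i, x i * g • y i = 0 := by
  classical
  haveI := Fintype.ofFinite H
  let mt : H → ↥B ⊗[R] ↥B →ₐ[R] A := fun g => Algebra.TensorProduct.lift B.val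
    ((MulSemiringAction.toAlgHom R A g).comp B.val) fun _ _ => .all _ _
  have hmt : ∀ g (a b : B), mt g (a ⊗ₜ b) = (a : A) * g • (b : A) := fun g a b => by
    simp [mt]
  haveI : Module.Finite R B := Module.Finite.of_injective B.val.toLinearMap Subtype.val_injective
  haveI : Algebra.IsIntegral B A := Algebra.IsIntegral.tower_top R
  haveI : FaithfulSMul B A := (faithfulSMul_iff_algebraMap_injective _ _).mpr Subtype.val_injective
  have key : ∀ g : H, ∃ f : R, f ∉ p ∧ (g ∈ G0 → g ≠ 1 →
      ∃ e : ↥B ⊗[R] ↥B, mt 1 e = algebraMap R A f ∧ mt g e = 0) := by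
    intro g
    by_cases hg : g ∈ G0 ∧ g ≠ 1
    swap
    · exact ⟨1, (Ideal.ne_top_iff_one p).mp Ideal.IsPrime.ne_top', fun h1 h2 => absurd ⟨h1, h2⟩ hg⟩
    let I : Ideal B := Ideal.span (Set.range fun b : B => (⟨g • (b : A), hB g hg.1 b b.2⟩ : B) - b)
    obtain ⟨f, hfI, hfp⟩ : ∃ f, f ∈ I.comap (algebraMap R B) ∧ f ∉ p := by
      by_contra! hc
      obtain ⟨q, hq, hqp, hqc⟩ := Ideal.exists_ideal_over_prime_of_isIntegral p I hc
      obtain ⟨⟨P, hP, hPq⟩⟩ := Ideal.nonempty_primesOver (S := A) q
      obtain ⟨b, hb, hbP⟩ := hfree g hg.1 hg.2 P hP (by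
        rw [← Ideal.under_under (B := B) P, ← hPq.over]
        exact hqc)
      have h1 := hq (Ideal.subset_span ⟨⟨b, hb⟩, rfl⟩)
      rw [hPq.over] at h1
      exact hbP h1
    refine ⟨f, hfp, fun _ _ => ?_⟩
    have : ∀ z ∈ I, ∃ e : ↥B ⊗[R] ↥B, mt 1 e = (z : A) ∧ mt g e = 0 := by
      intro z hz
      induction hz using Submodule.span_induction with
      | mem z hz =>
        obtain ⟨b, rfl⟩ := hz
        exact ⟨(⟨g • (b : A), hB g hg.1 b b.2⟩ : B) ⊗ₜ (1 : B) - (1 : B) ⊗ₜ b, by simp [hmt], by simp [hmt]⟩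
      | zero => exact ⟨0, by simp, by simp⟩
      | add z w _ _ hz hw =>
        obtain ⟨e, he1, he2⟩ := hz; obtain ⟨e', hf1, hf2⟩ := hw
        exact ⟨e + e', by rw [map_add, he1, hf1]; rfl, by rw [map_add, he2, hf2, add_zero]⟩
      | smul c z _ hz =>
        obtain ⟨e, he1, he2⟩ := hz
        exact ⟨(c ⊗ₜ (1 : B)) * e, by rw [map_mul, he1, hmt]; simp, by rw [map_mul, he2, mul_zero]⟩
    exact this _ hfI
  choose f hfp he using key
  let S := Finset.univ.filter fun g : H => g ∈ G0 ∧ g ≠ 1
  choose e he1 he2 using fun g : S => he g.1 (Finset.mem_filter.mp g.2).2.1 (Finset.mem_filter.mp g.2).2.2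
  obtain ⟨m, x, y, hE⟩ : ∃ (m : ℕ) (x y : Fin m → B), ∏ g, e g = ∑ i, x i ⊗ₜ[R] y i :=
    TensorProduct.exists_sum_tmul_eq _
  refine ⟨∏ g : S, f g.1, m, fun i => x i, fun i => y i, fun h => ?_, fun i => (x i).2, fun i => (y i).2, ?_,
    fun g hg hg1 => ?_⟩
  · obtain ⟨g, -, hgp⟩ := Ideal.IsPrime.prod_mem_iff.mp h
    exact hfp g.1 hgp
  · rw [map_prod]
    simp only [← he1]
    rw [← map_prod, hE, map_sum]
    simp [hmt]
  · let g' : S := ⟨g, Finset.mem_filter.mpr ⟨Finset.mem_univ _, hg, hg1⟩⟩
    have h0 : ∏ h : S, mt g (e h) = 0 := Finset.prod_eq_zero (Finset.mem_univ g') (he2 g')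
    rw [← map_prod, hE, map_sum] at h0
    simp only [hmt] at h0
    exact h0

/-- The orbit sum. -/
noncomputable def tr (G0 : Subgroup H) (z : A) : A :=
  letI := Fintype.ofFinite G0
  ∑ g : G0, (g : H) • z

theorem tr_eq (G0 : Subgroup H) [Fintype G0] (z : A) : tr G0 z = ∑ g : G0, (g : H) • z := by
  rw [tr]; convert rfl

theorem smul_tr {G0 : Subgroup H} {z : A} (g : H) (hg : g ∈ G0) : g • tr G0 z = tr G0 z := by
  let := Fintype.ofFinite G0
  rw [tr, Finset.smul_sum]
  exact Fintype.sum_equiv (Equiv.mulLeft (⟨g, hg⟩ : G0)) _ _ fun k => (smul_smul g (k : H) z)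

theorem smul_tr_of_comm {G0 : Subgroup H} {z : A} (g : H) (hcomm : ∀ k ∈ G0, g * k = k * g)
    (hz : g • z = z) : g • tr G0 z = tr G0 z := by
  let := Fintype.ofFinite G0
  rw [tr, Finset.smul_sum]
  refine Finset.sum_congr rfl fun k _ => ?_
  rw [smul_smul, hcomm k k.2, mul_smul, hz]

theorem sum_mul_tr {G0 : Subgroup H} {m : ℕ} {x y : Fin m → A} {c : A} (h1 : ∑ i, x i * y i = c)
    (h2 : ∀ g ∈ G0, g ≠ 1 → ∑ i, x i * g • y i = 0) (z : A) :
    ∑ i, x i * tr G0 (z * y i) = c * z := by
  classical
  let := Fintype.ofFinite G0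
  calc ∑ i, x i * tr G0 (z * y i)
      = ∑ g : G0, (g : H) • z * ∑ i, x i * (g : H) • y i := by
        simp only [tr, Finset.mul_sum]
        rw [Finset.sum_comm]
        exact Finset.sum_congr rfl fun g _ => Finset.sum_congr rfl fun i _ => by rw [smul_mul']; ring
    _ = c * z := by
        rw [Finset.sum_eq_single (1 : G0) (fun g _ hg => by
          rw [h2 g g.2 (fun e => hg (Subtype.ext e)), mul_zero]) (fun h => absurd (Finset.mem_univ _) h)]
        simp only [OneMemClass.coe_one, one_smul, h1, mul_comm]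

theorem prod_mem_prod {ι : Type*} (s : Finset ι) (p : ι → Submodule R A) (f : ι → A)
    (h : ∀ i ∈ s, f i ∈ p i) : ∏ i ∈ s, f i ∈ ∏ i ∈ s, p i := by
  classical
  induction s using Finset.induction with
  | empty => simpa using ⟨1, map_one _⟩
  | insert a s ha ih =>
    rw [Finset.prod_insert ha, Finset.prod_insert ha]
    exact Submodule.mul_mem_mul (h a (Finset.mem_insert_self a s))
      (ih fun i hi => h i (Finset.mem_insert_of_mem hi))

theorem card_iSup_le (hcomm : ∀ g h : H, g * h = h * g) {ι : Type*} (G : ι → Subgroup H) {q : ℕ}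
    (hG : ∀ i, Nat.card (G i) ≤ q) (s : Finset ι) :
    Nat.card ↥(⨆ i ∈ s, G i) ≤ q ^ s.card := by
  classical
  induction s using Finset.induction with
  | empty => simp
  | insert a s ha ih =>
    rw [Finset.iSup_insert, Finset.card_insert_of_notMem ha, pow_succ']
    haveI : (⨆ i ∈ s, G i).Normal := ⟨fun n hn g => by rw [hcomm g n, mul_inv_cancel_right]; exact hn⟩
    refine le_trans ?_ (Nat.mul_le_mul (hG a) ih)
    show Nat.card ((G a ⊔ ⨆ i ∈ s, G i : Subgroup H) : Set H) ≤ _
    rw [Subgroup.mul_normal]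
    exact Set.natCard_mul_le

variable [IsDomain A] [IsIntegrallyClosed R] [IsDomain R] [IsNoetherianRing R] [Module.Finite R A]
  [FaithfulSMul R A] [FaithfulSMul H A]

theorem generation (p : ℕ) [Fact p.Prime] (hcomm : ∀ g h : H, g * h = h * g)
    (hfix : ∀ a : A, (∀ h : H, h • a = a) → a ∈ Set.range (algebraMap R A))
    (n : ℕ) (hcard : Nat.card H = p ^ n) (Gi : Fin n → Subgroup H) (hGi : ∀ i, Nat.card (Gi i) = p)
    (hsup : (⨆ i, Gi i) = ⊤)
    (hMR3 : ∀ P : Ideal A, P.IsPrime → P.height = 1 → P.inertia H ≠ ⊥ → ∃ i, P.inertia H = Gi i)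
    (hfree : ∀ i, Module.Free R
      (FixedPoints.subalgebra R A ↥(⨆ j ∈ (Finset.univ.erase i : Finset (Fin n)), Gi j : Subgroup H))) :
    (⨆ i, FixedPoints.subalgebra R A ↥(⨆ j ∈ (Finset.univ.erase i : Finset (Fin n)), Gi j : Subgroup H)) = ⊤ := by
  classical
  set perp : Fin n → Subgroup H := fun i => ⨆ j ∈ (Finset.univ.erase i : Finset (Fin n)), Gi j with hperp
  let B : Fin n → Subalgebra R A := fun i => FixedPoints.subalgebra R A ↥(perp i)
  change (⨆ i, B i) = ⊤
  set S := ⨆ i, B i with hS
  have hnormal : ∀ K : Subgroup H, K.Normal := fun K =>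
    ⟨fun n hn g => by rw [hcomm g n, mul_inv_cancel_right]; exact hn⟩
  have hBmem : ∀ i (a : A), a ∈ B i ↔ ∀ h ∈ perp i, h • a = a := fun i a =>
    ⟨fun ha h hh => ha ⟨h, hh⟩, fun ha h => ha h.1 h.2⟩
  have hBst : ∀ i (g : H), ∀ b ∈ B i, g • b ∈ B i := fun i g b hb => (hBmem i _).mpr fun h hh => by
    rw [smul_smul, hcomm h g, mul_smul, (hBmem i b).mp hb h hh]
  have hle : ∀ i k, k ≠ i → Gi k ≤ perp i := fun i k hk =>
    le_iSup₂_of_le k (Finset.mem_erase.mpr ⟨hk, Finset.mem_univ k⟩) le_rfl
  have hp := (Fact.out : p.Prime)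
  have hdisj : ∀ i g, g ∈ Gi i → g ∈ perp i → g = 1 := by
    intro i g hg1 hg2
    by_contra hne
    have h1 : Gi i ⊓ perp i = Gi i := by
      refine Subgroup.eq_of_le_of_card_ge inf_le_left ?_
      have hdvd := Subgroup.card_dvd_of_le (inf_le_left : Gi i ⊓ perp i ≤ Gi i)
      rw [hGi] at hdvd
      rcases (Nat.dvd_prime hp).mp hdvd with h | h
      · exact absurd ((Subgroup.eq_bot_iff_forall _).mp (Subgroup.card_eq_one.mp h) g ⟨hg1, hg2⟩) hne
      · rw [hGi, h]
    have htop : perp i = ⊤ := by
      rw [eq_top_iff, ← hsup]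
      refine iSup_le fun k => ?_
      by_cases hk : k = i
      · subst hk; exact inf_eq_left.mp h1
      · exact hle i k hk
    have hc : Nat.card (perp i) ≤ _ :=
      card_iSup_le hcomm Gi (fun j => (hGi j).le) (Finset.univ.erase i)
    rw [htop, Subgroup.card_top, hcard, Finset.card_erase_of_mem (Finset.mem_univ i), Finset.card_univ,
      Fintype.card_fin] at hc
    have hn := i.2
    have := (Nat.pow_le_pow_iff_right hp.one_lt).mp hc
    omega
  haveI : IsNoetherianRing A := IsNoetherianRing.of_finite R A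
  haveI : Algebra.IsInvariant R A H := ⟨fun a ha => hfix a ha⟩
  have hinj := FaithfulSMul.algebraMap_injective R A
  -- exceptional index at a prime of height at most one
  have hexc : ∀ (q : Ideal R) [q.IsPrime], q.height ≤ 1 → ∃ E : Finset (Fin n), E.card ≤ 1 ∧
      (q = ⊥ → E = ∅) ∧ ∀ j ∉ E, ∀ P : Ideal A, P.IsPrime → P.under R = q → P.inertia H ≤ perp j := by
    intro q _ hq
    have hprime : ∀ P : Ideal A, P.IsPrime → P.under R = q → P.inertia H ≠ ⊥ → P.height = 1 := by
      intro P hP hPq hne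
      haveI := hP
      refine le_antisymm ((GrothLib.Purity.height_le_under (R := R) P).trans (hPq ▸ hq)) ?_
      rw [Order.one_le_iff_pos, pos_iff_ne_zero]
      intro h0
      refine hne ((Subgroup.eq_bot_iff_forall _).mpr fun g hg => FaithfulSMul.eq_of_smul_eq_smul (α := A) fun x => ?_)
      rw [one_smul, ← sub_eq_zero]
      simpa [Ideal.height_eq_zero_iff_eq_bot.mp h0] using hg x
    by_cases hall : ∀ P : Ideal A, P.IsPrime → P.under R = q → P.inertia H = ⊥
    · exact ⟨∅, by simp, fun _ => rfl, fun j _ P hP hPq => (hall P hP hPq).trans_le bot_le⟩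
    push Not at hall
    obtain ⟨P₀, hP₀, hPq₀, hne⟩ := hall
    obtain ⟨i, hi⟩ := hMR3 P₀ hP₀ (hprime P₀ hP₀ hPq₀ hne) hne
    refine ⟨{i}, by simp, fun h0 => ?_, fun j hj P hP hPq => ?_⟩
    · exfalso
      haveI := hP₀
      have h1 := GrothLib.Purity.height_le_under (R := R) P₀
      rw [hPq₀, h0, Ideal.height_bot, hprime P₀ hP₀ hPq₀ hne] at h1
      exact absurd h1 (by norm_num)
    · haveI := hP
      haveI := hP₀
      obtain ⟨g, hg⟩ := Algebra.IsInvariant.exists_smul_of_under_eq R A H P₀ P (hPq₀.trans hPq.symm)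
      intro k hk
      have hk' : k ∈ P₀.inertia H := fun x => by
        refine (Ideal.smul_mem_pointwise_smul_iff (a := g)).mp ?_
        rw [← hg, smul_sub, smul_smul, hcomm g k, mul_smul]
        exact hk (g • x)
      rw [hi] at hk'
      exact hle j i (fun e => hj (Finset.mem_singleton.mpr e.symm)) hk'
  -- separating systems
  have hsep : ∀ (q : Ideal R) [q.IsPrime] j, (∀ P : Ideal A, P.IsPrime → P.under R = q → P.inertia H ≤ perp j) →
      ∃ (f : R) (m : ℕ) (x y : Fin m → A), f ∉ q ∧ (∀ i, x i ∈ B j) ∧ (∀ i, y i ∈ B j) ∧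
      ∑ i, x i * y i = algebraMap R A f ∧ ∀ g ∈ Gi j, g ≠ 1 → ∑ i, x i * g • y i = 0 := by
    intro q _ j hj
    refine exists_separating (B j) (Gi j) (fun g _ b hb => hBst j g b hb) q fun g hg hg1 P hP hPq => ?_
    by_contra! hall
    haveI := hP
    haveI := hnormal (perp j)
    obtain ⟨ω, hω, hω'⟩ := ((Groth.Agent.S12935.result A H (perp j) P g).2).mp
      fun x hx => hall x ((hBmem j x).mpr hx)
    refine hg1 (hdisj j g hg ?_)
    simpa using (perp j).mul_mem (hj P hP hPq hω') ((perp j).inv_mem hω)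
  -- local generation
  have hloc : ∀ (q : Ideal R) [q.IsPrime], q.height ≤ 1 → ∀ a : A, ∃ f ∉ q, f • a ∈ S := by
    intro q _ hq
    obtain ⟨E, hE, -, hEj⟩ := hexc q hq
    let Fx : Finset (Fin n) → Set A := fun J => {a | ∀ j ∈ J, ∀ g ∈ Gi j, g • a = a}
    have main : ∀ J : Finset (Fin n), Disjoint J E →
        ∀ a : A, ∃ f ∉ q, f • a ∈ Submodule.span R ((S : Set A) * Fx J) := by
      intro J
      induction J using Finset.induction with
      | empty =>
        intro _ a
        exact ⟨1, (Ideal.ne_top_iff_one q).mp Ideal.IsPrime.ne_top',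
          Submodule.subset_span ⟨1, S.one_mem, a, fun j hj => absurd hj (by simp), by simp⟩⟩
      | insert j J hjJ ih =>
        intro hd a
        rw [Finset.disjoint_insert_left] at hd
        obtain ⟨f, hf, hfa⟩ := ih hd.2 a
        obtain ⟨c, m, x, y, hc, hx, hy, h1, h2⟩ := hsep q j (hEj j hd.1)
        refine ⟨c * f, ‹q.IsPrime›.mul_notMem hc hf, ?_⟩
        rw [mul_smul]
        generalize f • a = z at hfa
        induction hfa using Submodule.span_induction with
        | mem z hz =>
          obtain ⟨s, hs, t, ht, rfl⟩ := hz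
          show c • (s * t) ∈ _
          rw [Algebra.smul_def, mul_left_comm, ← sum_mul_tr h1 h2 t, Finset.mul_sum]
          refine Submodule.sum_mem _ fun i _ => ?_
          rw [← mul_assoc]
          refine Submodule.subset_span ⟨s * x i, S.mul_mem hs (le_iSup B j (hx i)), _, ?_, rfl⟩
          intro k hk g hg
          rcases Finset.mem_insert.mp hk with rfl | hk
          · exact smul_tr g hg
          · refine smul_tr_of_comm g (fun l _ => hcomm g l) ?_
            have hkj : k ≠ j := fun e => hjJ (e ▸ hk)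
            rw [smul_mul', ht k hk g hg, (hBmem j (y i)).mp (hy i) g (hle j k hkj hg)]
        | zero => rw [smul_zero]; exact Submodule.zero_mem _
        | add z w _ _ hz hw => rw [smul_add]; exact Submodule.add_mem _ hz hw
        | smul r z _ hz => rw [smul_comm]; exact Submodule.smul_mem _ r hz
    intro a
    obtain ⟨f, hf, hfa⟩ := main (Finset.univ \ E) Finset.sdiff_disjoint a
    refine ⟨f, hf, (Submodule.span_le.mpr ?_ : _ ≤ Subalgebra.toSubmodule S) hfa⟩
    rintro _ ⟨s, hs, t, ht, rfl⟩
    refine S.mul_mem hs ?_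
    rcases Finset.eq_empty_or_nonempty E with rfl | ⟨i, hi⟩
    · have htop : ∀ h : H, h • t = t := by
        have : (⨆ j, Gi j) ≤ MulAction.stabilizer H t :=
          iSup_le fun j g hg => ht j (by simp) g hg
        rw [hsup] at this
        exact fun h => this (Subgroup.mem_top h)
      obtain ⟨r, rfl⟩ := hfix t htop
      exact S.algebraMap_mem r
    · refine le_iSup B i ((hBmem i t).mpr ?_)
      have : perp i ≤ MulAction.stabilizer H t := iSup₂_le fun k hk g hg => by
        refine ht k (Finset.mem_sdiff.mpr ⟨Finset.mem_univ k, fun hkE => ?_⟩) g hg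
        exact (Finset.mem_erase.mp hk).1 (Finset.card_le_one.mp hE k hkE i hi)
      exact fun h hh => this hh
  -- the product basis
  haveI : ∀ i, Module.Finite R (B i) := fun i =>
    Module.Finite.of_injective (B i).val.toLinearMap Subtype.val_injective
  haveI : ∀ i, Module.Free R (B i) := hfree
  let b := fun i => Module.Free.chooseBasis R (B i)
  let ι := fun i => Module.Free.ChooseBasisIndex R (B i)
  let v : (∀ i, ι i) → A := fun e => ∏ i, ((b i (e i) : B i) : A)
  have hspan : ∀ a ∈ S, a ∈ Submodule.span R (Set.range v) := by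
    have hM : (∏ i, Subalgebra.toSubmodule (B i)) = Submodule.span R (Set.range v) := by
      have hi : ∀ i, Subalgebra.toSubmodule (B i) =
          Submodule.span R (Set.range fun l => ((b i l : B i) : A)) := fun i => by
        have h1 := congrArg (Submodule.map (B i).val.toLinearMap) (b i).span_eq
        rw [Submodule.map_span, ← Set.range_comp, Submodule.map_top] at h1
        exact ((Submodule.range_subtype _).symm.trans h1.symm)
      simp only [hi]
      rw [Submodule.prod_span]
      congr 1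
      ext a
      rw [Set.mem_fintype_prod]
      constructor
      · rintro ⟨g, hg, rfl⟩
        choose l hl using hg
        exact ⟨l, Finset.prod_congr rfl fun i _ => hl i⟩
      · rintro ⟨e, rfl⟩
        exact ⟨_, fun i => ⟨e i, rfl⟩, rfl⟩
    have hone : (1 : A) ∈ ∏ i, Subalgebra.toSubmodule (B i) := by
      simpa using prod_mem_prod Finset.univ (fun i => Subalgebra.toSubmodule (B i)) (fun _ => (1 : A))
        fun i _ => (B i).one_mem
    let M : Subalgebra R A := Submodule.toSubalgebra (∏ i, Subalgebra.toSubmodule (B i)) hone fun x y hx hy => by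
      have h2 := Submodule.mul_mem_mul hx hy
      rw [← Finset.prod_mul_distrib] at h2
      simp only [Subalgebra.isIdempotentElem_toSubmodule (B _) |>.eq] at h2
      exact h2
    intro a ha
    rw [← hM]
    refine (iSup_le fun i z hz => ?_ : S ≤ M) ha
    show z ∈ ∏ i, Subalgebra.toSubmodule (B i)
    have := prod_mem_prod Finset.univ (fun i => Subalgebra.toSubmodule (B i))
      (fun j => if j = i then z else 1) fun j _ => by
        by_cases h : j = i
        · subst h; simp [hz]
        · simp [h]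
    simpa using this
  obtain ⟨F, hF, Φ, hΦ⟩ : ∃ F : R, F ≠ 0 ∧ ∃ Φ : (∀ i, ι i) → (A →ₗ[R] A),
      ∀ e e', Φ e (v e') = if e' = e then algebraMap R A F else 0 := by
    have hsep0 := fun j => hsep ⊥ j (by
      obtain ⟨E, -, hE0, hEj⟩ := hexc ⊥ (by rw [Ideal.height_bot]; exact zero_le_one)
      exact hEj j (by simp [hE0 rfl]))
    choose c m x y hc hx hy h1 h2 using hsep0
    let w : ∀ j, ι j → Gi j → A := fun j l g =>
      ∑ i, algebraMap R A ((b j).repr ⟨x j i, hx j i⟩ l) * (g : H) • y j i
    haveI : ∀ j, Fintype (Gi j) := fun j => Fintype.ofFinite _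
    have hw : ∀ j l l', ∑ g : Gi j, w j l g * (g : H) • ((b j l' : B j) : A) =
        if l' = l then algebraMap R A (c j) else 0 := by
      intro j l l'
      have hT : ∀ i, ∃ r : R, algebraMap R A r = tr (Gi j) (((b j l' : B j) : A) * y j i) := fun i => by
        refine hfix _ ?_
        have hz : ∀ g ∈ perp j, g • (((b j l' : B j) : A) * y j i) = ((b j l' : B j) : A) * y j i := fun g hg => by
          rw [smul_mul', (hBmem j _).mp (b j l').2 g hg, (hBmem j _).mp (hy j i) g hg]
        have : (⊤ : Subgroup H) ≤ MulAction.stabilizer H (tr (Gi j) (((b j l' : B j) : A) * y j i)) := by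
          rw [← hsup]
          refine iSup_le fun k g hg => ?_
          by_cases hk : k = j
          · subst hk; exact smul_tr g hg
          · exact smul_tr_of_comm g (fun l _ => hcomm g l) (hz g (hle j k hk hg))
        exact fun h => this (Subgroup.mem_top h)
      choose r hr using hT
      have heq : c j • b j l' = ∑ i, r i • (⟨x j i, hx j i⟩ : B j) := by
        refine Subtype.ext ?_
        show c j • ((b j l' : B j) : A) = _
        simp only [AddSubmonoidClass.coe_finsetSum, SetLike.val_smul, Algebra.smul_def, Subalgebra.coe_mul, Subalgebra.coe_algebraMap]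
        rw [← sum_mul_tr (h1 j) (h2 j)]
        exact Finset.sum_congr rfl fun i _ => by rw [hr, mul_comm]
      have h3 : ∑ i, r i * (b j).repr ⟨x j i, hx j i⟩ l = if l' = l then c j else 0 := by
        have h4 := congrArg (fun z => (b j).repr z l) heq
        simp only [map_smul, map_sum, Finsupp.smul_apply, Finsupp.finsetSum_apply, Module.Basis.repr_self,
          Finsupp.single_apply, smul_eq_mul] at h4
        rw [← h4]; split_ifs <;> simp
      rw [show (if l' = l then algebraMap R A (c j) else 0) = algebraMap R A (if l' = l then c j else 0) by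
        split_ifs <;> simp, ← h3, map_sum]
      simp only [map_mul, hr, tr_eq, w, Finset.sum_mul]
      rw [Finset.sum_comm]
      exact Finset.sum_congr rfl fun i _ => Finset.sum_congr rfl fun g _ => by rw [smul_mul']; ring
    refine ⟨∏ j, c j, Finset.prod_ne_zero_iff.mpr fun j _ h => hc j (by rw [h]; exact zero_mem _),
      fun e => ∑ g : ∀ j, Gi j, (∏ j, w j (e j) (g j)) •
        (DistribSMul.toLinearMap R A (Finset.univ.noncommProd (fun j => (g j : H))
          fun a _ b _ _ => hcomm _ _)), fun e e' => ?_⟩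
    have hact : ∀ g : ∀ j, Gi j, (Finset.univ.noncommProd (fun j => (g j : H))
        fun a _ b _ _ => hcomm _ _) • v e' = ∏ j, (g j : H) • ((b j (e' j) : B j) : A) := by
      intro g
      letI : CommGroup H := { (‹Group H› : Group H) with mul_comm := hcomm }
      rw [Finset.noncommProd_eq_prod]
      rw [Finset.smul_prod']
      refine Finset.prod_congr rfl fun j _ => ?_
      have hrest : ∀ k ∈ (Finset.univ.erase j : Finset (Fin n)), (g k : H) ∈ perp j := fun k hk =>
        hle j k (Finset.mem_erase.mp hk).1 (g k).2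
      rw [← Finset.mul_prod_erase _ _ (Finset.mem_univ j), mul_smul,
        (hBmem j _).mp (b j (e' j)).2 _ (Subgroup.prod_mem _ hrest)]
    simp only [LinearMap.sum_apply, LinearMap.smul_apply, DistribSMul.toLinearMap_apply, hact, smul_eq_mul,
      ← Finset.prod_mul_distrib]
    rw [← Fintype.prod_sum (fun j (g : Gi j) => w j (e j) g * (g : H) • ((b j (e' j) : B j) : A))]
    simp only [hw]
    rw [map_prod]
    by_cases hee : e' = e
    · subst hee; simp
    · obtain ⟨j, hj⟩ := Function.ne_iff.mp hee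
      rw [if_neg hee]
      exact Finset.prod_eq_zero (Finset.mem_univ j) (if_neg hj)
  have hindep : ∀ d : (∀ i, ι i) → R, ∑ e, d e • v e = 0 → ∀ e, d e = 0 := by
    intro d hd e
    have h1 := congrArg (Φ e) hd
    simp only [map_sum, map_smul, hΦ, map_zero, smul_ite, smul_zero, Finset.sum_ite_eq', Finset.mem_univ,
      if_true] at h1
    rw [Algebra.smul_def, ← map_mul] at h1
    exact (mul_eq_zero.mp (hinj (h1.trans (map_zero _).symm))).resolve_right hF
  rw [eq_top_iff]
  intro a _
  obtain ⟨f, hf, hfa⟩ := hloc ⊥ (by rw [Ideal.height_bot]; exact zero_le_one) a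
  have hf0 : f ≠ 0 := fun h => hf (h ▸ zero_mem _)
  obtain ⟨c, hc⟩ := (Submodule.mem_span_range_iff_exists_fun R).mp (hspan _ hfa)
  have hdvd : ∀ e, ∃ r, c e = r * f := by
    intro e
    let K := FractionRing R
    have hfK : algebraMap R K f ≠ 0 := (map_ne_zero_iff _ (IsFractionRing.injective R K)).mpr hf0
    obtain ⟨r, hr⟩ := GrothLib.NormalSerre.mem_range_of_forall_height_one
      (algebraMap R K (c e) / algebraMap R K f) fun q hq hq1 => by
        obtain ⟨f', hf', hfa'⟩ := hloc q hq1.le a
        obtain ⟨d, hd⟩ := (Submodule.mem_span_range_iff_exists_fun R).mp (hspan _ hfa')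
        have h0 := hindep (fun e => f' * c e - f * d e) (by
          simp only [sub_smul, mul_smul, Finset.sum_sub_distrib, ← Finset.smul_sum, hc, hd]
          rw [smul_comm, sub_self]) e
        refine ⟨d e, f', hf', ?_⟩
        rw [div_mul_eq_mul_div, eq_div_iff hfK, ← map_mul, ← map_mul, mul_comm (d e),
          ← sub_eq_zero.mp h0, mul_comm]
    refine ⟨r, IsFractionRing.injective R K ?_⟩
    rw [map_mul, hr, div_mul_cancel₀ _ hfK]
  choose r hr using hdvd
  have hae : a = ∑ e, r e • v e := by
    have h1 : f • (a - ∑ e, r e • v e) = 0 := by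
      simp only [smul_sub, Finset.smul_sum, smul_smul, mul_comm f, ← hr, hc, sub_self]
    rw [Algebra.smul_def, mul_eq_zero, map_eq_zero_iff _ hinj] at h1
    exact sub_eq_zero.mp (h1.resolve_left hf0)
  rw [hae]
  exact Subalgebra.sum_mem _ fun e _ => S.smul_mem
    (Subalgebra.prod_mem _ fun i _ => le_iSup B i (b i (e i)).2) _

end GrothLib.WildQuot.Generation
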