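import Groth.Agent.Lib.WildQuot.OrthInv
import Groth.Agent.Lib.WildQuot.Invariants
import Groth.Agent.Lib.RegLoc.Normal

/-!
# The complete intersection of minors inside an Artin–Schreier ring
-/

set_option autoImplicit false
set_option linter.style.haveILetI false
set_option linter.unusedSectionVars false

open IsLocalRing MvPolynomial

namespace GrothLib.WildQuot

universe u v w

/-- Reindexed version of `free_sep`. -/
theorem free_sep_fintype {S : Type v} [CommRing S] [Nontrivial S] {ι : Type} [Fintype ι]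
    (f : ι → Polynomial S) (hf : ∀ i, (f i).Monic) (hpos : ∀ i, 0 < (f i).natDegree) :
    let I : Ideal (MvPolynomial ι S) :=
      Ideal.span (Set.range fun i => Polynomial.aeval (MvPolynomial.X i : MvPolynomial ι S) (f i))
    Module.Free S (MvPolynomial ι S ⧸ I) ∧ Module.Finite S (MvPolynomial ι S ⧸ I) ∧
      Module.finrank S (MvPolynomial ι S ⧸ I) = ∏ i, (f i).natDegree := by
  classical
  intro I
  let e := (Fintype.equivFin ι).symm
  obtain ⟨hfree, hrk⟩ := free_sep (Fintype.card ι) (fun i => f (e i)) (fun i => hf _) fun i => hpos _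
  obtain ⟨hr, -⟩ := hrk inferInstance
  haveI := hfree
  let J := sepIdeal fun i => f (e i)
  have hI : I = J.map ((MvPolynomial.renameEquiv S e).toAlgHom : _ →+* MvPolynomial ι S) := by
    simp only [J, sepIdeal, I, Ideal.map_span, ← Set.range_comp]
    rw [← e.surjective.range_comp (fun i => Polynomial.aeval (MvPolynomial.X i : MvPolynomial ι S) (f i))]
    congr 2
    funext i
    simp only [Function.comp_apply]
    show _ = (MvPolynomial.renameEquiv S e).toAlgHom (Polynomial.aeval (MvPolynomial.X i) (f (e i)))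
    rw [← Polynomial.aeval_algHom_apply]
    simp
  let E := Ideal.quotientEquivAlg J I (MvPolynomial.renameEquiv S e) hI
  have hfr : Module.finrank S (MvPolynomial ι S ⧸ I) = ∏ i, (f i).natDegree := by
    rw [← E.toLinearEquiv.finrank_eq, hr]
    exact Fintype.prod_equiv e _ _ fun i => rfl
  haveI : Module.Free S (MvPolynomial ι S ⧸ I) := Module.Free.of_equiv E.toLinearEquiv
  exact ⟨inferInstance, Module.finite_of_finrank_pos (hfr ▸ Finset.prod_pos fun i _ => hpos i), hfr⟩

/-- A domain that becomes a normal domain after inverting `c` has normal localization away from `c`. -/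
theorem isIntegrallyClosed_away_of_dense {B : Type v} [CommRing B] [IsDomain B] {C : Type w}
    [CommRing C] [IsDomain C] [IsIntegrallyClosed C] (ψ : B →+* C) (hψ : Function.Injective ψ)
    (c : B) (hc : c ≠ 0) (hd : ∀ t : C, ∃ (N : ℕ) (b : B), ψ c ^ N * t = ψ b) :
    IsIntegrallyClosed (Localization.Away c) := by
  let L := Localization.Away (ψ c)
  letI : Algebra B L := ((algebraMap C L).comp ψ).toAlgebra
  have hc' : ψ c ≠ 0 := fun h => hc (hψ (h.trans (map_zero ψ).symm))
  have hle : Submonoid.powers (ψ c) ≤ nonZeroDivisors C := powers_le_nonZeroDivisors_of_noZeroDivisors hc'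
  haveI : IsLocalization (Submonoid.powers c) L := by
    rw [isLocalization_iff]
    refine ⟨?_, ?_, ?_⟩
    · rintro ⟨_, N, rfl⟩
      show IsUnit (algebraMap C L (ψ (c ^ N)))
      rw [map_pow]
      exact IsLocalization.map_units L (⟨ψ c ^ N, N, rfl⟩ : Submonoid.powers (ψ c))
    · intro x
      obtain ⟨⟨t, ⟨_, M, rfl⟩⟩, hx⟩ := IsLocalization.surj (Submonoid.powers (ψ c)) x
      obtain ⟨N, b, hb⟩ := hd t
      refine ⟨⟨b, ⟨c ^ (M + N), M + N, rfl⟩⟩, ?_⟩
      show x * algebraMap C L (ψ (c ^ (M + N))) = algebraMap C L (ψ b)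
      simp only at hx
      rw [← hb, pow_add, map_mul, map_mul, ← mul_assoc, map_pow, hx, map_pow, ← map_mul, mul_comm]
    · intro x y hxy
      refine ⟨1, ?_⟩
      have : x = y := hψ (IsLocalization.injective L hle hxy)
      rw [this]
  haveI : IsIntegrallyClosed L := isIntegrallyClosed_of_isLocalization L _ hle
  exact IsIntegrallyClosed.of_equiv
    (IsLocalization.algEquiv (Submonoid.powers c) L (Localization.Away c)).toRingEquiv

variable (p : ℕ) [Fact p.Prime] {k : Type u} [Field k] [CharP k p] {n : ℕ}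

local notation "R" => MvPowerSeries (Fin n) k

/-- The relations of the minors. -/
noncomputable abbrev minorRel (a : Fin n → R) (μ : R) (i₀ : Fin n) (j : {j : Fin n // j ≠ i₀}) :
    MvPolynomial {j : Fin n // j ≠ i₀} R :=
  X j ^ p - C ((μ * a i₀ * a j.1) ^ (p - 1)) * X j
    - C (a i₀ ^ p * MvPowerSeries.X j.1 - a j.1 ^ p * MvPowerSeries.X i₀)

/-- The minors. -/
noncomputable abbrev minorElt (a b : Fin n → R) (i₀ : Fin n) (j : {j : Fin n // j ≠ i₀}) : ASRing p b :=
  algebraMap R _ (a i₀) * gens p b j.1 - algebraMap R _ (a j.1) * gens p b i₀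

theorem minor_ker (hn : 2 ≤ n) (a : Fin n → R) (μ : R)
    (ham : ∀ i, MvPowerSeries.constantCoeff (a i) = 0) (ha0 : ∀ i, a i ≠ 0) (hμ : μ ≠ 0) (i₀ : Fin n)
    (b : Fin n → R) (hb : ∀ i, b i = μ * a i) :
    RingHom.ker (MvPolynomial.aeval (minorElt p a b i₀) :
        MvPolynomial {j : Fin n // j ≠ i₀} R →ₐ[R] ASRing p b) =
      Ideal.span (Set.range (minorRel p a μ i₀)) ∧
    Module.Free R (MvPolynomial {j : Fin n // j ≠ i₀} R ⧸ Ideal.span (Set.range (minorRel p a μ i₀))) ∧
    Module.finrank R (MvPolynomial {j : Fin n // j ≠ i₀} R ⧸ Ideal.span (Set.range (minorRel p a μ i₀))) =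
      p ^ (n - 1) := by
  classical
  have hp : p.Prime := Fact.out
  haveI : IsDomain R := GrothLib.CMFree.isDomain_of_isRegularLocalRing _
  have hb0 : ∀ i, b i ≠ 0 := fun i => by rw [hb]; exact mul_ne_zero hμ (ha0 i)
  have hbm : ∀ i, MvPowerSeries.constantCoeff (b i) = 0 := fun i => by
    rw [hb, map_mul, ham, mul_zero]
  haveI := (structure_asRing p b hbm).2.1
  haveI := charP_asRing p b
  haveI : ExpChar (ASRing p b) p := ExpChar.prime hp
  let f : {j : Fin n // j ≠ i₀} → Polynomial R := fun j => Polynomial.X ^ p -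
    (Polynomial.C ((μ * a i₀ * a j.1) ^ (p - 1)) * Polynomial.X +
      Polynomial.C (a i₀ ^ p * MvPowerSeries.X j.1 - a j.1 ^ p * MvPowerSeries.X i₀))
  have hlt : ∀ j : {j : Fin n // j ≠ i₀}, (Polynomial.C ((μ * a i₀ * a j.1) ^ (p - 1)) * Polynomial.X +
      Polynomial.C (a i₀ ^ p * MvPowerSeries.X j.1 - a j.1 ^ p * MvPowerSeries.X i₀)).degree <
      (p : WithBot ℕ) := fun j => Polynomial.degree_linear_le.trans_lt (by exact_mod_cast hp.one_lt)
  have hdeg : ∀ j, (f j).natDegree = p := fun j => by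
    apply Polynomial.natDegree_eq_of_degree_eq_some
    rw [Polynomial.degree_sub_eq_left_of_degree_lt (by rw [Polynomial.degree_X_pow]; exact hlt j),
      Polynomial.degree_X_pow]
  have hf : (fun j => Polynomial.aeval (MvPolynomial.X j : MvPolynomial {j : Fin n // j ≠ i₀} R) (f j)) =
      minorRel p a μ i₀ := funext fun j => by
    simp only [f, minorRel, map_sub, map_add, map_mul, map_pow, Polynomial.aeval_X, Polynomial.aeval_C,
      MvPolynomial.algebraMap_eq]
    ring
  obtain ⟨hfree, hfin, hrank⟩ := free_sep_fintype f (fun j => Polynomial.monic_X_pow_sub (hlt j))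
    (fun j => by rw [hdeg]; exact hp.pos)
  rw [hf] at hfree hfin hrank
  have hcard : Fintype.card {j : Fin n // j ≠ i₀} = n - 1 := by
    simp [Fintype.card_subtype_compl]
  have hrank' : Module.finrank R (MvPolynomial {j : Fin n // j ≠ i₀} R ⧸
      Ideal.span (Set.range (minorRel p a μ i₀))) = p ^ (n - 1) := by
    rw [hrank, Finset.prod_congr rfl fun j _ => hdeg j, Finset.prod_const, Finset.card_univ, hcard]
  refine ⟨?_, hfree, hrank'⟩
  set I := Ideal.span (Set.range (minorRel p a μ i₀))
  have hle : I ≤ RingHom.ker (MvPolynomial.aeval (minorElt p a b i₀) :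
      MvPolynomial {j : Fin n // j ≠ i₀} R →ₐ[R] ASRing p b) := by
    refine Ideal.span_le.2 ?_
    rintro _ ⟨j, rfl⟩
    rw [SetLike.mem_coe, RingHom.mem_ker]
    simp only [minorRel, minorElt, map_sub, map_mul, map_pow, MvPolynomial.aeval_X, MvPolynomial.aeval_C]
    rw [sub_pow_expChar, mul_pow, mul_pow, gens_rel, gens_rel, hb, hb]
    simp only [map_mul, map_pow, mul_pow]
    have hpow : ∀ x : ASRing p b, x ^ p = x ^ (p - 1) * x := fun x => by
      rw [← pow_succ, Nat.sub_add_cancel hp.one_le]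
    rw [hpow (algebraMap R _ (a i₀)), hpow (algebraMap R _ (a j.1))]
    ring
  haveI := hfree
  haveI := hfin
  obtain ⟨T, hT, -, -, -⟩ := exists_translation_family p b hbm hb0
  let ψ : MvPolynomial {j : Fin n // j ≠ i₀} R ⧸ I →ₐ[R] ASRing p b :=
    Ideal.Quotient.liftₐ I (MvPolynomial.aeval (minorElt p a b i₀)) (fun x hx => hle hx)
  let ext : ({j : Fin n // j ≠ i₀} → ZMod p) → (Fin n → ZMod p) := fun ν i =>
    if h : i = i₀ then 0 else ν ⟨i, h⟩
  have hinj : Function.Injective ψ := by
    refine injective_of_separated (S := R) (B := MvPolynomial {j : Fin n // j ≠ i₀} R ⧸ I)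
      (algebraMap_injective p b) (ι := {j : Fin n // j ≠ i₀} → ZMod p) ?_ ψ
      (fun ν => (T (ext ν)).toAlgHom) ?_
    · rw [hrank', Fintype.card_fun, ZMod.card, hcard]
    · intro ν ρ h
      funext j
      have h1 := AlgHom.congr_fun h (Ideal.Quotient.mk I (X j))
      change T (ext ν) (MvPolynomial.aeval (minorElt p a b i₀) (X j)) =
        T (ext ρ) (MvPolynomial.aeval (minorElt p a b i₀) (X j)) at h1
      simp only [MvPolynomial.aeval_X, minorElt, map_sub, map_mul, AlgEquiv.commutes, hT, ext,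
        dif_pos, zc_zero, zero_mul, map_zero, add_zero, dif_neg j.2, sub_left_inj, mul_add,
        add_right_inj] at h1
      rw [← map_mul, ← map_mul, ← map_mul, ← map_mul] at h1
      exact zc_injective p (mul_right_cancel₀ (hb0 j.1)
        (mul_left_cancel₀ (ha0 i₀) (algebraMap_injective p b h1)))
  refine le_antisymm (fun x hx => ?_) hle
  have : ψ (Ideal.Quotient.mk I x) = ψ 0 := by rw [map_zero]; exact hx
  exact Ideal.Quotient.eq_zero_iff_mem.mp (hinj this)

/-- Elements fixed by the diagonal translation are polynomials in the minors after inverting `a i₀`. -/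
theorem dense_fixed (a b : Fin n → R) (i₀ : Fin n) (hbm : ∀ i, MvPowerSeries.constantCoeff (b i) = 0)
    (hbi₀ : b i₀ ≠ 0) (τ : ASRing p b ≃ₐ[R] ASRing p b)
    (hτ : ∀ i, τ (gens p b i) = gens p b i + algebraMap R _ (b i))
    (hab : ∀ i, a i₀ * b i = a i * b i₀) (t : ASRing p b) (ht : τ t = t) :
    ∃ (N : ℕ) (q : MvPolynomial {j : Fin n // j ≠ i₀} R),
      algebraMap R _ (a i₀) ^ N * t = MvPolynomial.aeval (minorElt p a b i₀) q := by
  classical
  have hp : p.Prime := Fact.out
  haveI : IsDomain R := GrothLib.CMFree.isDomain_of_isRegularLocalRing _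
  haveI := (structure_asRing p b hbm).2.1
  let φ : MvPolynomial {j : Fin n // j ≠ i₀} R →ₐ[R] ASRing p b := MvPolynomial.aeval (minorElt p a b i₀)
  have hfix' : ∀ q, τ (φ q) = φ q := fun q => by
    refine AlgHom.congr_fun (MvPolynomial.algHom_ext (f := τ.toAlgHom.comp φ) (g := φ) fun j => ?_) q
    show τ (φ (X j)) = φ (X j)
    simp only [φ, MvPolynomial.aeval_X, minorElt, map_sub, map_mul, AlgEquiv.commutes, hτ]
    rw [mul_add, mul_add, ← map_mul (algebraMap R _) (a i₀) (b j.1), hab, map_mul]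
    ring
  let S' := φ.range
  have hgen : ∀ t : ASRing p b, ∃ (N : ℕ) (P : Polynomial S'),
      algebraMap R _ (a i₀) ^ N * t = Polynomial.aeval (gens p b i₀) P := by
    intro t
    have ht : t ∈ Algebra.adjoin R (Set.range (gens p b)) := adjoin_gens p b ▸ trivial
    induction ht using Algebra.adjoin_induction with
    | mem x hx =>
      obtain ⟨i, rfl⟩ := hx
      by_cases hi : i = i₀
      · subst hi
        exact ⟨0, Polynomial.X, by simp⟩
      · refine ⟨1, Polynomial.C ⟨minorElt p a b i₀ ⟨i, hi⟩, X ⟨i, hi⟩, MvPolynomial.aeval_X _ _⟩ +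
          Polynomial.C (algebraMap R S' (a i)) * Polynomial.X, ?_⟩
        simp only [pow_one, map_add, map_mul, Polynomial.aeval_C, Polynomial.aeval_X,
          ← IsScalarTower.algebraMap_apply, minorElt]
        show _ = (algebraMap R (ASRing p b) (a i₀) * gens p b i - algebraMap R _ (a i) * gens p b i₀) + _
        ring
    | algebraMap r => exact ⟨0, Polynomial.C (algebraMap R S' r), by simp [← IsScalarTower.algebraMap_apply]⟩
    | add x y _ _ hx hy =>
      obtain ⟨N, P, hP⟩ := hx
      obtain ⟨M, Q, hQ⟩ := hy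
      refine ⟨N + M, Polynomial.C (algebraMap R S' (a i₀) ^ M) * P +
        Polynomial.C (algebraMap R S' (a i₀) ^ N) * Q, ?_⟩
      simp only [map_add, map_mul, map_pow, Polynomial.aeval_C, ← IsScalarTower.algebraMap_apply,
        ← hP, ← hQ]
      ring
    | mul x y _ _ hx hy =>
      obtain ⟨N, P, hP⟩ := hx
      obtain ⟨M, Q, hQ⟩ := hy
      refine ⟨N + M, P * Q, ?_⟩
      rw [map_mul, ← hP, ← hQ]
      ring
  obtain ⟨N, P, hP⟩ := hgen t
  let g : Polynomial S' := Polynomial.X ^ p - (Polynomial.C (algebraMap R S' (b i₀ ^ (p - 1))) * Polynomial.X +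
    Polynomial.C (algebraMap R S' (MvPowerSeries.X i₀)))
  have hlt : (Polynomial.C (algebraMap R S' (b i₀ ^ (p - 1))) * Polynomial.X +
      Polynomial.C (algebraMap R S' (MvPowerSeries.X i₀))).degree < (p : WithBot ℕ) :=
    Polynomial.degree_linear_le.trans_lt (by exact_mod_cast hp.one_lt)
  have hg : g.Monic := Polynomial.monic_X_pow_sub hlt
  have hgdeg : g.natDegree = p := by
    apply Polynomial.natDegree_eq_of_degree_eq_some
    rw [Polynomial.degree_sub_eq_left_of_degree_lt (by rw [Polynomial.degree_X_pow]; exact hlt),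
      Polynomial.degree_X_pow]
  have hgu : Polynomial.aeval (gens p b i₀) g = 0 := by
    simp only [g, Polynomial.aeval_def, Polynomial.eval₂_sub, Polynomial.eval₂_X_pow, Polynomial.eval₂_add,
      Polynomial.eval₂_mul, Polynomial.eval₂_pow, Polynomial.eval₂_X, Polynomial.eval₂_C, gens_rel, map_pow,
      ← IsScalarTower.algebraMap_apply]
    exact sub_self _
  set P' := P %ₘ g
  have hP' : Polynomial.aeval (gens p b i₀) P' = algebraMap R _ (a i₀) ^ N * t := by
    rw [Polynomial.aeval_modByMonic_eq_self_of_root hgu, hP]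
  have hdeg : P'.natDegree < p := (Polynomial.natDegree_modByMonic_lt P hg fun h1 => by
    rw [h1, Polynomial.natDegree_one] at hgdeg; exact hp.ne_zero hgdeg.symm).trans_eq hgdeg
  let Q : Polynomial (ASRing p b) := P'.map (algebraMap S' (ASRing p b)) -
    Polynomial.C (algebraMap R _ (a i₀) ^ N * t)
  have hpowfix : ∀ l : ℕ, ∀ x, τ x = x → (τ ^ l) x = x := by
    intro l x hx
    induction l with
    | zero => rfl
    | succ l ih => rw [pow_succ, AlgEquiv.mul_apply, hx, ih]
  have hpowgen : ∀ l : ℕ, (τ ^ l) (gens p b i₀) =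
      gens p b i₀ + algebraMap R _ ((l : R) * b i₀) := by
    intro l
    induction l with
    | zero => simp
    | succ l ih =>
      rw [pow_succ, AlgEquiv.mul_apply, show τ (gens p b i₀) = gens p b i₀ + algebraMap R _ (b i₀) by
        exact hτ i₀, map_add, AlgEquiv.commutes, ih]
      push_cast
      simp only [add_mul, one_mul, map_add, add_assoc]
  let r : Fin p → ASRing p b := fun l => gens p b i₀ + algebraMap R _ (((l : ℕ) : R) * b i₀)
  have hr : Function.Injective r := fun l m h => by
    haveI : CharP R p := charP_of_injective_ringHom (f := (MvPowerSeries.C : k →+* R)) MvPowerSeries.C_injective p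
    have h1 := mul_right_cancel₀ hbi₀ (algebraMap_injective p b (add_left_cancel h))
    exact Fin.ext (CharP.natCast_injOn_Iio R p l.2 m.2 h1)
  have hQ : Q = 0 := by
    refine Polynomial.eq_zero_of_natDegree_lt_card_of_eval_eq_zero Q hr (fun l => ?_) ?_
    · simp only [Q, Polynomial.eval_sub, Polynomial.eval_map, Polynomial.eval_C, sub_eq_zero, r]
      rw [← hpowgen]
      have hfix := hpowfix (l : ℕ) _ (show τ (algebraMap R _ (a i₀) ^ N * t) = _ by
        rw [map_mul, map_pow, AlgEquiv.commutes, ht])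
      rw [← hfix, ← hP', Polynomial.aeval_def]
      conv_rhs => rw [show (τ ^ (l : ℕ)) (Polynomial.eval₂ (algebraMap S' (ASRing p b)) (gens p b i₀) P') =
        (τ ^ (l : ℕ)).toAlgHom.toRingHom (Polynomial.eval₂ (algebraMap S' (ASRing p b)) (gens p b i₀) P')
          from rfl, Polynomial.hom_eval₂]
      congr 1
      refine RingHom.ext fun x => (hpowfix _ _ ?_).symm
      obtain ⟨q, hq⟩ := x.2
      have := hfix' q
      show τ (x : ASRing p b) = x
      rw [← hq]
      exact this
    · rw [Fintype.card_fin]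
      refine lt_of_le_of_lt (Polynomial.natDegree_sub_le _ _) (max_lt (Polynomial.natDegree_map_le.trans_lt hdeg) ?_)
      rw [Polynomial.natDegree_C]; exact hp.pos
  have h0 := congrArg (fun q => Polynomial.coeff q 0) hQ
  simp only [Q, Polynomial.coeff_sub, Polynomial.coeff_map, Polynomial.coeff_C_zero, Polynomial.coeff_zero,
    sub_eq_zero] at h0
  obtain ⟨q, hq⟩ := (P'.coeff 0).2
  exact ⟨N, q, h0.symm.trans hq.symm⟩

theorem minor_normal_away (hn : 2 ≤ n) (a : Fin n → R) (μ : R)
    (ham : ∀ i, MvPowerSeries.constantCoeff (a i) = 0) (ha0 : ∀ i, a i ≠ 0) (hμ : μ ≠ 0) (i₀ : Fin n) :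
    let B := MvPolynomial {j : Fin n // j ≠ i₀} R ⧸ Ideal.span (Set.range (minorRel p a μ i₀))
    IsDomain B ∧ IsIntegrallyClosed (Localization.Away (algebraMap R B (μ * a i₀))) := by
  classical
  intro B
  have hp : p.Prime := Fact.out
  haveI : IsDomain R := GrothLib.CMFree.isDomain_of_isRegularLocalRing _
  let b : Fin n → R := fun i => μ * a i
  have hb0 : ∀ i, b i ≠ 0 := fun i => mul_ne_zero hμ (ha0 i)
  have hbm : ∀ i, MvPowerSeries.constantCoeff (b i) = 0 := fun i => by
    simp only [b, map_mul, ham, mul_zero]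
  obtain ⟨hker, -, -⟩ := minor_ker p hn a μ ham ha0 hμ i₀ b fun _ => rfl
  obtain ⟨hreg, hdom, -, -, -⟩ := structure_asRing p b hbm
  haveI := hdom
  haveI := hreg
  haveI := GrothLib.RegLoc.isIntegrallyClosed_of_isRegularLocalRing (ASRing p b)
  obtain ⟨T, hT, hT0, hTadd, -⟩ := exists_translation_family p b hbm hb0
  let φ : MvPolynomial {j : Fin n // j ≠ i₀} R →ₐ[R] ASRing p b := MvPolynomial.aeval (minorElt p a b i₀)
  let ψ : B →ₐ[R] ASRing p b := Ideal.Quotient.liftₐ _ φ (fun x hx => hker.ge hx)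
  have hψ : Function.Injective ψ := by
    rw [injective_iff_map_eq_zero]
    intro x hx
    obtain ⟨x, rfl⟩ := Ideal.Quotient.mk_surjective x
    exact Ideal.Quotient.eq_zero_iff_mem.mpr (hker.le hx)
  haveI hBdom : IsDomain B := hψ.isDomain ψ.toRingHom
  refine ⟨hBdom, ?_⟩
  let τ := T fun _ => 1
  let C₀ := AlgHom.equalizer τ.toAlgHom (AlgHom.id R (ASRing p b))
  have hCmem : ∀ t, t ∈ C₀ ↔ τ t = t := fun t => Iff.rfl
  have hzC : ∀ j, minorElt p a b i₀ j ∈ C₀ := fun j => by
    rw [hCmem]
    simp only [minorElt, τ, map_sub, map_mul, AlgEquiv.commutes, hT, zc_one, one_mul, b]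
    ring
  have hψC : ∀ x, ψ x ∈ C₀ := fun x => by
    obtain ⟨x, rfl⟩ := Ideal.Quotient.mk_surjective x
    show φ x ∈ C₀
    induction x using MvPolynomial.induction_on with
    | C r => rw [MvPolynomial.aeval_C]; exact Subalgebra.algebraMap_mem C₀ r
    | add x y hx hy => rw [map_add]; exact add_mem hx hy
    | mul_X x j hx => rw [map_mul, MvPolynomial.aeval_X]; exact mul_mem hx (hzC j)
  -- normality of the invariants
  let G := Subgroup.zpowers τ
  haveI : SMulCommClass G C₀ (ASRing p b) := ⟨fun g c t => by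
    have hg : g.1 (c : ASRing p b) = c := by
      have hle : G ≤ MulAction.stabilizer (ASRing p b ≃ₐ[R] ASRing p b) (c : ASRing p b) :=
        Subgroup.zpowers_le.mpr ((hCmem _).mp c.2)
      exact hle g.2
    show g.1 ((c : ASRing p b) * t) = (c : ASRing p b) * g.1 t
    rw [map_mul, hg]⟩
  haveI : Algebra.IsInvariant C₀ (ASRing p b) G :=
    ⟨fun t ht => ⟨⟨t, (hCmem t).mpr (ht ⟨τ, Subgroup.mem_zpowers τ⟩)⟩, rfl⟩⟩
  haveI : IsIntegrallyClosed C₀ :=
    isIntegrallyClosed_of_isInvariant C₀ (ASRing p b) G Subtype.val_injective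
  let ψC : B →+* C₀ := ψ.toRingHom.codRestrict C₀ hψC
  have hc0 : μ * a i₀ ≠ 0 := mul_ne_zero hμ (ha0 i₀)
  have halg : ∀ r : R, ψ (algebraMap R B r) = algebraMap R (ASRing p b) r := ψ.commutes
  refine isIntegrallyClosed_away_of_dense ψC (fun x y h => hψ (congrArg Subtype.val h))
    (algebraMap R B (μ * a i₀))
    (fun h => hc0 (algebraMap_injective p b (by rw [← halg, h, map_zero, map_zero]))) fun t => ?_
  have ht : τ t.1 = t.1 := (hCmem _).mp t.2
  obtain ⟨N, q, hq⟩ := dense_fixed p a b i₀ hbm (hb0 i₀) τ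
    (fun i => by simp only [τ, hT, zc_one, one_mul]) (fun i => by simp only [b]; ring) t.1 ht
  refine ⟨N, Ideal.Quotient.mk _ (MvPolynomial.C (μ ^ N) * q), Subtype.ext ?_⟩
  show ψ (algebraMap R B (μ * a i₀)) ^ N * t.1 = φ (MvPolynomial.C (μ ^ N) * q)
  rw [halg, map_mul φ, MvPolynomial.aeval_C, show φ q = _ from hq.symm, map_mul, mul_pow, map_pow]
  ring

end GrothLib.WildQuot
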