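import Groth.Agent.Lib.WildQuot.SymForm

/-!
# The monomial basis of `R[u]/(uᵢ^p - cᵢuᵢ - xᵢ)`
-/

set_option linter.style.haveILetI false
set_option linter.unusedSectionVars false

universe u v

open IsLocalRing

namespace GrothLib.WildQuot

variable {R : Type u} [CommRing R] {A : Type v} [CommRing A] [Algebra R A] {n p : ℕ}

theorem monomial_bijective (hp : 2 ≤ p) (u : Fin n → A) (c x : Fin n → R)
    (hrel : ∀ i, u i ^ p = algebraMap R A (c i) * u i + algebraMap R A (x i))
    (hgen : Algebra.adjoin R (Set.range u) = ⊤) [Module.Free R A] [Module.Finite R A]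
    [Nontrivial R] (hrank : Module.finrank R A = p ^ n) :
    Function.Bijective (fun q : (Fin n → Fin p) → R => ∑ e, q e • ∏ i, u i ^ (e i : ℕ)) := by
  classical
  let mon : (Fin n → ℕ) → A := fun e => ∏ i, u i ^ e i
  let T := Fin n → Fin p
  let S : Submodule R A := Submodule.span R (Set.range fun e : T => mon fun i => e i)
  have hmonS : ∀ e : Fin n → ℕ, (∀ i, e i < p) → mon e ∈ S := fun e he =>
    Submodule.subset_span ⟨fun i => ⟨e i, he i⟩, rfl⟩
  have hupd : ∀ (e : Fin n → ℕ) (i : Fin n) (l : ℕ),
      mon (Function.update e i l) = u i ^ l * ∏ j ∈ Finset.univ.erase i, u j ^ e j := by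
    intro e i l
    simp only [mon]
    rw [← Finset.mul_prod_erase _ _ (Finset.mem_univ i), Function.update_self]
    congr 1
    exact Finset.prod_congr rfl fun j hj => by rw [Function.update_of_ne (Finset.mem_erase.mp hj).1]
  have hmonsplit : ∀ (e : Fin n → ℕ) (i : Fin n),
      mon e = u i ^ e i * ∏ j ∈ Finset.univ.erase i, u j ^ e j := fun e i => by
    rw [← hupd, Function.update_eq_self]
  have hS : S = ⊤ := by
    have hmul : ∀ i z, z ∈ S → u i * z ∈ S := by
      intro i z hz
      induction hz using Submodule.span_induction with
      | zero => simp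
      | add a b _ _ ha hb => rw [mul_add]; exact add_mem ha hb
      | smul r a _ ha => rw [mul_smul_comm]; exact Submodule.smul_mem _ _ ha
      | mem z hz =>
        obtain ⟨e, rfl⟩ := hz
        set d : Fin n → ℕ := fun j => e j
        show u i * mon d ∈ S
        rw [hmonsplit d i, ← mul_assoc, ← pow_succ']
        by_cases h : d i + 1 < p
        · rw [← hupd]
          refine hmonS _ fun j => ?_
          rcases eq_or_ne j i with rfl | hj
          · simpa using h
          · rw [Function.update_of_ne hj]; exact (e j).2
        · have : d i + 1 = p := by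
            have := (e i).2
            have : d i = (e i : ℕ) := rfl
            omega
          rw [this, hrel, add_mul, mul_assoc, ← pow_one (u i), ← hupd,
            ← one_mul (Finset.prod _ _), ← pow_zero (u i), ← hupd, ← Algebra.smul_def,
            ← Algebra.smul_def]
          refine add_mem (Submodule.smul_mem _ _ (hmonS _ fun j => ?_))
            (Submodule.smul_mem _ _ (hmonS _ fun j => ?_))
          all_goals
            rcases eq_or_ne j i with rfl | hj
            · simp; omega
            · rw [Function.update_of_ne hj]; exact (e j).2
    rw [eq_top_iff]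
    intro z hz0
    clear hz0
    suffices ∀ w ∈ S, z * w ∈ S by
      have h1 : (1 : A) ∈ S := by
        have := hmonS (fun _ => 0) (fun _ => by omega)
        simpa [mon] using this
      simpa using this 1 h1
    have hz : z ∈ Algebra.adjoin R (Set.range u) := hgen ▸ trivial
    induction hz using Algebra.adjoin_induction with
    | mem z hz => obtain ⟨i, rfl⟩ := hz; exact hmul i
    | algebraMap r => intro w hw; rw [← Algebra.smul_def]; exact Submodule.smul_mem _ _ hw
    | add a b _ _ ha hb => intro w hw; rw [add_mul]; exact add_mem (ha w hw) (hb w hw)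
    | mul a b _ _ ha hb => intro w hw; rw [mul_assoc]; exact ha _ (hb w hw)
  have hspan : ⊤ ≤ Submodule.span R (Set.range fun e : T => mon fun i => e i) := hS.ge
  let π : (T → R) →ₗ[R] A := Fintype.linearCombination R fun e => mon fun i => e i
  have hπsurj : Function.Surjective π := by
    intro z
    obtain ⟨q, hq⟩ := (Submodule.mem_span_range_iff_exists_fun R).mp (hspan (show z ∈ ⊤ from trivial))
    exact ⟨q, by simpa [π, Fintype.linearCombination_apply] using hq⟩
  have eA : A ≃ₗ[R] (T → R) :=
    (Module.finBasis R A).equivFun.trans (LinearEquiv.funCongrLeft R R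
      ((Fintype.equivFinOfCardEq (by simp [T, hrank])) : T ≃ Fin (Module.finrank R A)))
  have hπinj : Function.Injective π := by
    have := OrzechProperty.injective_of_surjective_endomorphism (eA.toLinearMap.comp π)
      (eA.surjective.comp hπsurj)
    exact fun a b h => this (by simp [h])
  have hfun : (fun q : (Fin n → Fin p) → R => ∑ e, q e • ∏ i, u i ^ (e i : ℕ)) = π :=
    funext fun q => (Fintype.linearCombination_apply R _ q).symm
  rw [hfun]
  exact ⟨hπinj, hπsurj⟩

/-- Divisibility of the coefficients of a polynomial of degree `< p` in each variable. -/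
theorem dvd_coeff_of_bounded (hp : 2 ≤ p) (u : Fin n → A) (c x : Fin n → R)
    (hrel : ∀ i, u i ^ p = algebraMap R A (c i) * u i + algebraMap R A (x i))
    (hgen : Algebra.adjoin R (Set.range u) = ⊤) [Module.Free R A] [Module.Finite R A]
    [Nontrivial R] (hrank : Module.finrank R A = p ^ n)
    (P : MvPolynomial (Fin n) R) (hP : ∀ m ∈ P.support, ∀ i, m i < p) (D : R) (t : A)
    (ht : algebraMap R A D * t = MvPolynomial.aeval u P) (m : Fin n →₀ ℕ) :
    D ∣ MvPolynomial.coeff m P := by
  classical
  by_cases hm : m ∈ P.support
  · have hbij := monomial_bijective hp u c x hrel hgen hrank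
    obtain ⟨q, hq⟩ := hbij.2 t
    let r : (Fin n → Fin p) → R := fun e =>
      MvPolynomial.coeff (Finsupp.equivFunOnFinite.symm fun i => (e i : ℕ)) P
    have h : (fun e => D * q e) = r := by
      apply hbij.1
      calc ∑ e, (D * q e) • ∏ i, u i ^ (e i : ℕ) = algebraMap R A D * t := by
            rw [← hq, Finset.mul_sum]
            exact Finset.sum_congr rfl fun e _ => by rw [mul_smul, Algebra.smul_def]
        _ = ∑ e, r e • ∏ i, u i ^ (e i : ℕ) := by
            rw [ht]
            conv_lhs => rw [MvPolynomial.as_sum P, map_sum]
            let em : (Fin n → Fin p) → (Fin n →₀ ℕ) := fun e =>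
              Finsupp.equivFunOnFinite.symm fun i => (e i : ℕ)
            have hinj : Function.Injective em := fun a b hab => funext fun i => Fin.ext (by
              simpa [em] using DFunLike.congr_fun hab i)
            symm
            rw [← Finset.sum_subset (s₁ := Finset.univ.filter fun e => em e ∈ P.support)
              (Finset.subset_univ _) (fun e _ he => by
                have : r e = 0 := by simpa [r, em] using he
                rw [this, zero_smul])]
            refine Finset.sum_bij (fun e _ => em e) (fun e he => (Finset.mem_filter.mp he).2)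
              (fun a _ b _ hab => hinj hab) ?_ ?_
            · intro b hb
              refine ⟨fun i => ⟨b i, hP b hb i⟩, ?_, ?_⟩
              · rw [Finset.mem_filter]
                refine ⟨Finset.mem_univ _, ?_⟩
                convert hb
                ext i; simp [em]
              · ext i; simp [em]
            · intro e _
              rw [MvPolynomial.aeval_monomial, Algebra.smul_def, Finsupp.prod_fintype _ _ (by simp)]
              rfl
    have := congrFun h (fun i => ⟨m i, hP m hm i⟩)
    refine ⟨q (fun i => ⟨m i, hP m hm i⟩), ?_⟩
    rw [this]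
    simp only [r]
    congr 1
    ext i; simp
  · rw [MvPolynomial.notMem_support_iff.mp hm]; exact dvd_zero D

end GrothLib.WildQuot
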