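import Mathlib.RingTheory.AdjoinRoot
import Mathlib.RingTheory.MvPolynomial.Basic
import Mathlib.LinearAlgebra.Dimension.Free
import Mathlib.RingTheory.Ideal.Quotient.Operations

/-!
`R[u₁,…,uₙ]/(f₁(u₁),…,fₙ(uₙ))` with monic `fᵢ` is free of rank `∏ deg fᵢ`.
-/

set_option autoImplicit false
set_option linter.style.haveILetI false

namespace GrothLib.WildQuot

universe u

variable {R : Type u} [CommRing R]

/-- The ideal generated by univariate polynomials in separate variables. -/
noncomputable abbrev sepIdeal {n : ℕ} (f : Fin n → Polynomial R) : Ideal (MvPolynomial (Fin n) R) :=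
  Ideal.span (Set.range fun i => Polynomial.aeval (MvPolynomial.X i : MvPolynomial (Fin n) R) (f i))

theorem free_sep : ∀ (n : ℕ) (f : Fin n → Polynomial R), (∀ i, (f i).Monic) → (∀ i, 0 < (f i).natDegree) →
    Module.Free R (MvPolynomial (Fin n) R ⧸ sepIdeal f) ∧
      (Nontrivial R → Module.finrank R (MvPolynomial (Fin n) R ⧸ sepIdeal f) = ∏ i, (f i).natDegree ∧
        Nontrivial (MvPolynomial (Fin n) R ⧸ sepIdeal f)) := by
  classical
  intro n
  induction n with
  | zero =>
    intro f _ _
    have hbot : sepIdeal f = ⊥ := by simp [sepIdeal]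
    let e : (MvPolynomial (Fin 0) R ⧸ sepIdeal f) ≃ₐ[R] R :=
      (Ideal.quotientEquivAlgOfEq R hbot).trans ((AlgEquiv.quotientBot R _).trans (MvPolynomial.isEmptyAlgEquiv R (Fin 0)))
    refine ⟨Module.Free.of_equiv e.toLinearEquiv.symm, fun _ => ⟨?_, e.toEquiv.nontrivial⟩⟩
    rw [e.toLinearEquiv.finrank_eq]
    simp
  | succ n ih =>
    intro f hf hpos
    let f' : Fin n → Polynomial R := fun i => f i.castSucc
    obtain ⟨hfree, hrank⟩ := ih f' (fun i => hf _) fun i => hpos _
    let A := MvPolynomial (Fin (n + 1)) R ⧸ sepIdeal f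
    let A' := MvPolynomial (Fin n) R ⧸ sepIdeal f'
    let F : Polynomial A' := (f (Fin.last n)).map (algebraMap R A')
    have hF : F.Monic := (hf _).map _
    let B := AdjoinRoot F
    let j : A' →ₐ[R] A := Ideal.Quotient.liftₐ (sepIdeal f')
      ((Ideal.Quotient.mkₐ R (sepIdeal f)).comp (MvPolynomial.rename Fin.castSucc)) (by
        intro z hz
        induction hz using Submodule.span_induction with
        | mem z hz =>
          obtain ⟨i, rfl⟩ := hz
          rw [AlgHom.comp_apply, ← Polynomial.aeval_algHom_apply, MvPolynomial.rename_X, Ideal.Quotient.mkₐ_eq_mk,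
            Ideal.Quotient.eq_zero_iff_mem]
          exact Ideal.subset_span ⟨i.castSucc, rfl⟩
        | zero => exact map_zero _
        | add a b _ _ ha hb => rw [map_add, ha, hb, add_zero]
        | smul c a _ ha => rw [smul_eq_mul, map_mul, ha, mul_zero])
    let v : Fin (n + 1) → B :=
      Fin.lastCases (AdjoinRoot.root F) fun i => AdjoinRoot.of F (Ideal.Quotient.mk _ (MvPolynomial.X i))
    let φ : A →ₐ[R] B := Ideal.Quotient.liftₐ (sepIdeal f) (MvPolynomial.aeval v) (by
      intro z hz
      induction hz using Submodule.span_induction with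
      | mem z hz =>
        obtain ⟨i, rfl⟩ := hz
        rw [← Polynomial.aeval_algHom_apply, MvPolynomial.aeval_X]
        induction i using Fin.lastCases with
        | last =>
          simp only [v, Fin.lastCases_last]
          rw [← Polynomial.aeval_map_algebraMap A', Polynomial.aeval_def, AdjoinRoot.algebraMap_eq]
          exact AdjoinRoot.eval₂_root F
        | cast i =>
          simp only [v, Fin.lastCases_castSucc]
          rw [← AdjoinRoot.algebraMap_eq, Polynomial.aeval_algebraMap_apply, ← Ideal.Quotient.mkₐ_eq_mk R,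
            Polynomial.aeval_algHom_apply, Ideal.Quotient.mkₐ_eq_mk,
            Ideal.Quotient.eq_zero_iff_mem.2 (Ideal.subset_span (Set.mem_range_self (f := fun i =>
              Polynomial.aeval (MvPolynomial.X i : MvPolynomial (Fin n) R) (f' i)) i)), map_zero]
      | zero => exact map_zero _
      | add a b _ _ ha hb => rw [map_add, ha, hb, add_zero]
      | smul c a _ ha => rw [smul_eq_mul, map_mul, ha, mul_zero])
    let ψ : B →ₐ[R] A := AdjoinRoot.liftAlgHom F j (Ideal.Quotient.mk _ (MvPolynomial.X (Fin.last n))) (by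
      rw [Polynomial.eval₂_map, AlgHom.comp_algebraMap, ← Polynomial.aeval_def, ← Ideal.Quotient.mkₐ_eq_mk R,
        Polynomial.aeval_algHom_apply, Ideal.Quotient.mkₐ_eq_mk, Ideal.Quotient.eq_zero_iff_mem]
      exact Ideal.subset_span ⟨Fin.last n, rfl⟩)
    have hof : ∀ i : Fin n, ψ (AdjoinRoot.of F (Ideal.Quotient.mk _ (MvPolynomial.X i))) =
        Ideal.Quotient.mk _ (MvPolynomial.X i.castSucc) := fun i => by
      rw [AdjoinRoot.liftAlgHom_of]
      show Ideal.Quotient.mk _ (MvPolynomial.rename Fin.castSucc (MvPolynomial.X i)) = _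
      rw [MvPolynomial.rename_X]
    have h1 : ψ.comp φ = AlgHom.id R A := Ideal.Quotient.algHom_ext R (MvPolynomial.algHom_ext fun i => by
      show ψ (MvPolynomial.aeval v (MvPolynomial.X i)) = Ideal.Quotient.mk _ (MvPolynomial.X i)
      rw [MvPolynomial.aeval_X]
      induction i using Fin.lastCases with
      | last => simp only [v, Fin.lastCases_last]; exact AdjoinRoot.liftAlgHom_root _ _ _ _
      | cast i => simp only [v, Fin.lastCases_castSucc]; exact hof i)
    have hφj : φ.comp j = IsScalarTower.toAlgHom R A' B := Ideal.Quotient.algHom_ext R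
      (MvPolynomial.algHom_ext fun i => by
        show MvPolynomial.aeval v (MvPolynomial.rename Fin.castSucc (MvPolynomial.X i)) = _
        rw [MvPolynomial.rename_X, MvPolynomial.aeval_X]
        simp only [v, Fin.lastCases_castSucc]
        rfl)
    have h2 : φ.comp ψ = AlgHom.id R B := AdjoinRoot.algHom_ext' (AlgHom.ext fun z => by
      show φ (ψ (AdjoinRoot.of F z)) = AdjoinRoot.of F z
      rw [AdjoinRoot.liftAlgHom_of]
      exact AlgHom.congr_fun hφj z) (by
      show φ (ψ (AdjoinRoot.root F)) = AdjoinRoot.root F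
      rw [AdjoinRoot.liftAlgHom_root]
      show MvPolynomial.aeval v (MvPolynomial.X (Fin.last n)) = _
      rw [MvPolynomial.aeval_X]
      simp only [v, Fin.lastCases_last])
    let e : A ≃ₐ[R] B := AlgEquiv.ofAlgHom φ ψ h2 h1
    haveI := hfree
    haveI : Module.Free A' B := Module.Free.of_basis (AdjoinRoot.powerBasis' hF).basis
    haveI : Module.Free R B := Module.Free.trans (R := R) (S := A') (M := B)
    refine ⟨Module.Free.of_equiv e.toLinearEquiv.symm, fun hR => ?_⟩
    haveI := hR
    obtain ⟨hr, hnt⟩ := hrank hR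
    haveI := hnt
    have hdeg : F.natDegree = (f (Fin.last n)).natDegree := (hf _).natDegree_map _
    have hA'B : Module.finrank A' B = F.natDegree := by
      rw [(AdjoinRoot.powerBasis' hF).finrank]; rfl
    haveI : Nontrivial B := Module.nontrivial_of_finrank_pos (R := A') (by rw [hA'B, hdeg]; exact hpos _)
    refine ⟨?_, e.toEquiv.nontrivial⟩
    rw [e.toLinearEquiv.finrank_eq, ← Module.finrank_mul_finrank R A' B, hr, hA'B, hdeg, Fin.prod_univ_castSucc]

end GrothLib.WildQuot
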