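import Groth.Agent.Lib.WildQuot.Invariants

/-!
# The invariant ring is not radicial over the norm subring
-/

set_option linter.style.haveILetI false
set_option linter.unusedSectionVars false

universe u v w

open IsLocalRing

namespace GrothLib.WildQuot

/-- The Frobenius fixes no nonzero class of `k[[X]]_{X_i X_j} / (k[[X]]_{X_i} + k[[X]]_{X_j})`. -/
theorem mem_span_of_frobenius_rel {p : ℕ} [Fact p.Prime] {k : Type v} [Field k] [CharP k p] {n : ℕ}
    (i j : Fin n) (hij : i ≠ j) (T : ℕ) (H : MvPowerSeries (Fin n) k)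
    (hH : H ^ p - (MvPowerSeries.X i ^ T * MvPowerSeries.X j ^ T) ^ (p - 1) * H ∈
      Ideal.span ({MvPowerSeries.X i ^ (p * T), MvPowerSeries.X j ^ (p * T)} :
        Set (MvPowerSeries (Fin n) k))) :
    ∃ α β : MvPowerSeries (Fin n) k, H = α * MvPowerSeries.X i ^ T + β * MvPowerSeries.X j ^ T := by
  classical
  have hp : p.Prime := Fact.out
  haveI : ExpChar k p := ExpChar.prime hp
  obtain ⟨c, d, hcd⟩ := Ideal.mem_span_pair.mp hH
  have key : ∀ a, ∀ m : Fin n →₀ ℕ, m i = a → m i < T → m j < T →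
      MvPowerSeries.coeff m H = 0 := by
    intro a
    induction a using Nat.strong_induction_on with
    | _ a ih =>
      intro m hma hmi hmj
      have h1 : MvPowerSeries.coeff (p • m) (H ^ p) = MvPowerSeries.coeff m H ^ p := by
        rw [← MvPowerSeries.map_frobenius_expand p hp.ne_zero, MvPowerSeries.coeff_map,
          MvPowerSeries.coeff_expand_smul, frobenius_def]
      have hz : ∀ (s : Fin n) (e : MvPowerSeries (Fin n) k), m s < T →
          MvPowerSeries.coeff (p • m) (e * MvPowerSeries.X s ^ (p * T)) = 0 := fun s e hs => by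
        refine MvPowerSeries.X_pow_dvd_iff.mp (Dvd.intro_left _ rfl) (p • m) ?_
        rw [Finsupp.smul_apply, smul_eq_mul]
        exact Nat.mul_lt_mul_of_pos_left hs hp.pos
      have h0 := congrArg (MvPowerSeries.coeff (p • m)) hcd
      rw [map_add, hz i c hmi, hz j d hmj, add_zero, map_sub, h1, eq_comm, sub_eq_zero] at h0
      set e : Fin n →₀ ℕ := Finsupp.single i ((p - 1) * T) + Finsupp.single j ((p - 1) * T) with he
      have hmon : (MvPowerSeries.X i ^ T * MvPowerSeries.X j ^ T : MvPowerSeries (Fin n) k) ^ (p - 1) =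
          MvPowerSeries.monomial e 1 := by
        rw [mul_pow, ← pow_mul, ← pow_mul, MvPowerSeries.X_pow_eq, MvPowerSeries.X_pow_eq,
          MvPowerSeries.monomial_mul_monomial, one_mul, he, mul_comm T (p - 1)]
      rw [hmon, MvPowerSeries.coeff_monomial_mul] at h0
      refine eq_zero_of_pow_eq_zero (n := p) (h0.trans ?_)
      split
      · rename_i hle
        rw [one_mul]
        obtain ⟨q, hq⟩ : ∃ q, p = q + 1 := ⟨p - 1, (Nat.sub_add_cancel hp.one_le).symm⟩
        have hq1 : 1 ≤ q := by have := hp.two_le; omega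
        have lt : ∀ a : ℕ, a < T → (q + 1) * a - q * T ≤ a ∧
            (q * T ≤ (q + 1) * a → (q + 1) * a - q * T < a) := fun a ha => by
          have h2 : q * a < q * T := Nat.mul_lt_mul_of_pos_left ha (by omega)
          rw [add_mul, one_mul]
          omega
        have hi : (p • m - e) i = (q + 1) * m i - q * T := by
          simp [he, hq, Finsupp.single_eq_of_ne hij]
        have hj : (p • m - e) j = (q + 1) * m j - q * T := by
          simp [he, hq, Finsupp.single_eq_of_ne hij.symm]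
        have hlei : q * T ≤ (q + 1) * m i := by
          simpa [he, hq, Finsupp.single_eq_of_ne hij] using hle i
        exact ih _ (hma ▸ (lt (m i) hmi).2 hlei) _ hi
          ((lt (m i) hmi).1.trans_lt hmi |> fun h => hi ▸ h)
          ((lt (m j) hmj).1.trans_lt hmj |> fun h => hj ▸ h)
      · rfl
  let H₁ : MvPowerSeries (Fin n) k := fun m => if T ≤ m i then MvPowerSeries.coeff m H else 0
  have hH₁ : ∀ m, MvPowerSeries.coeff m H₁ = if T ≤ m i then MvPowerSeries.coeff m H else 0 :=
    fun m => rfl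
  obtain ⟨α, hα⟩ : MvPowerSeries.X i ^ T ∣ H₁ :=
    MvPowerSeries.X_pow_dvd_iff.mpr fun m hm => by rw [hH₁, if_neg (by omega)]
  obtain ⟨β, hβ⟩ : MvPowerSeries.X j ^ T ∣ H - H₁ :=
    MvPowerSeries.X_pow_dvd_iff.mpr fun m hm => by
      rw [map_sub, hH₁]
      split
      · exact sub_self _
      · rw [sub_zero]; exact key (m i) m rfl (by omega) hm
  exact ⟨α, β, by rw [mul_comm α, mul_comm β, ← hα, ← hβ]; ring⟩

theorem X_pow_dvd_of_dvd_mul {k : Type v} [Field k] {n : ℕ} (i j : Fin n) (hij : i ≠ j) (T : ℕ)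
    (v : MvPowerSeries (Fin n) k)
    (h : MvPowerSeries.X i ^ T ∣ MvPowerSeries.X j ^ T * v) : MvPowerSeries.X i ^ T ∣ v := by
  classical
  refine MvPowerSeries.X_pow_dvd_iff.mpr fun m hm => ?_
  have := MvPowerSeries.X_pow_dvd_iff.mp h (m + Finsupp.single j T)
    (by simpa [Finsupp.single_eq_of_ne hij] using hm)
  rwa [MvPowerSeries.X_pow_eq, add_comm, MvPowerSeries.coeff_add_monomial_mul, one_mul] at this

theorem exists_fixed_pow_notMem {p : ℕ} [Fact p.Prime] {A : Type u} [CommRing A]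
    [IsRegularLocalRing A] [CharP A p]
    [IsAdicComplete (maximalIdeal A) A] {n : ℕ} (hn : ringKrullDim A = n) (h2 : 2 ≤ n)
    {k : Type v} [Field k] [Algebra k A]
    (hk : Function.Surjective (residue A ∘ algebraMap k A))
    {G : Type w} [Group G] [Fintype G] [MulSemiringAction G A] (hcard : Fintype.card G = p)
    (hGk : ∀ (σ : G) (c : k), σ • algebraMap k A c = algebraMap k A c)
    (hram : ∀ P : Ideal A, P.IsPrime → P ≠ maximalIdeal A → P.inertia G = ⊥)
    (u : Fin n → A)
    (hu : ∀ τ : Fin n → G, Ideal.span (Set.range fun i => τ i • u i) = maximalIdeal A)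
    (φ : MvPowerSeries (Fin n) k →ₐ[k] A) (hφ : ∀ i, φ (MvPowerSeries.X i) = ∏ σ : G, σ • u i) :
    ∃ y : A, (∀ σ : G, σ • y = y) ∧ ∀ e : ℕ, y ^ p ^ e ∉ Set.range φ := by
  classical
  have hp : p.Prime := Fact.out
  haveI := GrothLib.CMFree.isDomain_of_isRegularLocalRing A
  haveI : CharP k p :=
    ((algebraMap k A).charP_iff_charP p).mpr inferInstance
  haveI : ExpChar A p := ExpChar.prime hp
  by_contra! hcon
  have hres : ∀ (σ : G) (t : A), σ • t - t ∈ maximalIdeal A := by
    intro σ t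
    obtain ⟨c, hc⟩ := hk (residue A t)
    have hct : t - algebraMap k A c ∈ maximalIdeal A := by
      rw [← residue_eq_zero_iff, map_sub, ← hc]
      exact sub_self _
    have : σ • t - t = σ • (t - algebraMap k A c) - (t - algebraMap k A c) := by
      rw [smul_sub, hGk]; ring
    rw [this]
    exact sub_mem (smul_mem_maximalIdeal σ hct) hct
  have hu1 : Ideal.span (Set.range u) = maximalIdeal A := by simpa using hu fun _ => 1
  have hxm : ∀ i, φ (MvPowerSeries.X i) ∈ maximalIdeal A := fun i => by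
    rw [hφ, ← Finset.mul_prod_erase _ (fun σ : G => σ • u i) (Finset.mem_univ (1 : G))]
    exact Ideal.mul_mem_right _ _ (smul_mem_maximalIdeal 1 (hu1 ▸ Ideal.subset_span ⟨i, rfl⟩))
  have hrad : (Ideal.span (Set.range fun i => φ (MvPowerSeries.X i))).radical = maximalIdeal A := by
    refine le_antisymm ((Ideal.IsPrime.radical_le_iff inferInstance).2
      (Ideal.span_le.2 (Set.range_subset_iff.2 hxm))) ?_
    rw [show (fun i => φ (MvPowerSeries.X i)) = fun i => ∏ σ : G, σ • u i from funext hφ]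
    exact (Groth.Agent.S15790.result A G n u hu1).mpr fun τ => (hu τ).symm ▸ Ideal.le_radical
  obtain ⟨d, b, -, hb⟩ := exists_basis_over_powerSeries n hn hk _ hrad φ fun _ => rfl
  have hφinj : Function.Injective φ := by
    rw [injective_iff_map_eq_zero]
    intro z hz
    obtain ⟨c, hc⟩ := hb.2 1
    have h1 : (∑ i, φ (z * c i) * b i) = ∑ i, φ ((0 : Fin d → MvPowerSeries (Fin n) k) i) * b i := by
      simp [hz]
    have h3 := congrFun (hb.1 h1)
    have hne : ∃ i, c i ≠ 0 := by
      by_contra! h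
      simp [h] at hc
    obtain ⟨i, hi⟩ := hne
    exact (mul_eq_zero.mp (h3 i)).resolve_right hi
  -- traces
  set B := FixedPoints.subring A G
  haveI : IsLocalRing B := isLocalRing_fixed
  haveI : Algebra.IsInvariant B A G := ⟨fun t ht => ⟨⟨t, ht⟩, rfl⟩⟩
  haveI : Algebra.IsIntegral B A := Algebra.IsInvariant.isIntegral B A G
  have hTfix : ∀ a : A, (∑ σ : G, σ • a) ∈ B := fun a τ => by
    simp only [Finset.smul_sum, ← mul_smul]
    exact Fintype.sum_equiv (Equiv.mulLeft τ) _ _ fun _ => rfl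
  let tr : A →ₗ[B] B :=
    { toFun := fun a => ⟨∑ σ : G, σ • a, hTfix a⟩
      map_add' := fun a a' => Subtype.ext (by simp [smul_add, Finset.sum_add_distrib])
      map_smul' := fun c a => Subtype.ext (by
        simp only [Subring.smul_def, smul_eq_mul, RingHom.id_apply, Subring.coe_mul, Finset.mul_sum]
        exact Finset.sum_congr rfl fun σ _ => by rw [smul_mul', c.2 σ]) }
  set I : Ideal B := LinearMap.range tr with hI
  have hmemrad : ∀ t : B, (t : A) ∈ maximalIdeal A → t ∈ I.radical := by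
    intro t ht
    rw [Ideal.radical_eq_sInf, Submodule.mem_sInf]
    rintro q ⟨hq, hqp⟩
    haveI := hqp
    obtain ⟨Q, -, hQp, hQq⟩ := Ideal.exists_ideal_over_prime_of_isIntegral (R := B) (S := A) q ⊥
      (by
        intro z hz
        have : z = 0 := Subtype.ext (by simpa using hz)
        simp [this])
    have hQm : Q = maximalIdeal A := by
      by_contra hne
      let F := FractionRing (A ⧸ Q)
      let π : A →+* F := (algebraMap (A ⧸ Q) F).comp (Ideal.Quotient.mk Q)
      have hπ : ∀ z, π z = 0 ↔ z ∈ Q := fun z => by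
        rw [← Ideal.Quotient.eq_zero_iff_mem]
        exact map_eq_zero_iff _ (IsFractionRing.injective (A ⧸ Q) F)
      let χ : G → (A →* F) := fun σ => (π.comp (MulSemiringAction.toRingHom G A σ)).toMonoidHom
      have hχ : Function.Injective χ := by
        intro σ τ hστ
        refine mul_inv_eq_one.mp ?_
        have hmem : σ * τ⁻¹ ∈ Q.inertia G := fun t => by
          show (σ * τ⁻¹) • t - t ∈ Q
          rw [← hπ, map_sub, sub_eq_zero, mul_smul]
          have := DFunLike.congr_fun hστ (τ⁻¹ • t)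
          simpa [χ] using this
        rwa [hram Q hQp hne] at hmem
      have hli := (linearIndependent_monoidHom A F).comp χ hχ
      rw [Fintype.linearIndependent_iff] at hli
      refine one_ne_zero (hli (fun _ => 1) (funext fun a => ?_) 1)
      have : tr a ∈ q := hq ⟨a, rfl⟩
      rw [← hQq, Ideal.mem_comap] at this
      have h0 := (hπ _).mpr this
      rw [show algebraMap B A (tr a) = ∑ σ : G, σ • a from rfl, map_sum] at h0
      simpa [χ, Finset.sum_apply] using h0
    rw [← hQq, Ideal.mem_comap, hQm]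
    exact ht
  let i0 : Fin n := ⟨0, by omega⟩
  let i1 : Fin n := ⟨1, by omega⟩
  have h01 : i0 ≠ i1 := by simp [i0, i1]
  have hxB : ∀ i, φ (MvPowerSeries.X i) ∈ B := fun i σ => by
    rw [hφ, Finset.smul_prod']
    simp only [← mul_smul]
    exact Fintype.prod_equiv (Equiv.mulLeft σ) _ _ fun τ => rfl
  have htr : ∀ i, ∃ N, ∀ M ≥ N, ∃ a : A, ∑ σ : G, σ • a = φ (MvPowerSeries.X i) ^ M := fun i => by
    obtain ⟨N, hN⟩ := hmemrad ⟨_, hxB i⟩ (hxm i)
    refine ⟨N, fun M hM => ?_⟩
    have hM' : (⟨_, hxB i⟩ : B) ^ M ∈ I := by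
      rw [← Nat.sub_add_cancel hM, pow_add]
      exact Ideal.mul_mem_left _ _ hN
    obtain ⟨a, ha⟩ := hM'
    exact ⟨a, congrArg Subtype.val ha⟩
  obtain ⟨N0, hN0⟩ := htr i0
  obtain ⟨N1, hN1⟩ := htr i1
  set N := max N0 N1
  obtain ⟨a0, ha0⟩ := hN0 N (le_max_left _ _)
  obtain ⟨a1, ha1⟩ := hN1 N (le_max_right _ _)
  obtain ⟨g, hg⟩ : ∃ g : G, g ≠ 1 := by
    have : 1 < Fintype.card G := hcard ▸ hp.one_lt
    exact Fintype.exists_ne_of_one_lt_card this 1
  have hgen : Subgroup.zpowers g = ⊤ := zpowers_eq_top_of_prime_card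
    (by rw [Nat.card_eq_fintype_card, hcard]) hg
  have hord : orderOf g = p := orderOf_eq_prime (by
    rw [← hcard]; exact pow_card_eq_one) hg
  have hsumG : ∀ a : A, ∑ σ : G, σ • a = ∑ l ∈ Finset.range p, g ^ l • a := by
    intro a
    refine (Finset.sum_bij (fun l _ => g ^ l) (fun _ _ => Finset.mem_univ _) ?_ ?_ fun _ _ => rfl).symm
    · intro l hl l' hl' h
      exact pow_injOn_Iio_orderOf (by simpa [hord] using hl) (by simpa [hord] using hl') h
    · intro σ _
      have : σ ∈ Subgroup.zpowers g := hgen ▸ Subgroup.mem_top σ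
      rw [← mem_powers_iff_mem_zpowers, Submonoid.mem_powers_iff] at this
      obtain ⟨l, rfl⟩ := this
      refine ⟨l % p, Finset.mem_range.mpr (Nat.mod_lt _ hp.pos), ?_⟩
      show g ^ (l % p) = g ^ l
      rw [← hord, pow_mod_orderOf]
  let wf : A → A := fun a => -∑ l ∈ Finset.range p, (l : A) * g ^ l • a
  have hw : ∀ a : A, g • wf a = wf a + ∑ σ : G, σ • a := by
    intro a
    have hshift : ∀ f : ℕ → A, f p = f 0 →
        ∑ l ∈ Finset.range p, f (l + 1) = ∑ l ∈ Finset.range p, f l := fun f hf => by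
      have h := Finset.sum_range_succ' f p
      rw [Finset.sum_range_succ, hf] at h
      exact (add_right_cancel h).symm
    have h1 := hshift (fun l => (l : A) * g ^ l • a) (by simp)
    have h2 := hshift (fun l => g ^ l • a) (by
      show g ^ p • a = g ^ 0 • a
      rw [← hord, pow_orderOf_eq_one, pow_zero])
    simp only [Nat.cast_add, Nat.cast_one, add_mul, one_mul, Finset.sum_add_distrib] at h1
    simp only [wf, smul_neg, Finset.smul_sum, smul_mul', ← mul_smul, ← pow_succ']
    have hcast : ∀ l : ℕ, g • (l : A) = l := fun l => map_natCast (MulSemiringAction.toRingHom G A g) l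
    simp only [hcast]
    rw [hsumG, eq_sub_of_add_eq h1, h2]
    ring
  have hfixg : ∀ y : A, g • y = y → ∀ σ : G, σ • y = y := fun y hy σ => by
    have : Subgroup.zpowers g ≤ MulAction.stabilizer G y := Subgroup.zpowers_le.mpr hy
    exact this (hgen ▸ Subgroup.mem_top σ)
  set r0 := φ (MvPowerSeries.X i0) ^ N
  set r1 := φ (MvPowerSeries.X i1) ^ N
  have hg0 : g • r0 = r0 := (pow_mem (hxB i0) N : r0 ∈ B) g
  have hg1 : g • r1 = r1 := (pow_mem (hxB i1) N : r1 ∈ B) g
  have hw0 : g • wf a0 = wf a0 + r0 := by rw [hw, ha0]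
  have hw1 : g • wf a1 = wf a1 + r1 := by rw [hw, ha1]
  set w0 := wf a0
  set w1 := wf a1
  have hp1 : p - 1 + 1 = p := Nat.sub_add_cancel hp.one_le
  have hf : ∀ w r : A, g • w = w + r → g • r = r →
      g • (w ^ p - r ^ (p - 1) * w) = w ^ p - r ^ (p - 1) * w := fun w r h1 h2 => by
    rw [smul_sub, smul_mul', smul_pow', smul_pow', h1, h2, add_pow_expChar, mul_add, ← pow_succ, hp1]
    ring
  obtain ⟨e0, F0, hF0⟩ := hcon _ (hfixg _ (hf w0 r0 hw0 hg0))
  obtain ⟨e1, F1, hF1⟩ := hcon _ (hfixg _ (hf w1 r1 hw1 hg1))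
  obtain ⟨e2, F2, hF2⟩ := hcon _ (hfixg (w0 * r1 - w1 * r0) (by
    rw [smul_sub, smul_mul', smul_mul', hw0, hw1, hg0, hg1]; ring))
  set e := e0 + e1 + e2
  have hup : ∀ (y : A) (F : MvPowerSeries (Fin n) k) (e' : ℕ), e' ≤ e → φ F = y ^ p ^ e' →
      φ (F ^ p ^ (e - e')) = y ^ p ^ e := fun y F e' he hF => by
    rw [map_pow, hF, ← pow_mul, ← pow_add, Nat.add_sub_cancel' he]
  have hG0 := hup _ F0 e0 (by omega) hF0
  have hG1 := hup _ F1 e1 (by omega) hF1
  have hG2 := hup _ F2 e2 (by omega) hF2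
  rw [sub_pow_expChar_pow, mul_pow, ← pow_mul, ← pow_mul, mul_comm (p - 1), mul_comm p,
    pow_mul, pow_mul] at hG0 hG1
  rw [sub_pow_expChar_pow, mul_pow, mul_pow] at hG2
  set W0 := w0 ^ p ^ e
  set W1 := w1 ^ p ^ e
  set T := N * p ^ e
  have hR : ∀ i, φ (MvPowerSeries.X i ^ T) = (φ (MvPowerSeries.X i) ^ N) ^ p ^ e := fun i => by
    rw [map_pow, ← pow_mul]
  rw [← hR i0, ← hR i1] at hG2
  rw [← hR i0] at hG0
  rw [← hR i1] at hG1
  set P0 := F0 ^ p ^ (e - e0)
  set P1 := F1 ^ p ^ (e - e1)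
  set H := F2 ^ p ^ (e - e2)
  set X0 := (MvPowerSeries.X i0 : MvPowerSeries (Fin n) k) ^ T with hX0
  set X1 := (MvPowerSeries.X i1 : MvPowerSeries (Fin n) k) ^ T with hX1
  have hrel : H ^ p - (X0 * X1) ^ (p - 1) * H = X1 ^ p * P0 - X0 ^ p * P1 := by
    apply hφinj
    have hpow : ∀ z : A, z ^ p = z ^ (p - 1) * z := fun z => by rw [← pow_succ, hp1]
    simp only [map_sub, map_mul, map_pow, hG0, hG1, hG2]
    rw [sub_pow_expChar, mul_pow, mul_pow, mul_pow, hpow (φ X0), hpow (φ X1)]
    ring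
  obtain ⟨α, β, hαβ⟩ := mem_span_of_frobenius_rel (p := p) i0 i1 h01 T H (by
    rw [← hX0, ← hX1, hrel]
    refine sub_mem (Ideal.mul_mem_right _ _ (Ideal.subset_span (Or.inr ?_)))
      (Ideal.mul_mem_right _ _ (Ideal.subset_span (Or.inl ?_)))
    · show X1 ^ p = _
      rw [hX1, ← pow_mul, mul_comm]
    · rw [hX0, ← pow_mul, mul_comm])
  have hV : (W0 - φ β) * φ X1 = (W1 + φ α) * φ X0 := by
    have h := congrArg φ hαβ
    rw [hG2, map_add, map_mul, map_mul] at h
    linear_combination h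
  obtain ⟨v, hv⟩ := hb.2 (W0 - φ β)
  obtain ⟨v', hv'⟩ := hb.2 (W1 + φ α)
  have hcoef : ∀ l, v l * X1 = v' l * X0 := by
    refine congrFun (hb.1 (show ∑ l, φ (v l * X1) * b l = ∑ l, φ (v' l * X0) * b l from ?_))
    simp only at hv hv'
    rw [← hv, ← hv', Finset.sum_mul, Finset.sum_mul] at hV
    calc ∑ l, φ (v l * X1) * b l = ∑ l, φ (v l) * b l * φ X1 :=
          Finset.sum_congr rfl fun l _ => by rw [map_mul]; ring
      _ = _ := hV
      _ = _ := Finset.sum_congr rfl fun l _ => by rw [map_mul]; ring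
  have hdiv : ∀ l, X0 ∣ v l := fun l => X_pow_dvd_of_dvd_mul i0 i1 h01 T _
    ⟨v' l, by rw [← hX0, ← hX1, mul_comm, hcoef l]; ring⟩
  choose c hc using hdiv
  set z := ∑ l, φ (c l) * b l
  have hz : W0 - φ β = φ X0 * z := by
    rw [← hv, Finset.mul_sum]
    exact Finset.sum_congr rfl fun l _ => by rw [hc l, map_mul]; ring
  have hσ : ∀ q : MvPowerSeries (Fin n) k, g • φ q = φ q := fun q => by
    let σ' : A →ₐ[k] A := { MulSemiringAction.toRingHom G A g with commutes' := hGk g }
    exact AlgHom.congr_fun (ps_algHom_ext (maximalIdeal A) (σ'.comp φ) φ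
      (fun i => hxB i g) (fun i => smul_mem_maximalIdeal g (hxm i))) q
  have hgW : g • W0 = W0 + φ X0 := by
    rw [show g • W0 = (g • w0) ^ p ^ e from smul_pow' _ _ _, hw0, add_pow_expChar_pow, hR]
  have hzz : g • z = z + 1 := by
    have h := congrArg (g • ·) hz
    simp only [smul_sub, smul_mul', hσ, hgW] at h
    have hne : φ X0 ≠ 0 := by
      rw [Ne, ← map_zero φ]
      refine fun h => ?_
      have := hφinj h
      rw [hX0] at this
      have h1 := congrArg (MvPowerSeries.coeff (Finsupp.single i0 1)) (eq_zero_of_pow_eq_zero this)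
      simp at h1
    apply mul_left_cancel₀ hne
    linear_combination hz - h
  have := hres g z
  rw [hzz, add_sub_cancel_left] at this
  exact (maximalIdeal.isMaximal A).ne_top ((Ideal.eq_top_iff_one _).mpr this)

end GrothLib.WildQuot
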