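import Groth.Agent.Lib.WildQuot.ASGroup

/-!
# The translation family of an Artin–Schreier ring, and separated maps
-/

set_option autoImplicit false
set_option linter.style.haveILetI false
set_option linter.unusedSectionVars false

open MvPolynomial IsLocalRing

namespace GrothLib.WildQuot

universe u v w

variable (p : ℕ) [Fact p.Prime] {k : Type u} [Field k] [CharP k p] {n : ℕ}
  (a : Fin n → MvPowerSeries (Fin n) k)

local notation "R" => MvPowerSeries (Fin n) k

/-- The scalar `j ∈ ZMod p` seen in the power series ring. -/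
noncomputable def zc (j : ZMod p) : R :=
  algebraMap k R (ZMod.castHom (dvd_refl p) k j)

theorem zc_smul (j : ZMod p) (b : R) :
    (ZMod.castHom (dvd_refl p) k j : k) • b = zc p j * b := Algebra.smul_def _ _

theorem zc_zero : zc p (0 : ZMod p) = (0 : R) := by simp [zc]

theorem zc_one : zc p (1 : ZMod p) = (1 : R) := by simp [zc]

theorem zc_add (i j : ZMod p) : (zc p (i + j) : R) = zc p i + zc p j := by simp [zc]

theorem zc_mul (i j : ZMod p) : (zc p (i * j) : R) = zc p i * zc p j := by simp [zc]

theorem zc_neg (i : ZMod p) : (zc p (-i) : R) = -zc p i := by simp [zc]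

theorem zc_sum {ι : Type*} (s : Finset ι) (f : ι → ZMod p) :
    (zc p (∑ i ∈ s, f i) : R) = ∑ i ∈ s, zc p (f i) := by simp [zc, map_sum]

theorem zc_injective : Function.Injective (zc p : ZMod p → R) :=
  (algebraMap k R).injective.comp (ZMod.castHom (dvd_refl p) k).injective

theorem zc_pow_card (j : ZMod p) : (zc p j : R) ^ p = zc p j := by
  simp only [zc, ← map_pow, ZMod.pow_card]

/-- The group of translations is everything. -/
theorem exists_translation_family (ham : ∀ i, MvPowerSeries.constantCoeff (a i) = 0)
    (ha0 : ∀ i, a i ≠ 0) :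
    ∃ T : (Fin n → ZMod p) → (ASRing p a ≃ₐ[R] ASRing p a),
      (∀ ν i, T ν (gens p a i) = gens p a i + algebraMap R _ (zc p (ν i) * a i)) ∧
      T 0 = 1 ∧ (∀ ν ρ, T ν * T ρ = T (ν + ρ)) ∧ Function.Surjective T := by
  classical
  haveI := (structure_asRing p a ham).2.1
  haveI := charP_asRing p a
  haveI : ExpChar (ASRing p a) p := ExpChar.prime Fact.out
  choose T hT using exists_translate p a
  simp only [zc_smul] at hT
  have hext : ∀ σ τ : ASRing p a ≃ₐ[R] ASRing p a, (∀ i, σ (gens p a i) = τ (gens p a i)) → σ = τ :=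
    fun σ τ h => AlgEquiv.coe_toAlgHom_injective (algHom_ext_gens p a (f := σ.toAlgHom) (g := τ.toAlgHom) h)
  refine ⟨T, hT, hext _ _ fun i => ?_, fun ν ρ => hext _ _ fun i => ?_, fun σ => ?_⟩
  · rw [hT, Pi.zero_apply, zc_zero, zero_mul, map_zero, add_zero, AlgEquiv.one_apply]
  · rw [AlgEquiv.mul_apply, hT, map_add, AlgEquiv.commutes, hT, hT, Pi.add_apply, zc_add, add_mul,
      map_add, add_assoc]
  · have hex : ∀ i, ∃ j : ZMod p, σ (gens p a i) - gens p a i =
        algebraMap R _ ((ZMod.castHom (dvd_refl p) k j : k) • a i) := fun i => by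
      refine eq_smul_of_pow p a i (ha0 i) ?_
      rw [sub_pow_expChar, ← map_pow, gens_rel, map_add, map_mul, AlgEquiv.commutes, AlgEquiv.commutes]
      ring
    choose j hj using hex
    refine ⟨j, hext _ _ fun i => ?_⟩
    rw [hT, ← zc_smul, ← hj i]
    ring

/-- Products of the elementary translations. -/
theorem translation_prod (T : (Fin n → ZMod p) → (ASRing p a ≃ₐ[R] ASRing p a))
    (hT0 : T 0 = 1) (hTadd : ∀ ν ρ, T ν * T ρ = T (ν + ρ)) (ν : Fin n → ZMod p) :
    (List.ofFn fun i : Fin n => T (Pi.single i 1) ^ (ν i).val).prod = T ν := by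
  classical
  let F : Multiplicative (Fin n → ZMod p) →* (ASRing p a ≃ₐ[R] ASRing p a) :=
    { toFun := fun x => T x.toAdd
      map_one' := hT0
      map_mul' := fun x y => (hTadd _ _).symm }
  have h1 : ∀ i, T (Pi.single i 1) ^ (ν i).val = F (Multiplicative.ofAdd (Pi.single i (ν i))) := by
    intro i
    rw [show T (Pi.single i 1) = F (Multiplicative.ofAdd (Pi.single i 1)) from rfl, ← map_pow,
      ← ofAdd_nsmul, ← Pi.single_smul]
    congr 3
    simp
  simp only [h1]
  rw [show (List.ofFn fun i => F (Multiplicative.ofAdd (Pi.single i (ν i)))) =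
    (List.ofFn fun i => Multiplicative.ofAdd (Pi.single i (ν i) : Fin n → ZMod p)).map F from
      List.map_ofFn.symm, ← map_list_prod, List.prod_ofFn, ← ofAdd_sum,
    Finset.univ_sum_single]
  rfl

/-- A map from a free algebra whose rank is matched by distinct translates is injective. -/
theorem injective_of_separated {S : Type v} [CommRing S] [IsDomain S] {A : Type w} [CommRing A]
    [IsDomain A] [Algebra S A] (hi : Function.Injective (algebraMap S A)) {B : Type*} [CommRing B]
    [Algebra S B] [Module.Free S B] [Module.Finite S B] {ι : Type*} [Fintype ι]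
    (hcard : Fintype.card ι = Module.finrank S B) (ψ : B →ₐ[S] A) (τ : ι → (A →ₐ[S] A))
    (hτ : Function.Injective fun i => (τ i).comp ψ) : Function.Injective ψ := by
  classical
  let K := FractionRing A
  let e : Fin (Module.finrank S B) ≃ ι := (Fintype.equivFinOfCardEq hcard).symm
  let b := Module.finBasis S B
  let π : A →+* K := algebraMap A K
  have hπ : Function.Injective π := IsFractionRing.injective A K
  let χ : Fin (Module.finrank S B) → (B →* K) := fun i =>
    (π.comp ((τ (e i)).comp ψ).toRingHom).toMonoidHom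
  have hχ : Function.Injective χ := fun i j h => e.injective (hτ (AlgHom.ext fun z =>
    hπ (DFunLike.congr_fun h z)))
  let M : Matrix (Fin (Module.finrank S B)) (Fin (Module.finrank S B)) K :=
    Matrix.of fun i j => χ i (b j)
  have hlin : ∀ i z, χ i z = ∑ j, π (algebraMap S A (b.repr z j)) * M i j := by
    intro i z
    conv_lhs => rw [← b.sum_repr z]
    show π (τ (e i) (ψ _)) = _
    simp only [map_sum, map_smul]
    refine Finset.sum_congr rfl fun j _ => ?_
    rw [Algebra.smul_def, map_mul]
    rfl
  have hdet : M.det ≠ 0 := by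
    intro h0
    obtain ⟨v, hv0, hv⟩ := Matrix.exists_vecMul_eq_zero_iff.mpr h0
    have hli := (linearIndependent_monoidHom B K).comp χ hχ
    rw [Fintype.linearIndependent_iff] at hli
    refine hv0 (funext fun i => hli v ?_ i)
    funext z
    simp only [Finset.sum_apply, Pi.smul_apply, smul_eq_mul, Pi.zero_apply, Function.comp_apply, hlin,
      Finset.mul_sum]
    rw [Finset.sum_comm]
    refine Finset.sum_eq_zero fun j _ => ?_
    calc ∑ i, v i * (π (algebraMap S A (b.repr z j)) * M i j)
        = π (algebraMap S A (b.repr z j)) * Matrix.vecMul v M j := by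
          simp only [Matrix.vecMul, dotProduct, Finset.mul_sum]
          exact Finset.sum_congr rfl fun i _ => by ring
      _ = 0 := by rw [hv]; simp
  rw [injective_iff_map_eq_zero]
  intro z hz
  have h1 : M.mulVec (fun j => π (algebraMap S A (b.repr z j))) = 0 := by
    funext i
    have := hlin i z
    simp only [Matrix.mulVec, dotProduct, Pi.zero_apply]
    have h0 : χ i z = 0 := by
      show π (τ (e i) (ψ z)) = 0
      rw [hz, map_zero, map_zero]
    rw [← h0, this]
    exact Finset.sum_congr rfl fun j _ => mul_comm _ _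
  have h2 := Matrix.eq_zero_of_mulVec_eq_zero hdet h1
  apply b.repr.injective
  ext j
  rw [map_zero, Finsupp.zero_apply]
  exact hi (hπ (by simpa using congrFun h2 j))

end GrothLib.WildQuot
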