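import Groth.Agent.Lib.WildQuot.MonBasis
import Groth.Agent.Lib.WildQuot.Translate
import Groth.Agent.Lib.RegUFD.Basic

/-!
# Invariants of hyperplane subgroups of the translation group
-/

set_option autoImplicit false
set_option linter.style.haveILetI false
set_option linter.unusedSectionVars false

open IsLocalRing

namespace GrothLib.WildQuot

universe u v

theorem dvd_of_dvd_mul_of_isRelPrime {S : Type v} [CommRing S] [IsDomain S]
    [UniqueFactorizationMonoid S] : ∀ (D : S) {q x y : S}, D ∣ q * x → D ∣ q * y →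
      IsRelPrime x y → D ∣ q := by
  intro D
  induction D using UniqueFactorizationMonoid.induction_on_prime with
  | h₁ =>
    intro q x y hx hy h
    rw [zero_dvd_iff] at hx hy ⊢
    by_contra hq
    obtain rfl := (mul_eq_zero.mp hx).resolve_left hq
    obtain rfl := (mul_eq_zero.mp hy).resolve_left hq
    exact not_isUnit_zero (h (dvd_refl 0) (dvd_refl 0))
  | h₂ u hu => intro q x y _ _ _; exact hu.dvd
  | h₃ a π _ hπ ih =>
    intro q x y hx hy h
    have hq : π ∣ q := by
      rcases hπ.dvd_or_dvd ((dvd_mul_right π a).trans hx) with h1 | h1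
      · exact h1
      rcases hπ.dvd_or_dvd ((dvd_mul_right π a).trans hy) with h2 | h2
      · exact h2
      exact absurd (h h1 h2) hπ.not_unit
    obtain ⟨q', rfl⟩ := hq
    rw [mul_assoc, mul_dvd_mul_iff_left hπ.ne_zero] at hx hy
    exact mul_dvd_mul_left π (ih hx hy h)

theorem dvd_of_forall_erase {S : Type v} [CommRing S] [IsDomain S] [UniqueFactorizationMonoid S]
    {ι : Type} [DecidableEq ι] (a : ι → S) (hcop : ∀ i j, i ≠ j → IsRelPrime (a i) (a j)) (D : S)
    (e : ℕ) {s : Finset ι} (hs : s.Nonempty) :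
    ∀ {q : S}, (∀ l ∈ s, D ∣ q * (∏ j ∈ s.erase l, a j) ^ e) → D ∣ q := by
  induction hs using Finset.Nonempty.cons_induction with
  | singleton l =>
    intro q h
    simpa using h l (Finset.mem_singleton_self l)
  | cons l s hl hs ih =>
    intro q h
    have h1 : D ∣ q * a l ^ e := ih fun j hj => by
      have := h j (Finset.mem_cons_of_mem hj)
      rw [Finset.cons_eq_insert, Finset.erase_insert_of_ne (show l ≠ j from fun h' => hl (h' ▸ hj)),
        Finset.prod_insert (fun hh => hl (Finset.mem_of_mem_erase hh)), mul_pow, ← mul_assoc] at this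
      exact this
    have h2 := h l (Finset.mem_cons_self l s)
    rw [Finset.cons_eq_insert, Finset.erase_insert hl] at h2
    exact dvd_of_dvd_mul_of_isRelPrime D h1 h2
      (IsRelPrime.pow (IsRelPrime.prod_right fun j hj => hcop l j fun h' => hl (h' ▸ hj)))

theorem coeff_linear_pow {S : Type v} [CommRing S] {n : ℕ} (w : Fin n → S) (l : Fin n) :
    ∀ m i : ℕ, MvPolynomial.coeff (Finsupp.single l i)
      ((∑ j, MvPolynomial.C (w j) * MvPolynomial.X j) ^ m) = if i = m then w l ^ m else 0 := by
  classical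
  intro m
  induction m with
  | zero =>
    intro i
    rw [pow_zero, MvPolynomial.coeff_one, pow_zero]
    exact if_congr (by rw [eq_comm, Finsupp.single_eq_zero]) rfl rfl
  | succ m ih =>
    intro i
    rw [pow_succ, Finset.mul_sum, MvPolynomial.coeff_sum]
    have hterm : ∀ j, MvPolynomial.coeff (Finsupp.single l i)
        ((∑ j, MvPolynomial.C (w j) * MvPolynomial.X j) ^ m * (MvPolynomial.C (w j) * MvPolynomial.X j)) =
        if j = l ∧ i ≠ 0 then (if i - 1 = m then w l ^ m else 0) * w j else 0 := by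
      intro j
      rw [← mul_assoc, MvPolynomial.coeff_mul_X', mul_comm _ (MvPolynomial.C (w j)),
        MvPolynomial.coeff_C_mul]
      by_cases h : j = l ∧ i ≠ 0
      · obtain ⟨rfl, hi⟩ := h
        rw [if_pos (by simp [hi]), if_pos ⟨rfl, hi⟩, ← Finsupp.single_tsub, ih, mul_comm]
      · rw [if_neg h, if_neg]
        intro hmem
        rw [Finsupp.mem_support_iff] at hmem
        refine h ⟨by_contra fun hne => hmem (Finsupp.single_eq_of_ne hne), ?_⟩
        rintro rfl
        simp at hmem
    simp only [hterm]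
    rcases Nat.eq_zero_or_pos i with rfl | hi
    · rw [if_neg (Nat.succ_ne_zero m).symm]
      exact Finset.sum_eq_zero fun j _ => if_neg (by simp)
    · rw [Finset.sum_eq_single l (fun j _ hj => if_neg (fun h => hj h.1)) (by simp),
        if_pos ⟨rfl, hi.ne'⟩]
      by_cases h : i = m + 1
      · rw [if_pos h, if_pos (by omega), pow_succ]
      · rw [if_neg h, if_neg (by omega), zero_mul]

/-- An interpolation polynomial is fixed by a map permuting its data. -/
theorem map_interpolation {A : Type v} [CommRing A] {ι : Type} [Fintype ι] (φ : A →+* A) (e : ι ≃ ι)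
    (g r : ι → A) (D : A) (m : ℕ) (hg : ∀ j, φ (g j) = g (e j)) (hr : ∀ j, φ (r j) = r (e j))
    (hD : φ D = D) :
    (-∑ j, Polynomial.C (g j) * ((Polynomial.X - Polynomial.C (r j)) ^ m - Polynomial.C D)).map φ =
      -∑ j, Polynomial.C (g j) * ((Polynomial.X - Polynomial.C (r j)) ^ m - Polynomial.C D) := by
  simp only [Polynomial.map_neg, Polynomial.map_sum, Polynomial.map_mul, Polynomial.map_sub,
    Polynomial.map_pow, Polynomial.map_X, Polynomial.map_C, hg, hr, hD]
  congr 1
  exact Fintype.sum_equiv e _ _ fun j => rfl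

variable (p : ℕ) [Fact p.Prime] {k : Type u} [Field k] [CharP k p] {n : ℕ}

local notation "R" => MvPowerSeries (Fin n) k

theorem ne_zero_of_pairwise (hn : 2 ≤ n) (a : Fin n → R)
    (ham : ∀ i, MvPowerSeries.constantCoeff (a i) = 0)
    (hcop : ∀ i j, i ≠ j → IsRelPrime (a i) (a j)) (i : Fin n) : a i ≠ 0 := by
  intro h
  haveI : Nontrivial (Fin n) := Fin.nontrivial_iff_two_le.mpr hn
  obtain ⟨j, hj⟩ := exists_ne i
  have := hcop i j hj.symm
  rw [h, isRelPrime_zero_left] at this
  have h2 := (MvPowerSeries.isUnit_iff_constantCoeff.mp this)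
  rw [ham] at h2
  exact not_isUnit_zero h2

set_option maxHeartbeats 1000000 in
theorem orth_invariants (hn : 2 ≤ n) (a : Fin n → R) (μ : R)
    (ham : ∀ i, MvPowerSeries.constantCoeff (a i) = 0)
    (hcop : ∀ i j, i ≠ j → IsRelPrime (a i) (a j)) (hμ : μ ≠ 0)
    (s : Fin n → ZMod p) (hs : s ≠ 0)
    (b : Fin n → R) (hb : ∀ i, b i = μ * a i)
    (S : Finset (Fin n)) (hS : ∀ i, i ∈ S ↔ s i ≠ 0)
    (σ : Fin n → (ASRing p b ≃ₐ[R] ASRing p b))
    (hσ : ∀ i j, σ i (gens p b j) = gens p b j + (if i = j then algebraMap R _ (μ * a i) else 0)) :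
    let z : ASRing p b := ∑ i ∈ S, algebraMap R _ (zc p (s i) * ∏ j ∈ S.erase i, a j) * gens p b i
    let f : Polynomial R := Polynomial.X ^ p -
      Polynomial.C ((μ * ∏ i ∈ S, a i) ^ (p - 1)) * Polynomial.X -
      Polynomial.C (∑ i ∈ S, zc p (s i) * (∏ j ∈ S.erase i, a j) ^ p * MvPowerSeries.X i)
    (∀ t : ASRing p b, (∀ ν : Fin n → ZMod p, ∑ i, ν i * s i = 0 →
          (List.ofFn (fun i : Fin n => σ i ^ (ν i).val)).prod t = t) ↔
        t ∈ (Polynomial.aeval z : Polynomial R →ₐ[R] ASRing p b).range) ∧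
      RingHom.ker (Polynomial.aeval z : Polynomial R →ₐ[R] ASRing p b) = Ideal.span {f} := by
  classical
  intro z f
  have hp : p.Prime := Fact.out
  haveI : IsDomain R := GrothLib.CMFree.isDomain_of_isRegularLocalRing _
  haveI := GrothLib.RegUFD.ufd_of_isRegularLocalRing R
  have ha0 := ne_zero_of_pairwise hn a ham hcop
  have hb0 : ∀ i, b i ≠ 0 := fun i => by rw [hb]; exact mul_ne_zero hμ (ha0 i)
  have hbm : ∀ i, MvPowerSeries.constantCoeff (b i) = 0 := fun i => by
    rw [hb, map_mul, ham, mul_zero]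
  haveI := (structure_asRing p b hbm).2.1
  haveI := (free_finrank p b).1
  haveI := finite_asRing p b
  haveI := charP_asRing p b
  haveI : ExpChar (ASRing p b) p := ExpChar.prime hp
  obtain ⟨T, hT, hT0, hTadd, hTsurj⟩ := exists_translation_family p b hbm hb0
  have hext : ∀ g h : ASRing p b ≃ₐ[R] ASRing p b, (∀ i, g (gens p b i) = h (gens p b i)) → g = h :=
    fun g h e => AlgEquiv.coe_toAlgHom_injective (algHom_ext_gens p b (f := g.toAlgHom) (g := h.toAlgHom) e)
  have hσT : ∀ i, σ i = T (Pi.single i 1) := fun i => hext _ _ fun j => by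
    rw [hσ, hT]
    rcases eq_or_ne i j with rfl | hij
    · rw [if_pos rfl, Pi.single_eq_same, zc_one, one_mul, hb]
    · rw [if_neg hij, Pi.single_eq_of_ne hij.symm, zc_zero, zero_mul, map_zero]
  have hprod : ∀ ν : Fin n → ZMod p, (List.ofFn (fun i : Fin n => σ i ^ (ν i).val)).prod = T ν := by
    intro ν
    simp only [hσT]
    exact translation_prod p b T hT0 hTadd ν
  simp only [hprod]
  set α := ∏ i ∈ S, a i
  set d := μ * α
  have hd0 : d ≠ 0 := mul_ne_zero hμ (Finset.prod_ne_zero_iff.mpr fun i _ => ha0 i)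
  let w : Fin n → R := fun i => if i ∈ S then zc p (s i) * ∏ j ∈ S.erase i, a j else 0
  have hz : z = ∑ i, algebraMap R (ASRing p b) (w i) * gens p b i := by
    symm
    rw [← Finset.sum_subset (Finset.subset_univ S) (fun i _ hi => by simp [w, hi])]
    exact Finset.sum_congr rfl fun i hi => by simp [w, hi]
  have hwb : ∀ i, w i * b i = zc p (s i) * d := fun i => by
    by_cases hi : i ∈ S
    · simp only [w, if_pos hi, hb, d, α]
      rw [← Finset.mul_prod_erase S a hi]
      ring
    · have : s i = 0 := not_not.mp fun h => hi ((hS i).mpr h)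
      simp [w, hi, this, zc_zero]
  have hTz : ∀ ν, T ν z = z + algebraMap R _ (zc p (∑ i, ν i * s i) * d) := fun ν => by
    rw [hz, map_sum, zc_sum, Finset.sum_mul, map_sum, ← Finset.sum_add_distrib]
    refine Finset.sum_congr rfl fun i _ => ?_
    rw [map_mul (T ν), AlgEquiv.commutes, hT, mul_add, ← map_mul (algebraMap R _), zc_mul]
    congr 2
    rw [mul_assoc, ← hwb]
    ring
  have hp1 : p - 1 + 1 = p := Nat.sub_add_cancel hp.one_le
  have hzc1 : ∀ j : ZMod p, j ≠ 0 → (zc p j : R) ^ (p - 1) = 1 := fun j hj => by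
    simp only [zc, ← map_pow, ZMod.pow_card_sub_one_eq_one hj, map_one]
  have hwpow : ∀ i, w i ^ p * b i ^ (p - 1) = d ^ (p - 1) * w i := fun i => by
    by_cases hi : i ∈ S
    · calc w i ^ p * b i ^ (p - 1) = w i * (w i * b i) ^ (p - 1) := by
            rw [mul_pow, ← mul_assoc, ← pow_succ', hp1]
        _ = _ := by rw [hwb, mul_pow, hzc1 _ ((hS i).mp hi)]; ring
    · simp [w, hi, hp.ne_zero]
  have hfz : Polynomial.aeval z f = 0 := by
    have h1 : z ^ p = algebraMap R _ (d ^ (p - 1)) * z +
        algebraMap R _ (∑ i, w i ^ p * MvPowerSeries.X i) := by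
      rw [hz, sum_pow_char, map_sum, Finset.mul_sum, ← Finset.sum_add_distrib]
      refine Finset.sum_congr rfl fun i _ => ?_
      rw [mul_pow, gens_rel, ← map_pow, mul_add, ← mul_assoc, ← map_mul, hwpow, map_mul, map_mul,
        ← mul_assoc]
    have h2 : ∑ i, w i ^ p * (MvPowerSeries.X i : R) =
        ∑ i ∈ S, zc p (s i) * (∏ j ∈ S.erase i, a j) ^ p * MvPowerSeries.X i := by
      rw [← Finset.sum_subset (Finset.subset_univ S) (fun i _ hi => by simp [w, hi, hp.ne_zero])]
      exact Finset.sum_congr rfl fun i hi => by simp [w, hi, mul_pow, zc_pow_card]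
    rw [h2] at h1
    simp only [f, map_sub, map_mul (Polynomial.aeval z), map_pow (Polynomial.aeval z), Polynomial.aeval_X, Polynomial.aeval_C, h1]
    ring
  obtain ⟨l0, hl0⟩ : ∃ l, s l ≠ 0 := Function.ne_iff.mp hs
  let ν0 : ZMod p → (Fin n → ZMod p) := fun j => Pi.single l0 (j * (s l0)⁻¹)
  have hν0 : ∀ j, ∑ i, ν0 j i * s i = j := fun j => by
    rw [Finset.sum_eq_single l0 (fun i _ hi => by simp [ν0, Pi.single_eq_of_ne hi]) (by simp)]
    simp [ν0, mul_assoc, inv_mul_cancel₀ hl0]
  have hfdeg : f.Monic ∧ f.natDegree = p := by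
    have hlt : (Polynomial.C ((μ * ∏ i ∈ S, a i) ^ (p - 1)) * Polynomial.X +
        Polynomial.C (∑ i ∈ S, zc p (s i) * (∏ j ∈ S.erase i, a j) ^ p * MvPowerSeries.X i)).degree <
        (p : WithBot ℕ) :=
      Polynomial.degree_linear_le.trans_lt (by exact_mod_cast hp.one_lt)
    simp only [f, sub_sub]
    refine ⟨Polynomial.monic_X_pow_sub hlt, ?_⟩
    apply Polynomial.natDegree_eq_of_degree_eq_some
    rw [Polynomial.degree_sub_eq_left_of_degree_lt (by rwa [Polynomial.degree_X_pow]),
      Polynomial.degree_X_pow]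
  have hker : RingHom.ker (Polynomial.aeval z : Polynomial R →ₐ[R] ASRing p b) = Ideal.span {f} := by
    haveI : Module.Free R (AdjoinRoot f) := Module.Free.of_basis (AdjoinRoot.powerBasis' hfdeg.1).basis
    haveI : Module.Finite R (AdjoinRoot f) := Module.Finite.of_basis (AdjoinRoot.powerBasis' hfdeg.1).basis
    let ψ : AdjoinRoot f →ₐ[R] ASRing p b := AdjoinRoot.liftAlgHom f (Algebra.ofId R _) z hfz
    have hinj : Function.Injective ψ := by
      refine injective_of_separated (algebraMap_injective p b) (ι := ZMod p) ?_ ψ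
        (fun j => (T (ν0 j)).toAlgHom) ?_
      · rw [ZMod.card, (AdjoinRoot.powerBasis' hfdeg.1).finrank]
        exact hfdeg.2.symm
      · intro i j hij
        have h := AlgHom.congr_fun hij (AdjoinRoot.root f)
        simp only [AlgHom.comp_apply, ψ, AdjoinRoot.liftAlgHom_root] at h
        change T (ν0 i) z = T (ν0 j) z at h
        rw [hTz, hTz, hν0, hν0, add_right_inj] at h
        exact zc_injective p (mul_right_cancel₀ hd0 (algebraMap_injective p b h))
    ext q
    rw [RingHom.mem_ker, Ideal.mem_span_singleton, ← AdjoinRoot.mk_eq_zero, ← map_eq_zero_iff ψ hinj]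
    rw [show ψ (AdjoinRoot.mk f q) = Polynomial.aeval z q from by
      simp [ψ, Polynomial.aeval_def]]
  refine ⟨fun t => ⟨fun hfix => ?_, ?_⟩, hker⟩
  · -- interpolate
    let g : ZMod p → ASRing p b := fun j => T (ν0 j) t
    let r : ZMod p → ASRing p b := fun j => z + algebraMap R _ (zc p j * d)
    let D := algebraMap R (ASRing p b) (d ^ (p - 1))
    let Q : Polynomial (ASRing p b) :=
      -∑ j : ZMod p, Polynomial.C (g j) * ((Polynomial.X - Polynomial.C (r j)) ^ (p - 1) - Polynomial.C D)
    have hgT : ∀ ν j, T ν (g j) = g ((∑ i, ν i * s i) + j) := by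
      intro ν j
      set m := ∑ i, ν i * s i
      show T ν (T (ν0 j) t) = T (ν0 (m + j)) t
      rw [← AlgEquiv.mul_apply, hTadd,
        show ν + ν0 j = ν0 (m + j) + (ν + ν0 j - ν0 (m + j)) from (add_sub_cancel _ _).symm,
        ← hTadd, AlgEquiv.mul_apply, hfix]
      simp only [Pi.sub_apply, Pi.add_apply, sub_mul, add_mul, Finset.sum_sub_distrib,
        Finset.sum_add_distrib, hν0, m]
      ring
    have hrT : ∀ ν j, T ν (r j) = r ((∑ i, ν i * s i) + j) := fun ν j => by
      simp only [r, map_add, AlgEquiv.commutes, hTz, zc_add, add_mul, map_add]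
      ring
    have hQfix : ∀ ν, Q.map (T ν).toRingEquiv.toRingHom = Q := fun ν =>
      map_interpolation _ (Equiv.addLeft (∑ i, ν i * s i)) g r D (p - 1) (hgT ν) (hrT ν)
        ((T ν).commutes _)
    have hcoef : ∀ e, ∃ q : R, algebraMap R (ASRing p b) q = Q.coeff e := by
      intro e
      have := ((aut_facts b hbm hb0).2.2.2 (Q.coeff e)).mp fun τ => by
        obtain ⟨ν, rfl⟩ := hTsurj τ
        conv_rhs => rw [← hQfix ν, Polynomial.coeff_map]
        rfl
      exact this
    choose q hq using hcoef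
    have hdegQ : Q.natDegree < p := by
      refine lt_of_le_of_lt ((Polynomial.natDegree_neg _).le.trans (Polynomial.natDegree_sum_le_of_forall_le _ _ (n := p - 1) fun j _ => ?_))
        (Nat.sub_lt hp.pos one_pos)
      refine (Polynomial.natDegree_C_mul_le _ _).trans ((Polynomial.natDegree_sub_le _ _).trans (max_le ?_ ?_))
      · exact Polynomial.natDegree_pow_le.trans (by rw [Polynomial.natDegree_X_sub_C, mul_one])
      · simp
    have heval : Q.eval z = D * t := by
      simp only [Q, Polynomial.eval_neg, Polynomial.eval_finsetSum, Polynomial.eval_mul, Polynomial.eval_sub,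
        Polynomial.eval_pow, Polynomial.eval_C, Polynomial.eval_X]
      rw [Finset.sum_eq_single (0 : ZMod p)]
      · have hν00 : ν0 0 = 0 := by simp [ν0]
        simp [r, g, zc_zero, hν00, hT0, zero_pow (Nat.sub_pos_of_lt hp.one_lt).ne']
        ring
      · intro j _ hj
        simp only [r, sub_add_cancel_left, D]
        rw [← map_neg, ← map_pow, ← neg_mul, ← zc_neg, mul_pow, hzc1 _ (neg_ne_zero.mpr hj), one_mul,
          sub_self, mul_zero]
      · simp
    let P : MvPolynomial (Fin n) R :=
      ∑ e ∈ Finset.range p, MvPolynomial.C (q e) * (∑ j, MvPolynomial.C (w j) * MvPolynomial.X j) ^ e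
    have hP : ∀ m ∈ P.support, ∀ i, m i < p := by
      intro m hm i
      have h1 : P.totalDegree ≤ p - 1 := by
        refine MvPolynomial.totalDegree_finsetSum_le fun e he => ?_
        refine (MvPolynomial.totalDegree_mul _ _).trans ?_
        rw [MvPolynomial.totalDegree_C, zero_add]
        refine (MvPolynomial.totalDegree_pow _ _).trans ?_
        have hL : (∑ j, MvPolynomial.C (w j) * MvPolynomial.X j : MvPolynomial (Fin n) R).totalDegree ≤ 1 :=
          MvPolynomial.totalDegree_finsetSum_le fun j _ => by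
            refine (MvPolynomial.totalDegree_mul _ _).trans ?_
            rw [MvPolynomial.totalDegree_C, zero_add, MvPolynomial.totalDegree_X]
        calc e * _ ≤ e * 1 := Nat.mul_le_mul_left _ hL
          _ ≤ p - 1 := by rw [Finset.mem_range] at he; omega
      have h2 := MvPolynomial.le_totalDegree hm
      have h3 : m i ≤ m.sum fun _ e => e := by
        rw [Finsupp.sum_fintype _ _ (fun _ => rfl)]
        exact Finset.single_le_sum (f := fun l => m l) (fun _ _ => Nat.zero_le _) (Finset.mem_univ i)
      have := hp.pos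
      omega
    have hPev : MvPolynomial.aeval (gens p b) P = D * t := by
      rw [← heval, Polynomial.eval_eq_sum_range' hdegQ]
      simp only [P, map_sum, map_mul, map_pow, MvPolynomial.aeval_C, MvPolynomial.aeval_X, hq, ← hz]
    have hdvd := dvd_coeff_of_bounded hp.two_le (gens p b) (fun i => b i ^ (p - 1))
      (fun i => MvPowerSeries.X i) (gens_rel p b) (adjoin_gens p b) (free_finrank p b).2.1 P hP
      (d ^ (p - 1)) t hPev.symm
    have hSne : S.Nonempty := ⟨l0, (hS l0).mpr hl0⟩
    have hdq : ∀ e < p, d ^ (p - 1) ∣ q e := fun e he => by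
      refine dvd_of_forall_erase a hcop _ e hSne fun l hl => ?_
      have h1 := hdvd (Finsupp.single l e)
      have h2 : MvPolynomial.coeff (Finsupp.single l e) P = q e * w l ^ e := by
        simp only [P, MvPolynomial.coeff_sum, MvPolynomial.coeff_C_mul, coeff_linear_pow]
        rw [Finset.sum_eq_single e (fun i _ hi => by rw [if_neg (Ne.symm hi), mul_zero])
          (fun h => absurd (Finset.mem_range.mpr he) h), if_pos rfl]
      rw [h2] at h1
      have hu : IsUnit (zc p (s l) : R) :=
        (isUnit_iff_ne_zero.mpr ((hS l).mp hl)).map ((algebraMap k R).comp (ZMod.castHom (dvd_refl p) k))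
      simp only [w, if_pos hl, mul_pow, mul_left_comm (q e)] at h1
      exact (hu.pow e).dvd_mul_left.mp h1
    refine ⟨∑ e : Fin p, Polynomial.C ((hdq e e.2).choose) * Polynomial.X ^ (e : ℕ), ?_⟩
    have hD : D ≠ 0 := fun h => pow_ne_zero _ hd0 (algebraMap_injective p b (h.trans (map_zero _).symm))
    apply mul_left_cancel₀ hD
    rw [← hPev]
    simp only [P, map_sum, map_mul, map_pow, MvPolynomial.aeval_C, MvPolynomial.aeval_X, ← hz,
      AlgHom.toRingHom_eq_coe, RingHom.coe_coe, Polynomial.aeval_C, Polynomial.aeval_X, Finset.mul_sum]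
    rw [← Fin.sum_univ_eq_sum_range (fun e => algebraMap R (ASRing p b) (q e) * z ^ e) p]
    refine Finset.sum_congr rfl fun e _ => ?_
    rw [← mul_assoc, ← map_mul (algebraMap R _), ← (hdq e e.2).choose_spec]
  · rintro ⟨q, rfl⟩ ν hν
    show T ν (Polynomial.aeval z q) = Polynomial.aeval z q
    rw [← Polynomial.aeval_algHom_apply, hTz, hν, zc_zero, zero_mul, map_zero, add_zero]

end GrothLib.WildQuot
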