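import Mathlib
import Groth.Agent.Lib.CMFree.Params
import Groth.Agent.Lib.RegLoc.PowerSeries
import Groth.Agent.Lib.AdicLim.Basic

/-!
# Complete regular local rings over the power series ring of a system of parameters
-/

universe u v w

open IsLocalRing

namespace GrothLib.WildQuot

/-- Length over a local algebra with residue field `k` agrees with length over `k`. -/
theorem length_eq_of_residue_surjective {k : Type v} [Field k] {A : Type u} [CommRing A]
    [IsLocalRing A] [Algebra k A] (hk : Function.Surjective (residue A ∘ algebraMap k A))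
    {M : Type w} [AddCommGroup M] [Module A M] [Module k M] [IsScalarTower k A M]
    : Module.length A M = Module.length k M := by
  rw [IsLocalRing.length_restrictScalars k A M]
  have h1 : Module.length (ResidueField k) (ResidueField A) = 1 := by
    rw [← Module.length_eq_of_surjective (M := ResidueField A) (residue_surjective (R := k))]
    have hbij : Function.Bijective (Algebra.linearMap k (ResidueField A)) :=
      ⟨(algebraMap k (ResidueField A)).injective, hk⟩
    rw [← (LinearEquiv.ofBijective _ hbij).length_eq, Module.length_eq_one]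
  rw [h1, mul_one]

variable {k : Type v} [Field k] {A : Type u} [CommRing A] [IsLocalRing A] [IsNoetherianRing A]
  [Algebra k A] {n : ℕ} (φ : MvPowerSeries (Fin n) k →ₐ[k] A)

local notation "P" => MvPowerSeries (Fin n) k

/-- Regular sequence images: the coefficients of a relation among residual basis vanish. -/
theorem coeff_mem_of_rel {d : ℕ} (b : Fin d → A) (x : Fin n → A)
    (hφ : ∀ i, φ (MvPowerSeries.X i) = x i)
    (hbase : ∀ c : Fin d → k, (∑ i, algebraMap k A (c i) * b i) ∈ Ideal.span (Set.range x) →
      c = 0)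
    (hreg : ∀ j : Fin n, ∀ z : A, x j * z ∈ Ideal.span (x '' Set.Iio j) →
      z ∈ Ideal.span (x '' Set.Iio j)) :
    ∀ m : ℕ, ∀ r : Fin d → P,
      (∑ i, φ (r i) * b i) ∈ Ideal.span (x '' {i | n ≤ i.val + m}ᶜ) →
      ∀ i, r i ∈ Ideal.span ((MvPowerSeries.X : Fin n → P) '' {i | n ≤ i.val + m}ᶜ) := by
  intro m
  induction m with
  | zero =>
    intro r hr i
    have hu : ({i : Fin n | n ≤ i.val + 0}ᶜ : Set (Fin n)) = Set.univ := by
      ext i; simp
    rw [hu, Set.image_univ] at hr ⊢
    rw [GrothLib.RegLoc.PS.span_X, GrothLib.RegLoc.PS.mem_max]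
    have key : ∀ q : P, φ q - algebraMap k A (MvPowerSeries.constantCoeff q) ∈
        Ideal.span (Set.range x) := fun q => by
      have h1 : q - algebraMap k P (MvPowerSeries.constantCoeff q) ∈
          Ideal.span (Set.range (MvPowerSeries.X : Fin n → P)) := by
        rw [GrothLib.RegLoc.PS.span_X, GrothLib.RegLoc.PS.mem_max, map_sub,
          MvPowerSeries.algebraMap_apply]
        simp
      have h2 := Ideal.mem_map_of_mem φ h1
      rw [Ideal.map_span, ← Set.range_comp, map_sub, AlgHom.commutes] at h2
      rwa [show (φ ∘ MvPowerSeries.X : Fin n → A) = x from funext hφ] at h2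
    refine congrFun (hbase (fun i => MvPowerSeries.constantCoeff (r i)) ?_) i
    have : ∑ i, algebraMap k A (MvPowerSeries.constantCoeff (r i)) * b i =
        ∑ i, φ (r i) * b i -
          ∑ i, (φ (r i) - algebraMap k A (MvPowerSeries.constantCoeff (r i))) * b i := by
      rw [← Finset.sum_sub_distrib]
      exact Finset.sum_congr rfl fun i _ => by ring
    rw [this]
    exact sub_mem hr (sum_mem fun i _ => Ideal.mul_mem_right _ _ (key _))
  | succ m ih =>
    intro r hr
    by_cases hm : n ≤ m
    · have hu : ({i : Fin n | n ≤ i.val + (m + 1)}ᶜ : Set (Fin n)) = {i | n ≤ i.val + m}ᶜ := by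
        ext i; simp only [Set.mem_compl_iff, Set.mem_ofPred_eq]; omega
      rw [hu] at hr ⊢
      exact ih r hr
    set j : Fin n := ⟨n - (m + 1), by omega⟩
    have hS : ({i : Fin n | n ≤ i.val + (m + 1)}ᶜ : Set (Fin n)) = Set.Iio j := by
      ext i; simp only [Set.mem_compl_iff, Set.mem_ofPred_eq, Set.mem_Iio, Fin.lt_def, j]; omega
    have hT : ({i : Fin n | n ≤ i.val + m}ᶜ : Set (Fin n)) = insert j (Set.Iio j) := by
      ext i; simp only [Set.mem_compl_iff, Set.mem_ofPred_eq, Set.mem_insert_iff, Set.mem_Iio,
        Fin.lt_def, Fin.ext_iff, j]; omega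
    rw [hS] at hr ⊢
    rw [hT] at ih
    set J : Ideal P := Ideal.span ((MvPowerSeries.X : Fin n → P) '' Set.Iio j) with hJ
    have hJA : ∀ q ∈ J, φ q ∈ Ideal.span (x '' Set.Iio j) := fun q hq => by
      have h2 := Ideal.mem_map_of_mem φ hq
      rw [hJ, Ideal.map_span, ← Set.image_comp] at h2
      rwa [show (φ ∘ MvPowerSeries.X : Fin n → A) = x from funext hφ] at h2
    -- iterate
    have main : ∀ t : ℕ, ∀ r : Fin d → P, (∑ i, φ (r i) * b i) ∈ Ideal.span (x '' Set.Iio j) →
        ∀ i, r i ∈ J ⊔ Ideal.span {(MvPowerSeries.X j : P)} ^ t := by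
      intro t
      induction t with
      | zero => intro r _ i; simp
      | succ t iht =>
        intro r hr i
        have h1 : ∀ i, r i ∈ J ⊔ Ideal.span {(MvPowerSeries.X j : P)} := fun i => by
          have := ih r (Ideal.span_mono (Set.image_mono (Set.subset_insert _ _)) hr) i
          rwa [Set.image_insert_eq, Ideal.span_insert, sup_comm] at this
        choose a ha c hc hsum using fun i => Submodule.mem_sup.mp (h1 i)
        choose s hs using fun i => Ideal.mem_span_singleton'.mp (hc i)
        have h2 : x j * (∑ i, φ (s i) * b i) ∈ Ideal.span (x '' Set.Iio j) := by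
          have : x j * (∑ i, φ (s i) * b i) = ∑ i, φ (r i) * b i - ∑ i, φ (a i) * b i := by
            rw [Finset.mul_sum, ← Finset.sum_sub_distrib]
            refine Finset.sum_congr rfl fun i _ => ?_
            rw [← hsum i, ← hs i, map_add, map_mul, hφ]
            ring
          rw [this]
          exact sub_mem hr (sum_mem fun i _ => Ideal.mul_mem_right _ _ (hJA _ (ha i)))
        obtain ⟨y, hy, w, hw, hyw⟩ := Submodule.mem_sup.mp (iht s (hreg j _ h2) i)
        rw [← hsum i, ← hs i, ← hyw, add_mul, ← add_assoc]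
        refine Submodule.add_mem_sup (add_mem (ha i) (Ideal.mul_mem_right _ _ hy)) ?_
        rw [pow_succ]
        exact Ideal.mul_mem_mul hw (Ideal.mem_span_singleton_self _)
    intro i
    have hle : Ideal.span {(MvPowerSeries.X j : P)} ≤ maximalIdeal P :=
      (Ideal.span_singleton_le_iff_mem _).mpr (GrothLib.RegLoc.PS.X_mem k j)
    have hz : Ideal.Quotient.mk J (r i) ∈
        (⨅ t : ℕ, maximalIdeal P ^ t • ⊤ : Submodule P (P ⧸ J)) := by
      rw [Submodule.mem_iInf]
      intro t
      obtain ⟨y, hy, w, hw, hyw⟩ := Submodule.mem_sup.mp (main t r hr i)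
      rw [← hyw, map_add, Ideal.Quotient.eq_zero_iff_mem.mpr hy, zero_add]
      have : (Ideal.Quotient.mk J w) = w • (1 : P ⧸ J) :=
        (congrArg (Ideal.Quotient.mk J) (mul_one w)).symm.trans rfl
      rw [this]
      exact Submodule.smul_mem_smul (Ideal.pow_right_mono hle t hw) trivial
    rw [Ideal.iInf_pow_smul_eq_bot_of_isLocalRing (maximalIdeal P)
      (maximalIdeal.isMaximal P).ne_top, Submodule.mem_bot] at hz
    exact Ideal.Quotient.eq_zero_iff_mem.mp hz

theorem exists_basis_over_powerSeries {A : Type u} [CommRing A] [IsRegularLocalRing A]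
    [IsAdicComplete (maximalIdeal A) A] (n : ℕ) (hn : ringKrullDim A = n)
    [Algebra k A] (hk : Function.Surjective (residue A ∘ algebraMap k A))
    (x : Fin n → A) (hx : (Ideal.span (Set.range x)).radical = maximalIdeal A)
    (φ : MvPowerSeries (Fin n) k →ₐ[k] A) (hφ : ∀ i, φ (MvPowerSeries.X i) = x i) :
    ∃ (d : ℕ) (b : Fin d → A), (d : ℕ∞) = Module.length A (A ⧸ Ideal.span (Set.range x)) ∧
      Function.Bijective (fun r : Fin d → MvPowerSeries (Fin n) k => ∑ i, φ (r i) * b i) := by
  classical
  set J := Ideal.span (Set.range x) with hJ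
  have hJm : J ≤ maximalIdeal A := hx ▸ Ideal.le_radical
  have hJne : J ≠ ⊤ := fun h => (maximalIdeal.isMaximal A).ne_top (top_le_iff.mp (h ▸ hJm))
  obtain ⟨N, hN⟩ := Ideal.exists_radical_pow_le_of_fg J (IsNoetherian.noetherian _)
  rw [hx] at hN
  -- quotient is artinian
  have hart : IsArtinianRing (A ⧸ J) := by
    rw [isArtinianRing_iff_krullDimLE_zero, Ring.krullDimLE_zero_iff]
    intro q hq
    have : q.comap (Ideal.Quotient.mk J) = maximalIdeal A := by
      refine le_antisymm (le_maximalIdeal (Ideal.comap_ne_top _ hq.ne_top)) ?_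
      rw [← hx, Ideal.IsPrime.radical_le_iff inferInstance]
      intro z hz
      simp [Ideal.mem_comap, Ideal.Quotient.eq_zero_iff_mem.mpr hz]
    haveI : (q.comap (Ideal.Quotient.mk J)).IsMaximal := this ▸ maximalIdeal.isMaximal A
    refine ⟨⟨hq.ne_top, fun q' hlt => ?_⟩⟩
    have hlt' : q.comap (Ideal.Quotient.mk J) < q'.comap (Ideal.Quotient.mk J) :=
      (Ideal.orderEmbeddingOfSurjective _ Ideal.Quotient.mk_surjective).strictMono hlt
    have h2 := (inferInstance : (q.comap (Ideal.Quotient.mk J)).IsMaximal).out.2 _ hlt'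
    rw [← Ideal.map_comap_of_surjective _ Ideal.Quotient.mk_surjective q', h2, Ideal.map_top]
  have hfl : IsFiniteLength A (A ⧸ J) := by
    rw [← Module.length_ne_top_iff,
      Module.length_eq_of_surjective (M := A ⧸ J) (Ideal.Quotient.mk_surjective : Function.Surjective (algebraMap A (A ⧸ J))),
      Module.length_ne_top_iff]
    exact (isArtinianRing_iff_isFiniteLength (A ⧸ J)).mp hart
  have hlen := length_eq_of_residue_surjective (M := A ⧸ J) hk
  have hne : Module.length k (A ⧸ J) ≠ ⊤ := hlen ▸ Module.length_ne_top_iff.mpr hfl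
  haveI : Module.Finite k (A ⧸ J) := by
    have := isFiniteLength_iff_isNoetherian_isArtinian.mp (Module.length_ne_top_iff.mp hne)
    haveI := this.1
    infer_instance
  let e := Module.finBasis k (A ⧸ J)
  choose b hb using fun i => Ideal.Quotient.mk_surjective (e i)
  refine ⟨_, b, by rw [hlen, Module.length_eq_finrank], ?_⟩
  have hmk : ∀ c : Fin (Module.finrank k (A ⧸ J)) → k,
      Ideal.Quotient.mk J (∑ i, algebraMap k A (c i) * b i) = ∑ i, c i • e i := by
    intro c
    simp only [map_sum, map_mul, hb, Algebra.smul_def]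
    rfl
  have hbase : ∀ c : Fin (Module.finrank k (A ⧸ J)) → k,
      (∑ i, algebraMap k A (c i) * b i) ∈ J → c = 0 := by
    intro c hc
    rw [← Ideal.Quotient.eq_zero_iff_mem, hmk] at hc
    exact funext (Fintype.linearIndependent_iff.mp e.linearIndependent c hc)
  -- regular sequence
  set rs := List.ofFn x with hrs
  have hof : Ideal.ofList rs = J := by
    rw [Ideal.ofList, hJ]
    congr 1
    ext z
    simp [hrs, List.mem_ofFn]
  have hreg0 : RingTheory.Sequence.IsRegular A rs :=
    GrothLib.CMFree.isRegular_of_ringKrullDim_quotient A rs (hof ▸ hJne) (by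
      have h0 : ringKrullDim (A ⧸ J) = 0 := by
        haveI := Ideal.Quotient.nontrivial_iff.mpr hJne
        exact ringKrullDimZero_iff_ringKrullDim_eq_zero.mp
          (isArtinianRing_iff_krullDimLE_zero.mp hart)
      rw [hof, hn, hrs, List.length_ofFn, h0, zero_add])
  have hreg : ∀ j : Fin n, ∀ z : A, x j * z ∈ Ideal.span (x '' Set.Iio j) →
      z ∈ Ideal.span (x '' Set.Iio j) := by
    intro j z hz
    have h1 := hreg0.toIsWeaklyRegular.regular_mod_prev j.val (by simp [hrs])
    have hI : Ideal.ofList (rs.take j.val) = Ideal.span (x '' Set.Iio j) := by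
      rw [Ideal.ofList]
      congr 1
      ext w
      simp only [hrs, List.mem_take_iff_getElem, List.getElem_ofFn, List.length_ofFn,
        Set.mem_ofPred_eq, Set.mem_image, Set.mem_Iio]
      constructor
      · rintro ⟨i, hi, rfl⟩; exact ⟨⟨i, by omega⟩, Fin.lt_def.mpr (show i < j.val by omega), rfl⟩
      · rintro ⟨i, hi, rfl⟩
        have := Fin.lt_def.mp hi
        exact ⟨i.val, by omega, rfl⟩
    rw [isSMulRegular_quotient_iff_mem_of_smul_mem, smul_eq_mul, Ideal.mul_top, hI] at h1
    refine h1 z ?_
    simpa [hrs] using hz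
  constructor
  · intro r r' h
    have hrel := coeff_mem_of_rel φ b x hφ hbase hreg n (r - r') (by
      have : ∑ i, φ ((r - r') i) * b i = 0 := by
        simp only [Pi.sub_apply, map_sub, sub_mul, Finset.sum_sub_distrib]
        exact sub_eq_zero.mpr h
      rw [this]; exact Submodule.zero_mem _)
    funext i
    have hempty : ({i : Fin n | n ≤ i.val + n}ᶜ : Set (Fin n)) = ∅ := by ext i; simp
    have := hrel i
    rw [hempty, Set.image_empty, Ideal.span_empty, Ideal.mem_bot, Pi.sub_apply, sub_eq_zero] at this
    exact this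
  · intro a
    set mP := maximalIdeal (MvPowerSeries (Fin n) k)
    letI : Algebra (MvPowerSeries (Fin n) k) A := φ.toRingHom.toAlgebra
    have hmap : mP.map (algebraMap (MvPowerSeries (Fin n) k) A) = J := by
      rw [show mP = Ideal.span (Set.range MvPowerSeries.X) from (GrothLib.RegLoc.PS.span_X k).symm,
        Ideal.map_span, ← Set.range_comp, hJ]
      congr 2
      exact funext hφ
    have hF : ∀ t z, z ∈ (mP ^ t • ⊤ : Submodule (MvPowerSeries (Fin n) k) A) ↔ z ∈ J ^ t := by
      intro t z
      rw [Ideal.smul_top_eq_map, Submodule.restrictScalars_mem, Ideal.map_pow, hmap]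
    haveI : IsHausdorff mP A := by
      refine ⟨fun z hz => ?_⟩
      refine IsHausdorff.haus (inferInstance : IsHausdorff (maximalIdeal A) A) z fun t => ?_
      have h1 := SModEq.sub_mem.mp (hz t)
      rw [hF] at h1
      rw [SModEq.sub_mem, smul_eq_mul, Ideal.mul_top]
      exact Ideal.pow_right_mono hJm t h1
    haveI : IsPrecomplete mP (MvPowerSeries (Fin n) k) := inferInstanceAs
      (IsPrecomplete (maximalIdeal (MvPowerSeries (Fin n) k)) (MvPowerSeries (Fin n) k))
    obtain ⟨c, -, hc⟩ := GrothLib.AdicLim.exists_coeff_of_pow_step (I := mP) b 0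
      (fun t z => z ∈ J ^ t) (fun t z hz => (hF t z).mpr hz)
      (fun t y hy => by
        have hspan : (⊤ : Submodule (MvPowerSeries (Fin n) k) A) ≤
            Submodule.span _ (Set.range b) ⊔ (mP ^ 1 • ⊤) := by
          intro z _
          have hz := e.sum_repr (Ideal.Quotient.mk J z)
          rw [← hmk, Ideal.Quotient.eq] at hz
          rw [← sub_sub_cancel (∑ i, algebraMap k A (e.repr (Ideal.Quotient.mk J z) i) * b i) z]
          refine sub_mem (Submodule.mem_sup_left (sum_mem fun i _ => ?_))
            (Submodule.mem_sup_right ((hF 1 _).mpr (by simpa using hz)))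
          rw [← φ.commutes, show ∀ q, φ q * b i = q • b i from fun _ => rfl]
          exact Submodule.smul_mem _ _ (Submodule.subset_span ⟨i, rfl⟩)
        have h3 := Submodule.smul_mono (le_refl (mP ^ t)) hspan ((hF t y).mpr hy)
        rw [Submodule.smul_sup, ← Submodule.mul_smul, pow_one, ← pow_succ] at h3
        obtain ⟨p, hp, q, hq, rfl⟩ := Submodule.mem_sup.1 h3
        obtain ⟨c, hc, rfl⟩ := (Submodule.mem_ideal_smul_span_iff_exists_sum _ _ _).1 hp
        refine ⟨c, by simpa using hc, ?_⟩
        rw [Finsupp.sum_fintype _ _ (by simp)]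
        simpa using (hF _ _).mp hq)
      (x := a) (by simp)
    exact ⟨c, hc.symm⟩

end GrothLib.WildQuot
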