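import Mathlib
import Groth.Agent.Lib.WildQuot.ParamBasis
import Groth.Agent.Lib.AdicExtra.FiniteAlg
import Groth.Agent.Lib.Dim.Ring
import Groth.Agent.Lib.RegLoc.Basic
import Groth.Agent.Lib.CMFree.Regular
import Groth.Agent.S15790
import Groth.Agent.S15792

/-!
# Actions ramified precisely at the origin
-/

set_option linter.style.haveILetI false
set_option linter.unusedSectionVars false

universe u w

open IsLocalRing

namespace GrothLib.WildQuot

variable {A : Type u} [CommRing A] [IsLocalRing A] [IsNoetherianRing A]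
  {G : Type w} [Group G] [MulSemiringAction G A]

/-- The differences `σ t - t` lie in the ideal of differences of generators. -/
theorem diff_mem_of_gens {n : ℕ} (u : Fin n → A) (hu : Ideal.span (Set.range u) = maximalIdeal A)
    (hc : ∀ t : A, ∃ c : A, (∀ σ : G, σ • c = c) ∧ t - c ∈ maximalIdeal A) (σ : G) (t : A) :
    σ • t - t ∈ Ideal.span (Set.range fun i => σ • u i - u i) := by
  classical
  set J := Ideal.span (Set.range fun i => σ • u i - u i)
  set D := Ideal.span (Set.range fun t : A => σ • t - t)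
  have hle : D ≤ J ⊔ maximalIdeal A • D := by
    refine Ideal.span_le.2 ?_
    rintro _ ⟨t, rfl⟩
    obtain ⟨c, hcf, hct⟩ := hc t
    rw [← hu] at hct
    obtain ⟨a, ha⟩ := Ideal.mem_span_range_iff_exists_fun.mp hct
    have : σ • t - t = ∑ i, (σ • u i * (σ • a i - a i) + a i * (σ • u i - u i)) := by
      calc σ • t - t = σ • (t - c) - (t - c) := by rw [smul_sub, hcf]; ring
        _ = _ := by
          rw [← ha, Finset.smul_sum, ← Finset.sum_sub_distrib]
          refine Finset.sum_congr rfl fun i _ => ?_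
          rw [smul_mul']; ring
    simp only [SetLike.mem_coe, this]
    refine sum_mem fun i _ => add_mem (Submodule.mem_sup_right ?_)
      (Submodule.mem_sup_left (Ideal.mul_mem_left _ _ (Ideal.subset_span ⟨i, rfl⟩)))
    exact Submodule.smul_mem_smul
      (smul_mem_maximalIdeal σ (hu ▸ Ideal.subset_span ⟨i, rfl⟩)) (Ideal.subset_span ⟨a i, rfl⟩)
  exact Submodule.le_of_le_smul_of_le_jacobson_bot (IsNoetherian.noetherian _)
    (maximalIdeal_le_jacobson _) hle (Ideal.subset_span ⟨t, rfl⟩)

theorem exists_prime_ne_max {J : Ideal A} (hJ : J ≤ maximalIdeal A) {d : ℕ}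
    (hd : J.spanFinrank ≤ d) (hdim : ((d + 1 : ℕ) : WithBot ℕ∞) ≤ ringKrullDim A) :
    ∃ P : Ideal A, P.IsPrime ∧ J ≤ P ∧ P ≠ maximalIdeal A := by
  by_contra! h
  have hne : J ≠ ⊤ := fun e => (maximalIdeal.isMaximal A).ne_top (top_le_iff.mp (e ▸ hJ))
  have h1 := Ideal.height_le_spanFinrank J hne
  have h2 : (maximalIdeal A).height ≤ J.height := by
    rw [J.height_eq_inf_minimalPrimes]
    refine le_iInf₂ fun q hq => ?_
    rw [h q hq.1.1 hq.1.2]
  rw [← IsLocalRing.maximalIdeal_height_eq_ringKrullDim] at hdim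
  have h3 : ((d + 1 : ℕ) : ℕ∞) ≤ (d : ℕ∞) :=
    (WithBot.coe_le_coe.mp hdim).trans (h2.trans (h1.trans (by exact_mod_cast hd)))
  have : d + 1 ≤ d := by exact_mod_cast h3
  omega

/-- No element of `m ∖ m²` is invariant. -/
theorem exists_smul_ne {n : ℕ} (u : Fin n → A) (hu : Ideal.span (Set.range u) = maximalIdeal A)
    (hn : ringKrullDim A = n) (hn0 : 1 ≤ n)
    (hc : ∀ t : A, ∃ c : A, (∀ σ : G, σ • c = c) ∧ t - c ∈ maximalIdeal A)
    (hram : ∀ P : Ideal A, P.IsPrime → P ≠ maximalIdeal A → P.inertia G = ⊥)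
    (σ : G) (hσ : σ ≠ 1) (v : A) (hv : v ∈ maximalIdeal A) (hv2 : v ∉ maximalIdeal A ^ 2) :
    σ • v ≠ v := by
  classical
  intro hfix
  rw [← hu] at hv
  obtain ⟨a, ha⟩ := Ideal.mem_span_range_iff_exists_fun.mp hv
  obtain ⟨i, hi⟩ : ∃ i, IsUnit (a i) := by
    by_contra! h
    refine hv2 ?_
    rw [← ha, sq]
    exact sum_mem fun j _ => Ideal.mul_mem_mul ((mem_maximalIdeal _).2 (h j))
      (hu ▸ Ideal.subset_span ⟨j, rfl⟩)
  set u' := Function.update u i v
  have hu' : Ideal.span (Set.range u') = maximalIdeal A := by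
    refine le_antisymm (Ideal.span_le.2 ?_) ?_
    · rintro _ ⟨j, rfl⟩
      rcases eq_or_ne j i with rfl | hj
      · simpa [u', hu] using hv
      · simpa [u', hj] using (hu ▸ Ideal.subset_span ⟨j, rfl⟩ : u j ∈ maximalIdeal A)
    · rw [← hu]
      refine Ideal.span_le.2 ?_
      rintro _ ⟨j, rfl⟩
      rcases eq_or_ne j i with rfl | hj
      · obtain ⟨e, he⟩ := hi
        have : u j = ↑e⁻¹ * (v - ∑ l ∈ Finset.univ.erase j, a l * u l) := by
          rw [← ha, ← Finset.add_sum_erase Finset.univ _ (Finset.mem_univ j), add_sub_cancel_right,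
            ← he, Units.inv_mul_cancel_left]
        rw [this]
        refine Ideal.mul_mem_left _ _ (sub_mem (Ideal.subset_span ⟨j, by simp [u']⟩)
          (sum_mem fun l hl => Ideal.mul_mem_left _ _ (Ideal.subset_span ⟨l, ?_⟩)))
        simp [u', (Finset.mem_erase.mp hl).1]
      · exact Ideal.subset_span ⟨j, by simp [u', hj]⟩
  set S := (Finset.univ.erase i).image (fun j => σ • u' j - u' j)
  set J := Ideal.span (S : Set A)
  have hJm : J ≤ maximalIdeal A := by
    refine Ideal.span_le.2 ?_
    intro z hz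
    obtain ⟨j, -, rfl⟩ := Finset.mem_image.mp hz
    have hj : u' j ∈ maximalIdeal A := hu' ▸ Ideal.subset_span ⟨j, rfl⟩
    exact sub_mem (smul_mem_maximalIdeal σ hj) hj
  have hrank : J.spanFinrank ≤ n - 1 := by
    refine (Submodule.spanFinrank_span_le_ncard_of_finite (S.finite_toSet)).trans ?_
    rw [Set.ncard_coe_finset]
    refine Finset.card_image_le.trans ?_
    simp
  obtain ⟨P, hP, hJP, hPm⟩ := exists_prime_ne_max hJm hrank (by rw [hn, Nat.sub_add_cancel hn0])
  have hle : Ideal.span (Set.range fun j => σ • u' j - u' j) ≤ J := by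
    refine Ideal.span_le.2 ?_
    rintro _ ⟨j, rfl⟩
    rcases eq_or_ne j i with rfl | hj
    · simp [u', hfix]
    · exact Ideal.subset_span (Finset.mem_image.mpr ⟨j, by simp [hj], rfl⟩)
  have : σ ∈ P.inertia G := fun t => hJP (hle (diff_mem_of_gens u' hu' hc σ t))
  rw [hram P hP hPm] at this
  exact hσ this

variable [IsDomain A] [Fintype G]

/-- `A` has no basis over the invariants. -/
theorem not_bijective_basis (hdim : 2 ≤ ringKrullDim A) (hG : 1 < Fintype.card G)
    (hcard : (Fintype.card G : A) ∈ maximalIdeal A)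
    (hres : ∀ (σ : G) (t : A), σ • t - t ∈ maximalIdeal A)
    (hram : ∀ P : Ideal A, P.IsPrime → P ≠ maximalIdeal A → P.inertia G = ⊥)
    {r : ℕ} (b : Fin r → A) :
    ¬ Function.Bijective (fun c : Fin r → FixedPoints.subring A G => ∑ i, (c i : A) * b i) := by
  classical
  intro hb
  have hbot : (⊥ : Ideal A) ≠ maximalIdeal A := fun h => by
    have h1 := IsLocalRing.maximalIdeal_height_eq_ringKrullDim (R := A)
    rw [← h, Ideal.height_bot] at h1
    rw [← h1] at hdim
    have : (2 : ℕ∞) ≤ 0 := WithBot.coe_le_coe.mp hdim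
    simp at this
  have hfaith : ∀ σ : G, (∀ t : A, σ • t = t) → σ = 1 := fun σ h => by
    have : σ ∈ (⊥ : Ideal A).inertia G := fun t => by simp [h]
    rwa [hram ⊥ Ideal.isPrime_bot hbot] at this
  haveI : FaithfulSMul G A := ⟨fun {σ τ} h => inv_mul_eq_one.mp (hfaith (τ⁻¹ * σ) fun t => by
    rw [mul_smul, h t, inv_smul_smul]) |>.symm⟩
  haveI : Algebra.IsInvariant (FixedPoints.subring A G) A G := ⟨fun t ht => ⟨⟨t, ht⟩, rfl⟩⟩
  haveI : IsGaloisGroup G (FixedPoints.subring A G) A := ⟨‹_›, inferInstance, ‹_›⟩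
  let L : (Fin r → FixedPoints.subring A G) →ₗ[FixedPoints.subring A G] A :=
    Fintype.linearCombination (FixedPoints.subring A G) b
  have hL : ⇑L = fun c => ∑ i, (c i : A) * b i := funext fun c => by
    simp [L, Fintype.linearCombination_apply, Subring.smul_def]
  let e₀ := LinearEquiv.ofBijective L (hL ▸ hb)
  have hr : r = Fintype.card G := by
    have := IsGaloisGroup.card_eq_finrank' G (FixedPoints.subring A G) A
    rw [Nat.card_eq_fintype_card, ← e₀.finrank_eq, Module.finrank_pi, Fintype.card_fin] at this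
    exact this.symm
  let e : Fin r ≃ G := (finCongr hr).trans (Fintype.equivFin G).symm
  haveI : Nonempty (Fin r) := ⟨e.symm 1⟩
  set M : Matrix (Fin r) (Fin r) A := Matrix.of fun i j => e i • b j
  have hT : ∀ j l, (M.transpose * M) j l ∈ maximalIdeal A := by
    intro j l
    have : (M.transpose * M) j l = ∑ σ : G, σ • (b j * b l) := by
      rw [Matrix.mul_apply]
      refine Fintype.sum_equiv e _ _ fun i => ?_
      simp [M, smul_mul']
    rw [this]
    have h2 : ∑ σ : G, σ • (b j * b l) =
        ∑ σ : G, (σ • (b j * b l) - b j * b l) + (Fintype.card G : A) * (b j * b l) := by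
      rw [Finset.sum_sub_distrib, Finset.sum_const, Finset.card_univ, nsmul_eq_mul]; ring
    rw [h2]
    exact add_mem (sum_mem fun σ _ => hres σ _) (Ideal.mul_mem_right _ _ hcard)
  have hdet : M.det ∈ maximalIdeal A := by
    have h0 : residue A (M.transpose * M).det = 0 := by
      rw [RingHom.map_det]
      have : (residue A).mapMatrix (M.transpose * M) = 0 := Matrix.ext fun j l => by
        simpa [residue_eq_zero_iff] using hT j l
      rw [this, Matrix.det_zero]
    rw [residue_eq_zero_iff, Matrix.det_mul, Matrix.det_transpose] at h0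
    exact ((maximalIdeal.isMaximal A).isPrime.mem_or_mem h0).elim id id
  obtain ⟨P, hP, hPd, hPm⟩ := exists_prime_ne_max (J := Ideal.span {M.det}) (d := 1)
    ((Ideal.span_singleton_le_iff_mem _).2 hdet)
    ((Submodule.spanFinrank_span_le_ncard_of_finite (Set.finite_singleton _)).trans
      (by simp)) (by exact_mod_cast hdim)
  let F := FractionRing (A ⧸ P)
  let π : A →+* F := (algebraMap (A ⧸ P) F).comp (Ideal.Quotient.mk P)
  have hπ : ∀ z, π z = 0 ↔ z ∈ P := fun z => by
    rw [← Ideal.Quotient.eq_zero_iff_mem]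
    exact map_eq_zero_iff _ (IsFractionRing.injective (A ⧸ P) F)
  have h0 : (π.mapMatrix M).det = 0 := by
    rw [← RingHom.map_det, hπ]
    exact hPd (Ideal.mem_span_singleton_self _)
  obtain ⟨v, hv0, hv⟩ := Matrix.exists_vecMul_eq_zero_iff.mpr h0
  let χ : Fin r → (A →* F) := fun i =>
    (π.comp (MulSemiringAction.toRingHom G A (e i))).toMonoidHom
  have hχ : Function.Injective χ := by
    intro i l hil
    apply e.injective
    refine mul_inv_eq_one.mp ?_
    have hmem : e i * (e l)⁻¹ ∈ P.inertia G := fun t => by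
      show (e i * (e l)⁻¹) • t - t ∈ P
      rw [← hπ, map_sub, sub_eq_zero, mul_smul]
      have := DFunLike.congr_fun hil ((e l)⁻¹ • t)
      simpa [χ] using this
    rwa [hram P hP hPm] at hmem
  have hli := (linearIndependent_monoidHom A F).comp χ hχ
  rw [Fintype.linearIndependent_iff] at hli
  refine hv0 (funext fun i => hli v ?_ i)
  funext t
  obtain ⟨c, hc⟩ := hb.2 t
  simp only [Finset.sum_apply, Pi.smul_apply, smul_eq_mul, Pi.zero_apply, Function.comp_apply]
  rw [← hc]
  calc ∑ i, v i * χ i (∑ j, (c j : A) * b j)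
      = ∑ i, ∑ j, π (c j : A) * (v i * π.mapMatrix M i j) := by
        refine Finset.sum_congr rfl fun i _ => ?_
        simp only [χ, M, RingHom.toMonoidHom_eq_coe, MonoidHom.coe_coe, RingHom.comp_apply,
          MulSemiringAction.toRingHom_apply, Finset.smul_sum, map_sum, Finset.mul_sum,
          RingHom.mapMatrix_apply, Matrix.map_apply, Matrix.of_apply]
        refine Finset.sum_congr rfl fun j _ => ?_
        rw [smul_mul', (c j).2 (e i), map_mul]
        ring
    _ = ∑ j, π (c j : A) * Matrix.vecMul v (π.mapMatrix M) j := by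
        rw [Finset.sum_comm]
        simp [Matrix.vecMul, dotProduct, Finset.mul_sum]
    _ = 0 := by simp only [hv, Pi.zero_apply, mul_zero, Finset.sum_const_zero]

end GrothLib.WildQuot
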