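import Mathlib

/-!
# An invariant perfect form on `R[u]/(uᵢ^p - cᵢuᵢ - xᵢ)` and a symmetric form on skew group rings
-/

set_option linter.style.haveILetI false
set_option linter.unusedSectionVars false

universe u v w

open IsLocalRing

namespace GrothLib.WildQuot

section form

variable {R : Type u} [CommRing R] [IsLocalRing R] {A : Type v} [CommRing A] [Algebra R A]
  {n p : ℕ}

theorem exists_perfect_form (hp : 2 ≤ p) (u : Fin n → A) (c x : Fin n → R)
    (hc : ∀ i, c i ∈ maximalIdeal R) (hx : ∀ i, x i ∈ maximalIdeal R)
    (hrel : ∀ i, u i ^ p = algebraMap R A (c i) * u i + algebraMap R A (x i))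
    (hgen : Algebra.adjoin R (Set.range u) = ⊤) [Module.Free R A] [Module.Finite R A]
    (hrank : Module.finrank R A = p ^ n) :
    ∃ t : A →ₗ[R] R,
      (∀ z, (∀ w, t (w * z) = 0) → z = 0) ∧ (∀ ψ : A →ₗ[R] R, ∃ z, ∀ w, ψ w = t (w * z)) ∧
      ∀ (σ : A →ₐ[R] A) (a : Fin n → R), (∀ i, σ (u i) = u i + algebraMap R A (a i)) →
        ∀ z, t (σ z) = t z := by
  classical
  let mon : (Fin n → ℕ) → A := fun e => ∏ i, u i ^ e i
  let T := Fin n → Fin p
  let S : Submodule R A := Submodule.span R (Set.range fun e : T => mon fun i => e i)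
  have hmonS : ∀ e : Fin n → ℕ, (∀ i, e i < p) → mon e ∈ S := fun e he =>
    Submodule.subset_span ⟨fun i => ⟨e i, he i⟩, rfl⟩
  have hupd : ∀ (e : Fin n → ℕ) (i : Fin n) (l : ℕ),
      mon (Function.update e i l) = u i ^ l * ∏ j ∈ Finset.univ.erase i, u j ^ e j := by
    intro e i l
    simp only [mon]
    rw [← Finset.mul_prod_erase _ _ (Finset.mem_univ i), Function.update_self]
    congr 1
    exact Finset.prod_congr rfl fun j hj => by rw [Function.update_of_ne (Finset.mem_erase.mp hj).1]
  have hmonsplit : ∀ (e : Fin n → ℕ) (i : Fin n),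
      mon e = u i ^ e i * ∏ j ∈ Finset.univ.erase i, u j ^ e j := fun e i => by
    rw [← hupd, Function.update_eq_self]
  have hS : S = ⊤ := by
    have hmul : ∀ i z, z ∈ S → u i * z ∈ S := by
      intro i z hz
      induction hz using Submodule.span_induction with
      | zero => simp
      | add a b _ _ ha hb => rw [mul_add]; exact add_mem ha hb
      | smul r a _ ha => rw [mul_smul_comm]; exact Submodule.smul_mem _ _ ha
      | mem z hz =>
        obtain ⟨e, rfl⟩ := hz
        set d : Fin n → ℕ := fun j => e j
        show u i * mon d ∈ S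
        rw [hmonsplit d i, ← mul_assoc, ← pow_succ']
        by_cases h : d i + 1 < p
        · rw [← hupd]
          refine hmonS _ fun j => ?_
          rcases eq_or_ne j i with rfl | hj
          · simpa using h
          · rw [Function.update_of_ne hj]; exact (e j).2
        · have : d i + 1 = p := by
            have := (e i).2
            have : d i = (e i : ℕ) := rfl
            omega
          rw [this, hrel, add_mul, mul_assoc, ← pow_one (u i), ← hupd,
            ← one_mul (Finset.prod _ _), ← pow_zero (u i), ← hupd, ← Algebra.smul_def,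
            ← Algebra.smul_def]
          refine add_mem (Submodule.smul_mem _ _ (hmonS _ fun j => ?_))
            (Submodule.smul_mem _ _ (hmonS _ fun j => ?_))
          all_goals
            rcases eq_or_ne j i with rfl | hj
            · simp; omega
            · rw [Function.update_of_ne hj]; exact (e j).2
    rw [eq_top_iff]
    intro z hz0
    clear hz0
    suffices ∀ w ∈ S, z * w ∈ S by
      have h1 : (1 : A) ∈ S := by
        have := hmonS (fun _ => 0) (fun _ => by omega)
        simpa [mon] using this
      simpa using this 1 h1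
    have hz : z ∈ Algebra.adjoin R (Set.range u) := hgen ▸ trivial
    induction hz using Algebra.adjoin_induction with
    | mem z hz => obtain ⟨i, rfl⟩ := hz; exact hmul i
    | algebraMap r => intro w hw; rw [← Algebra.smul_def]; exact Submodule.smul_mem _ _ hw
    | add a b _ _ ha hb => intro w hw; rw [add_mul]; exact add_mem (ha w hw) (hb w hw)
    | mul a b _ _ ha hb => intro w hw; rw [mul_assoc]; exact ha _ (hb w hw)
  have hspan : ⊤ ≤ Submodule.span R (Set.range fun e : T => mon fun i => e i) := hS.ge
  let π : (T → R) →ₗ[R] A := Fintype.linearCombination R fun e => mon fun i => e i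
  have hπsurj : Function.Surjective π := by
    intro z
    obtain ⟨q, hq⟩ := (Submodule.mem_span_range_iff_exists_fun R).mp (hspan (show z ∈ ⊤ from trivial))
    exact ⟨q, by simpa [π, Fintype.linearCombination_apply] using hq⟩
  have eA : A ≃ₗ[R] (T → R) :=
    (Module.finBasis R A).equivFun.trans (LinearEquiv.funCongrLeft R R
      ((Fintype.equivFinOfCardEq (by simp [T, hrank])) : T ≃ Fin (Module.finrank R A)))
  have hπinj : Function.Injective π := by
    have := OrzechProperty.injective_of_surjective_endomorphism (eA.toLinearMap.comp π)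
      (eA.surjective.comp hπsurj)
    exact fun a b h => this (by simp [h])
  let eπ := LinearEquiv.ofBijective π ⟨hπinj, hπsurj⟩
  let top : T := fun _ => ⟨p - 1, by omega⟩
  let t : A →ₗ[R] R := (LinearMap.proj top).comp eπ.symm.toLinearMap
  have htmon : ∀ e : T, t (mon fun i => e i) = if e = top then 1 else 0 := by
    intro e
    have : eπ.symm (mon fun i => e i) = Pi.single e 1 := by
      rw [LinearEquiv.symm_apply_eq]
      simp [eπ, π, Fintype.linearCombination_apply, Pi.single_apply]
      rw [Finset.sum_eq_single e (fun b _ hb => if_neg hb) (by simp), if_pos rfl]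
    simp [t, this, Pi.single_apply, eq_comm]
  have htmon' : ∀ e : Fin n → ℕ, (∀ i, e i < p) →
      t (mon e) = if e = fun _ => p - 1 then 1 else 0 := by
    intro e he
    rw [show mon e = mon fun i => ((fun i => ⟨e i, he i⟩ : T) i : ℕ) from rfl, htmon]
    exact if_congr ⟨fun h => funext fun i => congrArg Fin.val (congrFun h i),
      fun h => funext fun i => Fin.ext (congrFun h i)⟩ rfl rfl
  -- exceeding monomials have form values in the maximal ideal
  have htbig : ∀ e : Fin n → ℕ, (∃ i, p ≤ e i) → t (mon e) ∈ maximalIdeal R := by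
    rintro e ⟨i, hi⟩
    rw [hmonsplit e i, ← Nat.add_sub_cancel' hi, pow_add, hrel, add_mul, add_mul, mul_assoc,
      mul_assoc (algebraMap R A (c i)), mul_assoc, ← Algebra.smul_def, ← Algebra.smul_def,
      map_add, map_smul, map_smul, smul_eq_mul, smul_eq_mul]
    exact add_mem (Ideal.mul_mem_right _ _ (hc i)) (Ideal.mul_mem_right _ _ (hx i))
  let M : Matrix T T R := Matrix.of fun e f =>
    t ((mon fun i => e i) * mon fun i => p - 1 - (f i : ℕ))
  have hres : (residue R).mapMatrix M = 1 := by
    ext e f
    rw [RingHom.mapMatrix_apply, Matrix.map_apply, Matrix.one_apply]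
    have hmul : ((mon fun i => e i) * mon fun i => p - 1 - (f i : ℕ)) =
        mon fun i => (e i : ℕ) + (p - 1 - (f i : ℕ)) := by
      simp only [mon, ← Finset.prod_mul_distrib, ← pow_add]
    simp only [M, Matrix.of_apply, hmul]
    by_cases hb : ∃ i, p ≤ (e i : ℕ) + (p - 1 - (f i : ℕ))
    · rw [if_neg, residue_eq_zero_iff]
      · exact htbig _ hb
      · rintro rfl
        obtain ⟨i, hi⟩ := hb
        have := (e i).2
        omega
    · push Not at hb
      rw [htmon' _ hb]
      by_cases hef : e = f
      · subst hef
        rw [if_pos rfl, if_pos, map_one]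
        funext i
        have := (e i).2
        omega
      · rw [if_neg hef, if_neg, map_zero]
        intro h
        refine hef (funext fun i => Fin.ext ?_)
        have h' := congrFun h i
        have := (f i).2
        have := (e i).2
        omega
  have hdet : IsUnit M.det := by
    have : residue R M.det = 1 := by rw [RingHom.map_det, hres, Matrix.det_one]
    exact isUnit_of_map_unit (residue R) _ (this ▸ isUnit_one)
  -- representing elements
  let z : (T → R) → A := fun q => ∑ f : T, q f • mon fun i => p - 1 - (f i : ℕ)
  have hz : ∀ q e, t ((mon fun i => (e i : ℕ)) * z q) = M.mulVec q e := fun q e => by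
    simp only [z, Finset.mul_sum, mul_smul_comm, map_sum, map_smul, smul_eq_mul, M, Matrix.mulVec,
      dotProduct, Matrix.of_apply]
    exact Finset.sum_congr rfl fun f _ => mul_comm _ _
  have hext : ∀ z₀ : A, ∀ ψ : A →ₗ[R] R, (∀ e : T, ψ (mon fun i => e i) =
      t ((mon fun i => e i) * z₀)) → ∀ w, ψ w = t (w * z₀) := by
    intro z₀ ψ h w
    have heq : ψ = t.comp ((LinearMap.mul R A).flip z₀) :=
      LinearMap.ext_on hS (by rintro _ ⟨e, rfl⟩; simpa [mul_comm] using h e)
    rw [heq]; rfl
  refine ⟨t, ?_, ?_, ?_⟩
  · intro z₀ h0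
    let rev : T ≃ T :=
      { toFun := fun e i => ⟨p - 1 - (e i : ℕ), by omega⟩
        invFun := fun e i => ⟨p - 1 - (e i : ℕ), by omega⟩
        left_inv := fun e => funext fun i => Fin.ext (by have := (e i).2; simp; omega)
        right_inv := fun e => funext fun i => Fin.ext (by have := (e i).2; simp; omega) }
    obtain ⟨q, rfl⟩ := hπsurj z₀
    have hq : π q = z (q ∘ rev) := by
      simp only [π, z, Fintype.linearCombination_apply]
      refine (Fintype.sum_equiv rev _ _ fun f => ?_).symm
      rfl
    have h1 : M.mulVec (q ∘ rev) = 0 := funext fun e => by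
      rw [← hz, ← hq]; exact h0 _
    have h2 : q ∘ rev = 0 := by
      have := congrArg M⁻¹.mulVec h1
      rwa [Matrix.mulVec_mulVec, Matrix.nonsing_inv_mul _ hdet, Matrix.one_mulVec,
        Matrix.mulVec_zero] at this
    have : q = 0 := funext fun f => by
      obtain ⟨g, rfl⟩ := rev.surjective f
      exact congrFun h2 g
    rw [this, map_zero]
  · intro ψ
    refine ⟨z (M⁻¹.mulVec fun e => ψ (mon fun i => e i)), hext _ ψ fun e => ?_⟩
    rw [hz, Matrix.mulVec_mulVec, Matrix.mul_nonsing_inv _ hdet, Matrix.one_mulVec]
  · intro σ a hσ z₀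
    have : t.comp σ.toLinearMap = t := by
      refine LinearMap.ext_on hS ?_
      rintro _ ⟨e, rfl⟩
      simp only [LinearMap.comp_apply, AlgHom.toLinearMap_apply]
      have hexp : σ (mon fun i => e i) =
          ∑ f ∈ Fintype.piFinset fun i => Finset.range ((e i : ℕ) + 1),
            (∏ i, a i ^ ((e i : ℕ) - f i) * ((e i : ℕ).choose (f i) : R)) • mon f := by
        simp only [mon, map_prod, map_pow, hσ, add_pow, Finset.prod_univ_sum]
        refine Finset.sum_congr rfl fun f _ => ?_
        rw [Algebra.smul_def, map_prod, ← Finset.prod_mul_distrib]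
        refine Finset.prod_congr rfl fun i _ => ?_
        rw [map_mul, map_pow, map_natCast]
        ring
      rw [hexp, map_sum]
      have hb : ∀ f ∈ Fintype.piFinset fun i => Finset.range ((e i : ℕ) + 1),
          ∀ i, f i ≤ (e i : ℕ) := fun f hf i => by
        have := Fintype.mem_piFinset.mp hf i
        rw [Finset.mem_range] at this
        omega
      by_cases he : e = top
      · subst he
        rw [Finset.sum_eq_single (fun _ => p - 1)]
        · simp [top]
        · intro f hf hne
          rw [map_smul, htmon' _ fun i => ((hb f hf i).trans_lt (top i).2), if_neg hne, smul_zero]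
        · intro h
          exact absurd (Fintype.mem_piFinset.mpr fun i => by simp [top]) h
      · rw [htmon, if_neg he]
        refine Finset.sum_eq_zero fun f hf => ?_
        rw [map_smul, htmon' _ fun i => ((hb f hf i).trans_lt (e i).2), if_neg, smul_zero]
        intro h
        refine he (funext fun i => Fin.ext ?_)
        have h1 := congrFun h i
        have h2 := hb f hf i
        have := (e i).2
        simp only [top]
        omega
    exact LinearMap.congr_fun this z₀

end form

theorem skewMonoidAlgebra_symmetric {R : Type u} [CommRing R] {A : Type v} [CommRing A] [Algebra R A]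
    {G : Type w} [Group G] [MulSemiringAction G A] [SMulCommClass G R A] [Finite G]
    (t : A →ₗ[R] R) (hinj : ∀ z, (∀ w, t (w * z) = 0) → z = 0)
    (hsurj : ∀ ψ : A →ₗ[R] R, ∃ z, ∀ w, ψ w = t (w * z)) (hinv : ∀ (h : G) z, t (h • z) = t z) :
    ∃ φ : SkewMonoidAlgebra A G →ₗ[R] R,
      (∀ x y : SkewMonoidAlgebra A G, φ (x * y) = φ (y * x)) ∧
      Function.Injective (fun y : SkewMonoidAlgebra A G => fun x : SkewMonoidAlgebra A G => φ (x * y)) ∧
      ∀ ψ : SkewMonoidAlgebra A G →ₗ[R] R, ∃ y : SkewMonoidAlgebra A G, ∀ x, ψ x = φ (x * y) := by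
  classical
  haveI := Fintype.ofFinite G
  let φ : SkewMonoidAlgebra A G →ₗ[R] R :=
    t.comp ((Finsupp.lapply (1 : G)).comp (SkewMonoidAlgebra.coeffLinearEquiv (S := R)).toLinearMap)
  have hφ : ∀ x, φ x = t (SkewMonoidAlgebra.coeff x 1) := fun x => rfl
  have hone : ∀ (g h : G) (a b : A),
      φ (SkewMonoidAlgebra.single g a * SkewMonoidAlgebra.single h b) =
        if g * h = 1 then t (a * g • b) else 0 := fun g h a b => by
    rw [hφ, SkewMonoidAlgebra.single_mul_single, SkewMonoidAlgebra.coeff_single, Finsupp.single_apply]
    split <;> simp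
  have hcoef : ∀ (y : SkewMonoidAlgebra A G) (g : G) (a : A),
      φ (SkewMonoidAlgebra.single g a * y) = t (a * g • SkewMonoidAlgebra.coeff y g⁻¹) := by
    intro y g a
    induction y using SkewMonoidAlgebra.induction_on with
    | zero => simp
    | single h b =>
      rw [hone, SkewMonoidAlgebra.coeff_single, Finsupp.single_apply]
      by_cases hh : g * h = 1
      · rw [if_pos hh, if_pos (inv_eq_of_mul_eq_one_right hh).symm]
      · rw [if_neg hh, if_neg (fun e : h = g⁻¹ => hh (by rw [e, mul_inv_cancel]))]
        simp
    | add y z hy hz => simp [mul_add, hy, hz, smul_add]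
  refine ⟨φ, fun x y => ?_, fun y y' hyy => ?_, fun ψ => ?_⟩
  · induction x using SkewMonoidAlgebra.induction_on with
    | zero => simp
    | add x z hx hz => simp [mul_add, add_mul, hx, hz]
    | single g a =>
      induction y using SkewMonoidAlgebra.induction_on with
      | zero => simp
      | add x z hx hz => simp [mul_add, add_mul, hx, hz]
      | single h b =>
        rw [hone, hone]
        by_cases hh : g * h = 1
        · have hh' : h * g = 1 := mul_eq_one_comm.mp hh
          rw [if_pos hh, if_pos hh', ← hinv h (a * g • b), smul_mul', ← mul_smul, hh', one_smul,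
            mul_comm]
        · rw [if_neg hh, if_neg (fun e => hh (mul_eq_one_comm.mp e))]
  · refine SkewMonoidAlgebra.ext fun h => sub_eq_zero.mp (hinj _ fun w => ?_)
    have := congrFun hyy (SkewMonoidAlgebra.single h⁻¹ (h⁻¹ • w))
    simp only [hcoef, inv_inv, ← smul_mul', hinv] at this
    rw [mul_sub, map_sub, this, sub_self]
  · have hex : ∀ g : G, ∃ z, ∀ w, ψ (SkewMonoidAlgebra.single g w) = t (w * z) := fun g =>
      hsurj (ψ.comp ((SkewMonoidAlgebra.coeffLinearEquiv (S := R)).symm.toLinearMap.comp
        (Finsupp.lsingle g)))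
    choose z hz using hex
    let y : SkewMonoidAlgebra A G := ⟨Finsupp.equivFunOnFinite.symm fun h => h • z h⁻¹⟩
    refine ⟨y, fun x => ?_⟩
    induction x using SkewMonoidAlgebra.induction_on with
    | zero => simp
    | add x x' hx hx' => simp [add_mul, hx, hx']
    | single g a =>
      rw [hcoef, hz]
      simp [y]

end GrothLib.WildQuot
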